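import Cfsg.Agent.H24.Trans4

/-! Huppert's theorem: the arithmetic and the conclusion. -/

set_option autoImplicit false

namespace Cfsg.Agent.H24

open Subgroup Module
open scoped commutatorElement

theorem three_pow_le {h : ℕ} (e : 3 ^ h ≤ 4 * h + 1) : h ≤ 2 := by
  by_contra h1
  obtain ⟨n, rfl⟩ : ∃ n, h = n + 3 := ⟨h - 3, by omega⟩
  clear h1
  induction n with
  | zero => simp at e
  | succ n ih =>
    have : 3 ^ (n + 1 + 3) = 3 * 3 ^ (n + 3) := by ring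
    have h2 : n + 3 < 3 ^ (n + 3) := Nat.lt_pow_self (by norm_num)
    exact ih (by omega)

theorem huppert_num {p k m d r i g : ℕ} (hp : p.Prime) (hr : r.Prime) (hk : 0 < k) (hm : 2 ≤ m)
    (hd : d * d = r ^ i) (hd1 : d ≠ 1) (hdm : d * d ≤ m * m) (hrq : r ∣ p ^ k - 1)
    (hg : (p ^ k) ^ m - 1 ∣ g) (key : ∀ s j, s.Prime → s ∣ (p ^ k) ^ m - 1 →
      (∀ i, 1 ≤ i → i < m → ¬ s ∣ (p ^ k) ^ i - 1) → ¬ s ∣ k → s ^ j ∣ g → s ^ j ∣ d * d - 1) :
    k = 1 ∧ d = m ∧ ((m = 2 ∧ (p + 1 ≤ 24 → p = 3 ∨ p = 5 ∨ p = 7 ∨ p = 11 ∨ p = 23)) ∨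
      (m = 4 ∧ p = 3)) := by
  have hd0 : d ≠ 0 := by
    rintro rfl
    exact (pow_pos hr.pos i).ne hd
  have hdm' : d ≤ m := Nat.mul_self_le_mul_self_iff.1 hdm
  obtain ⟨c, rfl⟩ : ∃ c, d = c + 2 := ⟨d - 2, by omega⟩
  have e : (c + 2) * (c + 2) - 1 = (c + 1) * (c + 3) := Nat.sub_eq_of_eq_add (by ring)
  rw [e] at key
  have hq : 2 ≤ p ^ k := hp.two_le.trans (Nat.le_self_pow hk.ne' p)
  have hA : ∀ s, s.Prime → s ∣ (p ^ k) ^ m - 1 → (∀ i, 1 ≤ i → i < m → ¬ s ∣ (p ^ k) ^ i - 1) →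
      ¬ s ∣ k → s = m + 1 ∧ c + 2 = m ∧ ¬ s ^ 2 ∣ g := by
    intro s hs h1 h2 h3
    have h4 := Nat.le_of_dvd (Nat.sub_pos_of_lt hs.one_lt)
      (H52.Zsig.dvd_sub_one_of_primitive hq (by omega) hs h1 h2)
    have h5 := key s 1 hs h1 h2 h3 (by rw [pow_one]; exact h1.trans hg)
    rw [pow_one] at h5
    have h6 := hs.one_lt
    have h7 : s = c + 3 := by
      rcases (Nat.Prime.dvd_mul hs).1 h5 with h | h <;> have := Nat.le_of_dvd (by omega) h <;> omega
    refine ⟨by omega, by omega, fun h8 => ?_⟩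
    have h9 := key s 2 hs h1 h2 h3 h8
    rw [← h7, sq] at h9
    have := Nat.le_of_dvd (by omega) (Nat.dvd_of_mul_dvd_mul_right hs.pos h9)
    omega
  have h2r : 2 ∣ c + 2 → r = 2 := fun h => ((Nat.prime_dvd_prime_iff_eq Nat.prime_two hr).1
    (Nat.prime_two.dvd_of_dvd_pow (hd ▸ h.mul_left _))).symm
  by_cases h3 : 3 ≤ k * m
  · by_cases h6 : p = 2 ∧ k * m = 6
    · exfalso
      obtain ⟨rfl, h6⟩ := h6
      have : k ≤ 3 := by nlinarith
      interval_cases k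
      · exact hr.one_lt.ne' (Nat.dvd_one.1 hrq)
      · obtain rfl : m = 3 := by omega
        have := (hA 7 (by norm_num) (by norm_num) (fun i h1 h2 => by
          interval_cases i <;> norm_num) (by norm_num)).1
        omega
      · rw [h2r (by omega)] at hrq
        norm_num at hrq
    obtain ⟨s, hs, h1, h2⟩ := H52.Zsig.zsigmondy hp.two_le h3 h6
    have h4 := Nat.le_of_dvd (Nat.sub_pos_of_lt hs.one_lt)
      (H52.Zsig.dvd_sub_one_of_primitive hp.two_le (by omega) hs h1 h2)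
    have h5 := hs.one_lt
    obtain ⟨h7, h8, -⟩ := hA s hs (by rwa [← pow_mul]) (fun i a1 a2 => by
      rw [← pow_mul]
      exact h2 _ (Nat.mul_pos hk a1) (Nat.mul_lt_mul_of_pos_left a2 hk)) fun h => by
        have := Nat.le_of_dvd hk h
        have := Nat.mul_le_mul_left k hm
        omega
    obtain rfl : k = 1 := by
      by_contra h
      have := Nat.mul_le_mul_right m (show 2 ≤ k by omega)
      omega
    refine ⟨rfl, h8, Or.inr ?_⟩
    simp only [pow_one, one_mul] at *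
    have h9 : 2 ∣ m := by
      have := hs.eq_two_or_odd
      omega
    obtain rfl := h2r (h8 ▸ h9)
    obtain ⟨t, -, ht⟩ := (Nat.dvd_prime_pow Nat.prime_two).1 (hd ▸ Dvd.intro _ rfl : c + 2 ∣ 2 ^ i)
    rw [h8] at ht
    obtain ⟨u, rfl⟩ : ∃ u, t = u + 2 := by
      rcases t with _ | _ | t
      exacts [by omega, by omega, ⟨t, rfl⟩]
    have hp2 := hp.two_le
    have hp3 : p % 2 = 1 := by omega
    have hm2 : m = 2 * 2 ^ (u + 1) := by rw [ht]; ring
    generalize hh : 2 ^ (u + 1) = h at hm2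
    have hpos : 1 ≤ p ^ h := Nat.one_le_pow _ _ hp.pos
    have e1 : p ^ m - 1 = (p ^ h + 1) * (p ^ h - 1) := by
      rw [hm2, mul_comm 2, pow_mul, ← Nat.sq_sub_sq, one_pow]
    have e2 : p ^ h % 4 = 1 := by
      have : p ^ h = (p ^ 2) ^ 2 ^ u := by rw [← pow_mul, ← hh, pow_succ']
      have h10 : p ^ 2 % 4 = 1 := by
        rw [Nat.pow_mod]
        have : p % 4 = 1 ∨ p % 4 = 3 := by omega
        rcases this with h | h <;> rw [h]
      rw [this, Nat.pow_mod, h10, one_pow]; rfl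
    obtain ⟨v, hv⟩ : ∃ v, p ^ h + 1 = 2 * v := ⟨(p ^ h + 1) / 2, by omega⟩
    have hv' : v ∣ p ^ h + 1 := Dvd.intro_left _ hv.symm
    have hv2 : v ∣ p ^ m - 1 := e1 ▸ hv'.mul_right _
    have k1 : ∀ s', s'.Prime → s' ∣ v → s' = m + 1 ∧ ¬ s' ^ 2 ∣ g := fun s' a1 a2 => by
      have a3 := hA s' a1 (a2.trans hv2) (fun j b1 b2 b3 => ?_) fun b => a1.one_lt.ne' (Nat.dvd_one.1 b)
      · exact ⟨a3.1, a3.2.2⟩
      have b4 := Nat.dvd_gcd b3 (a2.trans hv2)
      rw [Nat.pow_sub_one_gcd_pow_sub_one] at b4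
      obtain ⟨w, b5, b6⟩ := (Nat.dvd_prime_pow Nat.prime_two).1
        ((Nat.gcd_dvd_right j m).trans (dvd_of_eq ht))
      have b7 : w ≤ u + 1 := by
        by_contra b8
        have b9 := Nat.gcd_le_left m b1
        rw [b6, show w = u + 2 by omega, ← ht] at b9
        omega
      have b8 : s' ∣ p ^ h - 1 := b4.trans (Nat.pow_sub_one_dvd_pow_sub_one _
        (b6 ▸ hh ▸ pow_dvd_pow 2 b7))
      have b9 := Nat.dvd_sub (a2.trans hv') b8
      rw [show p ^ h + 1 - (p ^ h - 1) = 2 by omega] at b9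
      rw [(Nat.prime_dvd_prime_iff_eq a1 Nat.prime_two).1 b9] at a2
      omega
    have k2 := Nat.eq_prime_pow_of_unique_prime_dvd (n := v) (p := m + 1) (by omega)
      fun {s'} a1 a2 => (k1 s' a1 a2).1
    generalize v.primeFactorsList.length = a at k2
    have k3 : v ≤ m + 1 := by
      rcases a with _ | _ | a
      · rw [k2, pow_zero]; omega
      · rw [k2, zero_add, pow_one]
      · refine absurd ((Dvd.intro ((m + 1) ^ a) ?_).trans (hv2.trans hg))
          (k1 (m + 1) (h7 ▸ hs) (Dvd.intro ((m + 1) ^ (a + 1)) ?_)).2 <;> rw [k2] <;> ring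
    have k4 : 3 ^ h ≤ p ^ h := Nat.pow_le_pow_left (by omega) h
    have k5 := three_pow_le (h := h) (by omega)
    obtain rfl : h = 2 := by
      have : 2 ∣ h := hh ▸ Dvd.intro_left _ (pow_succ 2 u).symm
      omega
    refine ⟨hm2, ?_⟩
    by_contra k6
    have : 5 ^ 2 ≤ p ^ 2 := Nat.pow_le_pow_left (by omega) 2
    omega
  · obtain rfl : k = 1 := by nlinarith
    obtain rfl : m = 2 := by omega
    obtain rfl : c = 0 := by omega
    refine ⟨rfl, rfl, Or.inl ⟨rfl, fun h => ?_⟩⟩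
    rw [h2r (by omega)] at hrq
    have k : ∀ s, s.Prime → s ∣ (p ^ 1) ^ 2 - 1 → ¬ s ∣ (p ^ 1) ^ 1 - 1 → s = 3 ∧ ¬ s ^ 2 ∣ g :=
      fun s a1 a2 a3 => by
      have := hA s a1 a2 (fun j b1 b2 => by rwa [show j = 1 by omega])
        fun b => a1.one_lt.ne' (Nat.dvd_one.1 b)
      exact ⟨this.1, this.2.2⟩
    have h13 : p ≠ 13 := by
      rintro rfl
      exact absurd (k 7 (by norm_num) (by norm_num) (by norm_num)).1 (by norm_num)
    have h17 : p ≠ 17 := by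
      rintro rfl
      exact (k 3 (by norm_num) (by norm_num) (by norm_num)).2 (Dvd.dvd.trans (by norm_num) hg)
    have h19 : p ≠ 19 := by
      rintro rfl
      exact absurd (k 5 (by norm_num) (by norm_num) (by norm_num)).1 (by norm_num)
    have h24 : p < 24 := by omega
    clear key hA k hg
    interval_cases p <;> simp_all (config := { decide := true })

variable {G V : Type*} [Group G] [AddCommGroup V] [DistribMulAction G V]

theorem FS.core {A N : Subgroup G} {F : Type} [Field F] [Module F V] {σ : G →* RingAut F}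
    (h : FS V A F σ) [Nontrivial V] [FaithfulSMul G V] [Finite G] [Finite V] [Fintype F]
    (hA : MaxAb A) (hN : MinNA A N) (hc : ∀ x ∈ N, ∀ y ∈ N, ⁅x, y⁆ ∈ A)
    (ht : ∀ v w : V, v ≠ 0 → w ≠ 0 → ∃ g : G, g • v = w) (hm : finrank F V ≠ 1) {r : ℕ}
    (hr : r.Prime) (hP : IsPGroup r N) (hpow : ∀ x ∈ N, x ^ r ∈ A) {p k : ℕ} [hp : Fact p.Prime]
    (hF : Fintype.card F = p ^ k) :
    k = 1 ∧ centralizer (A : Set G) = ⊤ ∧ centralizer (N : Set G) = A ∧
      ((finrank F V = 2 ∧ A.relIndex N = 4 ∧ (p = 3 ∨ p = 5 ∨ p = 7 ∨ p = 11 ∨ p = 23)) ∨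
        (finrank F V = 4 ∧ A.relIndex N = 16 ∧ p = 3)) := by
  have := Fact.mk hr
  obtain ⟨d, hd⟩ := h.exists_sq hA hN hc
  obtain ⟨i, hi⟩ := hP.index (A.subgroupOf N)
  have hk : 0 < k := by
    rcases k with _ | k
    · exact absurd hF Fintype.one_lt_card.ne'
    · omega
  have h1 : r ∣ p ^ k - 1 := by
    obtain ⟨x, hx, y, hy, e⟩ : ∃ x ∈ N, ∃ y ∈ N, x * y ≠ y * x := by
      by_contra e
      push Not at e
      exact hN.nc (comm_iff.2 e)
    rw [← hF, ← orderOf_eq_prime (x := ⁅x, y⁆) (p := r) (by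
      rw [← comm_pow (hN.le hy) (hc x hx y hy), commutatorElement_eq_one_iff_mul_comm]
      exact (hN.le hx _ (hpow y hy)).symm) (mt commutatorElement_eq_one_iff_mul_comm.1 e)]
    exact (A.orderOf_dvd_natCard (hc x hx y hy)).trans h.card_dvd
  have h2 := trans_dvd ht
  rw [FS.card_V (F := F), hF] at h2
  obtain ⟨rfl, h3, h4⟩ := huppert_num (d := d) (i := i) hp.out hr hk (FS.two_le hm) (hd ▸ hi)
    (by rintro rfl; exact hN.not_le hA (relIndex_eq_one.1 hd)) (hd ▸ h.relIndex_le hA hN hc) h1 h2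
    fun s j a1 a2 a3 a4 a5 => hd ▸ h.key_dvd hA hN hc hF a1 hm (hF ▸ a2) (hF ▸ a3) a4 a5
  have h5 : centralizer (A : Set G) = ⊤ := index_eq_one.1 (Nat.dvd_one.1 (h.index_dvd hF))
  have h6 := h.cent_le hA hN hc (h3 ▸ hd)
  rw [h5, top_inf_eq] at h6
  refine ⟨rfl, h5, le_antisymm h6 (le_centralizer_iff.1 hN.le), h4.imp (fun h7 => ?_) fun h7 => ?_⟩
  · have h8 : A.relIndex N = 4 := by rw [hd, h3, h7.1]
    refine ⟨h7.1, h8, h7.2 ?_⟩
    have h9 := Nat.mul_le_mul (Nat.le_of_dvd (Nat.sub_pos_of_lt Fintype.one_lt_card) h.card_dvd)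
      (h.index_le hA hN hc h8 h7.1 h5)
    have h10 := Nat.le_of_dvd Nat.card_pos h2
    rw [A.card_mul_index, hF] at h9
    rw [h7.1] at h10
    obtain ⟨q, rfl⟩ : ∃ q, p = q + 2 := ⟨p - 2, by have := hp.out.two_le; omega⟩
    have e1 : ((q + 2) ^ 1) ^ 2 - 1 = (q + 1) * (q + 3) := Nat.sub_eq_of_eq_add (by ring)
    rw [e1] at h10
    rw [pow_one] at h9
    exact Nat.le_of_mul_le_mul_left (h10.trans h9) (by omega)
  · exact ⟨h7.1, by rw [hd, h3, h7.1], h7.2⟩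

theorem ne_comm_of_solvable [Group.IsSolvable G] {N : Subgroup G} (h : ¬ IsMulCommutative N) :
    ⁅N, N⁆ ≠ N :=
  (Group.IsSolvable.commutator_lt_of_ne_bot (by rintro rfl; exact h inferInstance)).ne

/-- Huppert's theorem -/
theorem huppert [Nontrivial V] [FaithfulSMul G V] [Finite G] [Finite V] [Group.IsSolvable G]
    (ht : ∀ v w : V, v ≠ 0 → w ≠ 0 → ∃ g : G, g • v = w) :
    (∃ (F : Type) (_ : Field F) (_ : Fintype F) (e : V ≃+ F),
        ∀ g : G, ∃ (a : F) (σ : F ≃+* F), ∀ v : V, e (g • v) = a * σ (e v)) ∨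
    Nat.card V ∈ ({9, 25, 49, 121, 529, 81} : Set ℕ) := by
  obtain ⟨A, hA⟩ := exists_maxAb (G := G)
  have := hA.normal
  obtain ⟨F, _, _, _, σ, h⟩ := exists_FS ht A hA.comm
  by_cases hm : finrank F V = 1
  · exact Or.inl ⟨F, _, ‹_›, h.semilin hm⟩
  right
  obtain ⟨N, -, hN⟩ := exists_minNA inferInstance le_rfl (h.cent_nc hA ht hm)
  obtain ⟨r, h1, h2, h3, h4⟩ := (hN.cases hA).resolve_left (ne_comm_of_solvable hN.nc)
  obtain ⟨p, hp⟩ := CharP.exists F
  obtain ⟨k, h5, h6⟩ := FiniteField.card F p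
  have := Fact.mk h5
  obtain ⟨h7, -, -, h8⟩ := h.core hA hN h3 ht hm h1 h2 h4 h6
  rw [FS.card_V (F := F), h6, h7]
  rcases h8 with ⟨e, -, rfl | rfl | rfl | rfl | rfl⟩ | ⟨e, -, rfl⟩ <;> rw [e] <;> simp

end Cfsg.Agent.H24
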