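import Cfsg.Agent.H24.Trans6

/-! Zassenhaus' theorem on groups that are regular on the non-zero vectors. -/

set_option autoImplicit false

namespace Cfsg.Agent.H24

open Subgroup Module
open scoped commutatorElement

/-- regular on the non-zero vectors -/
structure Reg (G V : Type*) [Group G] [AddCommGroup V] [DistribMulAction G V] : Prop where
  ht : ∀ v w : V, v ≠ 0 → w ≠ 0 → ∃ g : G, g • v = w
  hf : ∀ g : G, g ≠ 1 → ∀ v : V, g • v = v → v = 0

variable {G V : Type*} [Group G] [AddCommGroup V] [DistribMulAction G V]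

theorem FS.cent_comm {A : Subgroup G} {F : Type} [Field F] [Module F V] {σ : G →* RingAut F}
    (h : FS V A F σ) [FaithfulSMul G V] (h1 : finrank F V = 1) :
    IsMulCommutative (centralizer (A : Set G)) := by
  obtain ⟨v, -, hv⟩ := finrank_eq_one_iff'.1 h1
  refine ⟨⟨fun a b => h.L_inj (LinearMap.ext fun w => ?_)⟩⟩
  obtain ⟨c, rfl⟩ := hv w
  obtain ⟨x, hx⟩ := hv (h.L a v)
  obtain ⟨y, hy⟩ := hv (h.L b v)
  simp only [map_mul, Module.End.mul_apply, map_smul, ← hx, ← hy, smul_smul, mul_comm x y]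

theorem FS.comm_le {A : Subgroup G} {F : Type} [Field F] [Module F V] {σ : G →* RingAut F}
    (h : FS V A F σ) [Fintype F] : commutator G ≤ centralizer (A : Set G) := by
  have := H29.isCyclic_ringAut (F := F)
  let _ := IsCyclic.commGroup (α := RingAut F)
  exact h.ker ▸ Abelianization.commutator_subset_ker σ

namespace Reg
variable (R : Reg G V)
include R

theorem dvd_sub [Finite G] [Finite V] (N : Subgroup G) (W : AddSubgroup V)
    (hW : ∀ n ∈ N, ∀ w ∈ W, n • w ∈ W) : Nat.card N ∣ Nat.card W - 1 := by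
  let _ : MulAction N W :=
    { smul := fun n w => ⟨_, hW n n.2 w w.2⟩
      one_smul := fun w => Subtype.ext (one_smul G (w : V))
      mul_smul := fun a b w => Subtype.ext (mul_smul (a : G) (b : G) (w : V)) }
  exact card_dvd_of_free (0 : W) (fun g => Subtype.ext (smul_zero (g : G))) fun x hx g hg => by
    by_contra e
    exact hx (Subtype.ext (R.hf g (fun e' => e (Subtype.ext e')) x (congrArg Subtype.val hg)))

theorem irr [Finite G] [Finite V] {p : ℕ} (hp : p.Prime) (hV : Nat.card V = p ^ 2) {N : Subgroup G}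
    (hN : ¬ Nat.card N ∣ p - 1) (W : AddSubgroup V) (hW : ∀ n ∈ N, ∀ w ∈ W, n • w ∈ W) :
    W = ⊥ ∨ W = ⊤ := by
  obtain ⟨i, hi, e⟩ := (Nat.dvd_prime_pow hp).1 (hV ▸ W.card_addSubgroup_dvd_card)
  have h1 := R.dvd_sub N W hW
  interval_cases i
  · exact Or.inl (AddSubgroup.card_eq_one.1 e)
  · rw [e, pow_one] at h1
    exact absurd h1 hN
  · exact Or.inr (W.eq_top_of_card_eq (e.trans hV.symm))

variable [Nontrivial V]

theorem faithful : FaithfulSMul G V := ⟨fun {a b} h => by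
  obtain ⟨v, hv⟩ := exists_ne (0 : V)
  by_contra e
  exact hv (R.hf (b⁻¹ * a) (fun e' => e (inv_mul_eq_one.1 e').symm) v
    (by rw [mul_smul, h, inv_smul_smul]))⟩

variable [Finite G] [Finite V]

theorem fpf : Fpf G := fpf_of_distrib R.hf

theorem card_eq : Nat.card G = Nat.card V - 1 :=
  Nat.dvd_antisymm (card_dvd_of_free (0 : V) smul_zero fun x hx g hg => by_contra fun e =>
    hx (R.hf g e x hg)) (trans_dvd R.ht)

theorem nonsolv {A : Subgroup G} (hA : MaxAb A) {φ : SL5 →* G} (hφ : Function.Injective φ)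
    (hn : φ.range.Normal) (h3 : ∀ w : G, w ^ 3 = 1 → w ∈ φ.range) {f : G →* Equiv.Perm (Fin 5)}
    (hk : f.ker = centralizer (φ.range : Set G)) (hf : ∀ s, f (φ s) = SL5.proj s) :
    centralizer (φ.range : Set G) = A ∧ Nat.card G = 60 * Nat.card A ∧
      ∃ p, (p = 11 ∨ p = 29 ∨ p = 59) ∧ Nat.card V = p ^ 2 := by
  have := R.faithful
  have := hA.normal
  have h := R.fpf
  obtain ⟨F, _, _, _, σ, hS⟩ := exists_FS R.ht A hA.comm
  have h1 : φ.range ≤ centralizer (A : Set G) := by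
    refine le_trans ?_ hS.comm_le
    rw [MonoidHom.range_eq_map, ← SL5.commutator_eq_top, commutator_def, map_commutator]
    exact commutator_mono le_top le_top
  have hm : finrank F V ≠ 1 := fun e => by
    have h2 := comm_iff.1 (hS.cent_comm e) _ (h1 ⟨SL5.A, rfl⟩) _ (h1 ⟨SL5.B, rfl⟩)
    rw [← map_mul, ← map_mul] at h2
    exact absurd (hφ h2) (by decide +kernel)
  have hA1 : A ≤ centralizer (φ.range : Set G) := le_centralizer_iff.1 h1
  have h2 : f.ker ⊓ centralizer (A : Set G) = A := by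
    rw [hk]
    refine le_antisymm (hA.max _ inferInstance inf_le_right (comm_iff.1 ?_)) (le_inf hA1 hA.le_cent)
    by_contra hc
    obtain ⟨N, hN1, hN⟩ := exists_minNA inferInstance inf_le_right hc
    obtain ⟨x, hx, e⟩ := hN.exists_four hA h
    have h4 := orderOf_dvd_of_pow_eq_one ((h.cent_facts hφ h3 (hN1 hx).1).2.1
      (e ▸ pow_orderOf_eq_one x))
    rw [e] at h4
    exact absurd h4 (by decide)
  have h4 : A.relIndex (centralizer (A : Set G)) = Nat.card ((centralizer (A : Set G)).map f) := by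
    rw [← relIndex_ker, ← inf_relIndex_right f.ker, h2]
  have h5 : 60 ∣ A.relIndex (centralizer (A : Set G)) := by
    rw [h4, ← SL5.card_A5, ← SL5.proj_range]
    refine card_dvd_of_le ?_
    rintro _ ⟨s, rfl⟩
    exact ⟨_, h1 ⟨s, rfl⟩, hf s⟩
  have h6 : A.relIndex (centralizer (A : Set G)) ∣ 120 := by
    rw [h4]
    refine (card_subgroup_dvd_card _).trans ?_
    rw [Nat.card_perm, Nat.card_eq_fintype_card (α := Fin 5), Fintype.card_fin]
    decide
  obtain ⟨p, hp⟩ := CharP.exists F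
  obtain ⟨k, h7, hF⟩ := FiniteField.card F p
  have := Fact.mk h7
  have h8 : Nat.card G = (centralizer (A : Set G)).index * A.relIndex (centralizer (A : Set G)) *
      Nat.card A := by
    rw [mul_comm (index _), relIndex_mul_index hA.le_cent, mul_comm, card_mul_index]
  have hz1 : φ (-1) ≠ 1 := fun e => SL5.neg_one_ne_one (hφ (by rw [e, map_one]))
  have hz : φ (-1) ^ 2 = 1 := by rw [← map_pow]; simp
  obtain ⟨a1, a2, a3, a4⟩ := sl5_num' h7 k.pos (FS.two_le hm) (hS.index_dvd hF) h5 h6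
    (by rw [← h8, R.card_eq, FS.card_V (F := F), hF]) (hF ▸ hS.card_dvd)
    (by
      rw [← orderOf_eq_prime hz hz1]
      exact A.orderOf_dvd_natCard (h2.le ⟨hk.ge fun g _ => h.central_invol hz1 hz g,
        fun g _ => h.central_invol hz1 hz g⟩))
    ((h.subgroup A).not_four_dvd fun c hc =>
      Subtype.ext ((h.cent_facts hφ h3 (hA1 c.2)).2.1 (congrArg Subtype.val hc)))
    fun hd => by
      obtain ⟨x, hx⟩ := exists_prime_orderOf_dvd_card' 3 hd
      rw [show x = 1 from Subtype.ext ((h.cent_facts hφ h3 (hA1 x.2)).1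
        (congrArg Subtype.val (hx ▸ pow_orderOf_eq_one x))), orderOf_one] at hx
      exact absurd hx (by decide)
  have h9 := Nat.dvd_one.1 (a1 ▸ hS.index_dvd hF)
  refine ⟨?_, by rw [h8, h9, a3, one_mul], p, a4, by rw [FS.card_V (F := F), hF, a1, a2, pow_one]⟩
  rw [← h2, index_eq_one.1 h9, inf_top_eq, hk]

theorem q8 {A N : Subgroup G} (hA : MaxAb A) (hN : MinNA A N) (e : N ≃* QuaternionGroup 2) :
    centralizer (A : Set G) = ⊤ ∧ centralizer (N : Set G) = A ∧ A.relIndex N = 4 ∧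
      ∃ p, (p = 3 ∨ p = 5 ∨ p = 7 ∨ p = 11 ∨ p = 23) ∧ Nat.card V = p ^ 2 ∧ Nat.card A ∣ p - 1 := by
  have := R.faithful
  have := hA.normal
  have h8 : Nat.card N = 8 := by
    rw [Nat.card_congr e.toEquiv, Nat.card_eq_fintype_card, QuaternionGroup.card]
  obtain ⟨F, _, _, _, σ, hS⟩ := exists_FS R.ht A hA.comm
  have hm : finrank F V ≠ 1 := fun e => hN.nc (comm_iff.2 fun a ha b hb =>
    comm_iff.1 (hS.cent_comm e) a (hN.le ha) b (hN.le hb))
  obtain ⟨-, h1, h2, h3⟩ := (hN.q8_or hA R.fpf).resolve_right fun ⟨e'⟩ => by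
    rw [Nat.card_congr e'.toEquiv, SL5.card_eq] at h8
    exact absurd h8 (by decide)
  obtain ⟨p, hp⟩ := CharP.exists F
  obtain ⟨k, h7, hF⟩ := FiniteField.card F p
  have := Fact.mk h7
  obtain ⟨a1, a2, a3, ⟨a4, a5, a6⟩ | ⟨-, a4, -⟩⟩ :=
    hS.core hA hN h2 R.ht hm Nat.prime_two h1 h3 hF
  · rw [a1, pow_one] at hF
    exact ⟨a2, a3, a5, p, a6, by rw [FS.card_V (F := F), hF, a4], hF ▸ hS.card_dvd⟩
  · have h4 := relIndex_dvd_card A N
    rw [a4, h8] at h4
    exact absurd h4 (by decide)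

theorem sl5 {A N : Subgroup G} (hA : MaxAb A) (e : N ≃* SL5) :
    centralizer (N : Set G) = A ∧ ∃ p, (p = 11 ∨ p = 29 ∨ p = 59) ∧ Nat.card V = p ^ 2 := by
  obtain ⟨φ, hφ, hn, h3, f, hk, hf⟩ := R.fpf.exists_SL5 fun h =>
    SL5.not_isSolvable (Group.isSolvable_of_surjective (f := e.toMonoidHom) e.surjective)
  obtain ⟨h1, -, h2⟩ := R.nonsolv hA hφ hn h3 hk hf
  suffices N = φ.range from ⟨this ▸ h1, h2⟩
  refine eq_of_le_of_card_ge (fun x hx => ?_) ?_
  · have h4 : Subgroup.closure {SL5.A, SL5.B, SL5.C} ≤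
        φ.range.comap (N.subtype.comp e.symm.toMonoidHom) := by
      rw [closure_le]
      rintro t (rfl | rfl | rfl)
      · exact h3 _ (by rw [← map_pow, SL5.A3, map_one])
      · exact h3 _ (by rw [← map_pow, SL5.B3, map_one])
      · exact h3 _ (by rw [← map_pow, SL5.C3, map_one])
    obtain ⟨s, hs⟩ := h4 (SL5.closure_ABC ▸ mem_top (e ⟨x, hx⟩))
    exact ⟨s, hs.trans (congrArg Subtype.val (e.symm_apply_apply _))⟩
  · rw [Nat.card_congr e.toEquiv, Nat.card_congr (MonoidHom.ofInjective hφ).toEquiv]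

theorem min_irr {A N : Subgroup G} (hA : MaxAb A) (hN : MinNA A N) :
    (∀ W : AddSubgroup V, (∀ n ∈ N, ∀ w ∈ W, n • w ∈ W) → W = ⊥ ∨ W = ⊤) ∧
      centralizer (N : Set G) = A := by
  rcases hN.q8_or hA R.fpf with ⟨⟨e⟩, -⟩ | ⟨⟨e⟩⟩
  · obtain ⟨-, h1, -, p, h2, h3, -⟩ := R.q8 hA hN e
    refine ⟨R.irr (by rcases h2 with rfl | rfl | rfl | rfl | rfl <;> norm_num) h3 ?_, h1⟩
    rw [Nat.card_congr e.toEquiv, Nat.card_eq_fintype_card, QuaternionGroup.card]
    rcases h2 with rfl | rfl | rfl | rfl | rfl <;> norm_num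
  · obtain ⟨h1, p, h2, h3⟩ := R.sl5 hA e
    refine ⟨R.irr (by rcases h2 with rfl | rfl | rfl <;> norm_num) h3 ?_, h1⟩
    rw [Nat.card_congr e.toEquiv, SL5.card_eq]
    rcases h2 with rfl | rfl | rfl <;> norm_num

theorem nonsolv_iso (hG : ¬ Group.IsSolvable G) : (Nat.card V = 121 ∧ Nonempty (G ≃* SL5)) ∨
    (Nat.card V = 841 ∧ Nonempty (G ≃* SL5 × Multiplicative (ZMod 7))) ∨
    (Nat.card V = 3481 ∧ Nonempty (G ≃* SL5 × Multiplicative (ZMod 29))) := by
  obtain ⟨φ, hφ, hn, h3, f, hk, hf⟩ := R.fpf.exists_SL5 hG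
  obtain ⟨A, hA⟩ := exists_maxAb (G := G)
  obtain ⟨h1, h2, p, h4, h5⟩ := R.nonsolv hA hφ hn h3 hk hf
  have h6 := R.card_eq
  rw [h5] at h6
  rcases h4 with rfl | rfl | rfl
  · exact Or.inl ⟨h5, ⟨(MulEquiv.ofBijective φ ((Nat.bijective_iff_injective_and_card φ).2
      ⟨hφ, by rw [SL5.card_eq, h6]; rfl⟩)).symm⟩⟩
  · have : Fact (Nat.Prime 7) := ⟨by norm_num⟩
    exact Or.inr (Or.inl ⟨h5, prod_equiv φ hφ h1.ge (by omega) (by rw [SL5.card_eq]; decide)
      (by rw [SL5.card_eq, h6]; rfl)⟩)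
  · have : Fact (Nat.Prime 29) := ⟨by norm_num⟩
    exact Or.inr (Or.inr ⟨h5, prod_equiv φ hφ h1.ge (by omega) (by rw [SL5.card_eq]; decide)
      (by rw [SL5.card_eq, h6]; rfl)⟩)

end Reg

end Cfsg.Agent.H24
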