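import Mathlib

set_option autoImplicit false

namespace Cfsg.Agent.H24.Deg11

/-- discrete logarithm to base 3 (of `x` or of `x / 2`) modulo 11 -/
def lg (x : ℕ) : ℕ := [0, 0, 0, 1, 4, 3, 1, 2, 4, 2, 3].getD x 0

/-- the residue class of `x` : `0` for zero, `1` for squares, `2` for non-squares -/
def cl (x : ℕ) : ℕ := [0, 1, 2, 1, 1, 1, 2, 2, 2, 1, 2].getD x 0

/-- the map `c` with `c (3 x) = 3 ^ k c x`, `c 1 = u`, `c 2 = v` -/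
def cN (k u v x : ℕ) : ℕ :=
  (3 ^ (k * lg x) * (if cl x = 0 then 0 else if cl x = 1 then u else v)) % 11

/-- the generators -/
def gen (k u v i x : ℕ) : ℕ :=
  if i = 0 then (x + 1) % 11 else if i = 1 then (3 * x) % 11 else if i = 2 then cN k u v x
  else (10 * x) % 11

/-- evaluation of a word -/
def evW (k u v : ℕ) (w : List ℕ) (x : ℕ) : ℕ := w.foldr (fun i y => gen k u v i y) x

/-- the power of a word moves exactly three points -/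
def moves3 (k u v : ℕ) (w : List ℕ × ℕ) : Bool :=
  (Finset.univ.filter fun y : Fin 11 => (evW k u v w.1)^[w.2] y.val ≠ y.val).card == 3

/-- the map `c` is not injective -/
def noninj (k u v : ℕ) : Bool :=
  (List.range 11).any (fun y => y != 1 && cN k u v 1 == cN k u v y) || cN k u v 2 == 0

/-- all letters are below `n` -/
def small (n : ℕ) (w : List ℕ) : Bool := w.all (· < n)

/-- transitivity certificate -/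
def trans4 (u v : ℕ) (W : List (List ℕ) × List (List ℕ)) : Bool :=
  (List.range 11).all fun z =>
    (z < 2 || W.1.any fun w => small 3 w && evW 2 u v w 0 == 0 && evW 2 u v w 1 == 1 &&
      evW 2 u v w 2 == z) &&
    (z < 3 || W.2.any fun w => small 3 w && evW 2 u v w 0 == 0 && evW 2 u v w 1 == 1 &&
      evW 2 u v w 2 == 2 && evW 2 u v w 3 == z)

/-- certificate words -/
def T1 : List (List ℕ × ℕ) :=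
  [([], 0), ([], 0), ([], 0), ([], 0), ([], 0), ([], 0), ([], 0), ([], 0), ([], 0), ([], 0), ([],
  0), ([], 0), ([], 0), ([], 0), ([], 0), ([], 0), ([], 0), ([0, 1, 2, 2], 4), ([0, 1, 2], 4),
  ([0, 1, 1, 1, 2], 4), ([], 0), ([0, 2], 7), ([], 0), ([0, 0, 1, 1, 2], 4), ([], 0), ([0, 1, 2],
  10), ([], 0), ([0, 2, 2, 2], 4), ([], 0), ([], 0), ([], 0), ([0, 2], 10), ([], 0), ([], 0),
  ([], 0), ([0, 1, 1, 2], 4), ([], 0), ([], 0), ([], 0), ([], 0), ([0, 2, 2], 4), ([0, 0, 2, 2],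
  4), ([], 0), ([0, 2], 4), ([], 0), ([], 0), ([0, 0, 1, 1, 1, 2], 4), ([], 0), ([], 0), ([], 0),
  ([0, 2, 2], 4), ([0, 0, 2], 4), ([], 0), ([], 0), ([0, 2], 7), ([], 0), ([], 0), ([0, 1, 1, 1,
  2], 4), ([], 0), ([], 0), ([], 0), ([0, 0, 2], 4), ([0, 2], 4), ([0, 2, 2], 4), ([], 0), ([],
  0), ([], 0), ([], 0), ([], 0), ([0, 0, 1, 2], 4), ([0, 1, 1, 2], 4), ([0, 1, 0, 2, 0, 2], 5),
  ([], 0), ([], 0), ([], 0), ([0, 2], 10), ([], 0), ([], 0), ([0, 1, 2], 4), ([], 0), ([], 0),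
  ([0, 0, 2, 0, 2], 7), ([0, 0, 0, 2, 0, 2], 5), ([], 0), ([], 0), ([], 0), ([0, 0, 2], 4), ([],
  0), ([], 0), ([0, 1, 0, 2, 0, 2], 5), ([], 0), ([0, 1, 2], 10), ([0, 0, 2, 2, 2], 4), ([], 0),
  ([], 0), ([], 0), ([], 0), ([0, 0, 2], 4), ([], 0), ([], 0), ([], 0), ([0, 2], 7), ([], 0),
  ([], 0), ([], 0), ([0, 1, 2], 4), ([], 0), ([0, 2], 4), ([], 0), ([0, 0, 2], 4), ([], 0), ([0,
  0, 2], 10), ([], 0), ([0, 2], 4), ([0, 0, 2], 10), ([0, 2], 4), ([], 0), ([], 0), ([], 0), ([],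
  0), ([], 0)]

/-- certificate words -/
def T2 : List (List ℕ × ℕ) :=
  [([], 0), ([], 0), ([], 0), ([], 0), ([], 0), ([], 0), ([], 0), ([], 0), ([], 0), ([], 0), ([],
  0), ([], 0), ([], 0), ([0, 2, 2, 2], 5), ([], 0), ([], 0), ([], 0), ([], 0), ([0, 0, 1, 2], 4),
  ([0, 1, 2, 1], 5), ([], 0), ([], 0), ([], 0), ([0, 2, 1, 1], 8), ([], 0), ([0, 2, 1, 2], 4),
  ([0, 2, 1, 1], 4), ([0, 0, 2], 4), ([], 0), ([], 0), ([], 0), ([0, 0, 1, 2], 8), ([], 0), ([],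
  0), ([], 0), ([0, 2, 1], 5), ([], 0), ([], 0), ([], 0), ([0, 0, 2, 1], 5), ([], 0), ([], 0),
  ([], 0), ([0, 0, 2], 4), ([], 0), ([], 0), ([], 0), ([], 0), ([], 0), ([], 0), ([0, 0, 2, 1],
  4), ([], 0), ([0, 2], 7), ([], 0), ([0, 2, 1, 1], 5), ([], 0), ([], 0), ([0, 2], 4), ([], 0),
  ([], 0), ([], 0), ([], 0), ([0, 2], 5), ([], 0), ([], 0), ([0, 0, 2], 5), ([], 0), ([0, 1, 2,
  1], 4), ([], 0), ([0, 1, 2, 1], 8), ([0, 0, 2, 1, 1], 4), ([0, 0, 2], 8), ([], 0), ([], 0),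
  ([], 0), ([0, 2, 2, 1], 4), ([], 0), ([], 0), ([0, 2, 2, 2], 4), ([], 0), ([0, 2, 1], 4), ([0,
  1, 2, 0, 2], 7), ([0, 0, 2, 2], 4), ([], 0), ([], 0), ([], 0), ([0, 2, 1], 8), ([], 0), ([],
  0), ([0, 2, 2], 4), ([], 0), ([0, 0, 2, 1], 8), ([0, 2], 8), ([0, 2], 4), ([], 0), ([], 0),
  ([], 0), ([0, 2], 8), ([], 0), ([], 0), ([], 0), ([], 0), ([], 0), ([], 0), ([], 0), ([0, 1,
  2], 5), ([0, 2], 7), ([0, 1, 2], 4), ([], 0), ([], 0), ([], 0), ([0, 0, 1, 2, 0, 2], 4), ([],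
  0), ([0, 0, 2, 1], 4), ([0, 2], 10), ([0, 1, 2], 8), ([], 0), ([], 0), ([], 0), ([0, 1, 2], 4),
  ([], 0)]

/-- certificate words for transitivity -/
def T2e : List (List (List ℕ) × List (List ℕ)) :=
  [([], []), ([], []), ([], []), ([], []), ([], []), ([], []), ([], []), ([], []), ([], []), ([],
  []), ([], []), ([], []), ([], []), ([], []), ([], []), ([], []), ([], []), ([[], [1, 1, 0, 2,
  2, 0, 0], [0, 2, 0, 1, 1, 1, 0], [2, 0, 2, 0, 1, 1, 1, 0], [2], [2, 2, 2], [0, 0, 2, 2, 2, 0,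
  1, 0], [0, 0, 2, 1, 0, 2], [2, 2]], [[], [1, 0, 2, 0, 1, 2, 0, 0, 0], [2, 2, 2, 0, 0, 2, 1, 0],
  [0, 2, 1, 0, 0, 2, 1, 2], [0, 0, 2, 1, 0, 2, 2], [0, 2, 2, 0, 0, 2, 1], [0, 0, 2, 2, 1, 2, 0,
  0, 2, 0], [1, 2, 0, 0, 1, 2, 2, 0, 1, 0]]), ([], []), ([], []), ([], []), ([[], [0, 2, 2, 1, 0,
  2, 0], [2, 0, 2, 0, 2, 0], [0, 2, 0, 0, 1, 1], [2, 2, 2], [1, 0, 0, 2, 1, 0], [2, 2], [0, 2, 0,
  2, 0], [2]], [[], [1, 2, 1, 0, 2, 0, 2, 0, 1], [0, 2, 0, 2, 0, 2], [1, 2, 2, 0, 2, 0, 0, 2, 2,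
  1], [2, 1, 0, 0, 2, 2, 0, 0, 1, 0], [0, 2, 2, 1, 0, 0, 2, 1], [2, 0, 2, 0, 0, 2, 1], [2, 1, 0,
  0, 2, 1, 0, 2]]), ([], []), ([], []), ([], []), ([], []), ([], []), ([], []), ([], []), ([],
  []), ([], []), ([], []), ([], []), ([], []), ([], []), ([], []), ([], []), ([], []), ([], []),
  ([], []), ([[], [0, 1, 0, 2, 0, 1, 0, 0], [1, 0, 0, 2, 2, 1, 0], [1, 2, 0, 0, 2, 2, 1, 0], [2,
  1, 1], [2, 2, 2, 1], [0, 0, 2, 2, 2, 0, 1, 1], [2, 0, 1, 0, 2, 2, 0, 0], [2, 1, 2]], [[], [0,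
  0, 0, 2, 0, 2, 0, 0, 0], [0, 0, 2, 2, 2, 0, 1, 2], [0, 1, 2, 0, 0, 2, 2, 1], [0, 2, 2, 0, 1, 2,
  0], [0, 2, 1, 2, 0, 0, 1, 2], [2, 0, 2, 2, 1, 2, 0, 0, 2, 1], [2, 0, 0, 2, 2, 1, 0, 1, 1]]),
  ([[], [0, 0, 2, 2, 2, 0], [2, 1, 0, 0, 1, 2, 0, 2], [0, 0, 0, 2, 0, 0, 2], [2, 2, 2, 1], [1, 0,
  0, 1, 2, 0], [2, 1, 2], [2, 1, 0, 2, 0, 1, 0, 0], [2, 1, 1]], [[], [2, 0, 0, 1, 2, 0, 2, 1],
  [1, 0, 2, 2, 2, 0, 0, 2], [2, 0, 0, 2, 2, 2, 0, 2, 2, 1], [2, 1, 0, 2, 1, 2, 0, 2, 2, 0], [0,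
  1, 2, 2, 0, 0, 1, 2], [0, 2, 0, 2, 2, 0, 2, 2, 0], [0, 2, 0, 2, 0, 2, 1, 0]]), ([], []), ([],
  []), ([], []), ([], []), ([[], [0, 1, 0, 2, 0, 1, 1, 0], [1, 0, 0, 2, 2, 0], [1, 2, 1, 0, 0, 2,
  2, 0], [1, 2], [2, 1, 2, 2], [0, 1, 2, 0, 0, 2, 0, 1], [0, 0, 2, 0, 2, 1, 0], [2, 2, 1, 1]],
  [[], [0, 0, 2, 1, 0, 2, 0, 2, 1], [0, 1, 2, 0, 0, 2, 0, 2, 1], [0, 1, 2, 1, 0, 0, 2, 2], [2, 0,
  1, 2, 1, 0, 0], [0, 2, 0, 2, 0, 0, 2, 0, 1, 1], [0, 2, 0, 0, 1, 2, 2, 2, 0, 0], [2, 1, 0, 0, 2,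
  2, 0, 1, 1]]), ([], []), ([], []), ([], []), ([], []), ([[], [0, 0, 2, 2, 1, 2, 0], [0, 0, 2,
  0, 2, 1, 0, 2], [0, 1, 2, 0, 0, 1, 1], [2, 1, 2, 2], [1, 0, 0, 1, 2, 1, 0], [2, 2, 1, 1], [0,
  1, 2, 0, 1, 2, 0], [1, 2]], [[], [0, 0, 2, 0, 2, 2, 1, 0, 1], [2, 2, 0, 0, 2, 1, 0, 2, 0], [2,
  2, 1, 0, 2, 2, 2, 0, 2, 2, 0], [2, 2, 0, 2, 0, 2, 0, 2, 1, 0], [0, 2, 1, 2, 0, 0, 1, 2, 1], [2,
  2, 0, 2, 0, 2, 2, 0, 1], [0, 1, 2, 0, 0, 2, 2, 1, 2]]), ([], []), ([], []), ([], []), ([], []),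
  ([], []), ([], []), ([], []), ([], []), ([], []), ([[], [0, 2, 2, 0, 2, 1, 0], [2, 0, 2, 1, 0,
  0, 1, 2], [0, 2, 0, 1, 1, 1, 0], [2, 2, 1, 2], [1, 0, 0, 2, 1, 1, 0], [1, 2, 2], [0, 2, 1, 0,
  2, 1, 0], [2, 1]], [[], [2, 0, 2, 1, 0, 2, 1, 0, 1], [0, 2, 1, 0, 2, 1, 0, 2, 1], [2, 1, 2, 0,
  2, 1, 0, 0, 2, 2], [2, 0, 1, 2, 2, 0, 2, 2, 1, 0], [0, 2, 2, 0, 0, 2, 1, 1], [0, 0, 1, 2, 2, 2,
  0, 2, 1], [2, 0, 1, 0, 0, 2, 0, 2, 1]]), ([], []), ([[], [1, 1, 0, 1, 2, 2, 0, 0], [0, 1, 2, 0,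
  0, 1, 0, 0], [2, 0, 1, 0, 0, 2, 0, 2], [2, 1], [2, 2, 1, 2], [2, 0, 2, 0, 0, 2, 0], [2, 0, 2,
  0, 1, 0, 0], [1, 2, 2]], [[], [2, 2, 1, 0, 2, 0, 0, 2, 0, 1], [0, 2, 0, 2, 0, 2, 2, 1, 0], [2,
  2, 1, 0, 2, 2, 2, 0, 0], [1, 2, 0, 2, 1, 1, 0, 0], [0, 1, 2, 2, 0, 0, 2, 1, 1], [0, 2, 2, 2, 0,
  2, 1, 0, 2], [1, 2, 1, 0, 0, 2, 1, 2, 0, 1, 0]]), ([], []), ([], []), ([], []), ([], []), ([],
  []), ([], []), ([], []), ([], []), ([], []), ([], []), ([], []), ([], []), ([], []), ([], []),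
  ([], []), ([], []), ([], []), ([], []), ([], []), ([], []), ([], []), ([], []), ([], []), ([],
  []), ([], []), ([], []), ([], []), ([], []), ([], []), ([], []), ([], []), ([], []), ([], []),
  ([], []), ([], []), ([], []), ([], []), ([[], [0, 0, 2, 2, 2, 1, 0], [1, 0, 1, 2, 2, 0, 2, 0],
  [0, 2, 0, 0, 1, 0, 0], [1, 2, 2, 2], [1, 0, 0, 2, 0], [2, 2, 1], [0, 0, 2, 2, 0, 1, 0], [1, 2,
  1]], [[], [0, 0, 2, 1, 0, 2, 2, 0, 1], [0, 1, 0, 2, 0, 2, 0, 1, 2], [0, 0, 2, 2, 2, 0, 2, 0, 0,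
  1], [2, 0, 0, 2, 2, 0, 1, 0, 1], [0, 2, 2, 1, 1, 0, 0, 2], [2, 0, 1, 0, 1, 2, 0, 0, 2], [2, 0,
  2, 1, 0, 2, 0]]), ([], []), ([], []), ([], []), ([], []), ([], []), ([], []), ([], []), ([[],
  [1, 1, 0, 2, 2, 1, 0, 0], [0, 2, 0, 0, 1, 1], [2, 0, 0, 1, 2, 2, 0], [1, 2, 1], [1, 2, 2, 2],
  [1, 2, 0, 2, 0, 0, 2, 1], [1, 2, 0, 0, 2, 0, 1], [2, 2, 1]], [[], [2, 2, 1, 0, 2, 0, 0, 2], [1,
  2, 2, 2, 0, 0, 2, 0], [0, 2, 0, 0, 1, 2, 2], [2, 1, 0, 2, 0, 0], [0, 2, 2, 1, 0, 0, 2], [2, 2,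
  0, 0, 2, 0, 2, 1, 1], [2, 1, 1, 0, 0, 2, 2, 0, 1, 0]]), ([], []), ([], []), ([], []), ([], []),
  ([], []), ([], []), ([], []), ([], []), ([], []), ([], []), ([], [])]

/-- certificate words -/
def T3 : List (List ℕ × ℕ) :=
  [([], 0), ([], 0), ([], 0), ([], 0), ([], 0), ([], 0), ([], 0), ([], 0), ([], 0), ([], 0), ([],
  0), ([], 0), ([], 0), ([0, 1, 3, 2], 4), ([], 0), ([], 0), ([], 0), ([0, 2, 2, 3], 4), ([0, 0,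
  1, 2], 4), ([0, 1, 2, 1], 5), ([], 0), ([0, 3, 2, 1, 2], 4), ([], 0), ([0, 2, 2, 3, 2, 1], 4),
  ([], 0), ([0, 1, 2, 3], 4), ([0, 2, 1, 1], 4), ([0, 0, 2], 4), ([], 0), ([], 0), ([], 0), ([0,
  1, 2, 3, 2], 4), ([], 0), ([], 0), ([], 0), ([0, 2, 1], 5), ([], 0), ([], 0), ([], 0), ([0, 3,
  2], 4), ([0, 2, 1, 2, 3], 4), ([0, 3, 2, 2, 1], 4), ([], 0), ([0, 0, 2], 4), ([], 0), ([], 0),
  ([0, 0, 0, 2, 2, 3], 4), ([], 0), ([], 0), ([], 0), ([0, 0, 2, 1], 4), ([0, 3, 2, 2], 4), ([0,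
  2], 7), ([], 0), ([0, 2, 3], 4), ([], 0), ([], 0), ([0, 2], 4), ([], 0), ([], 0), ([], 0), ([0,
  0, 0, 3, 2, 2], 4), ([0, 2], 5), ([0, 0, 3, 2, 2], 4), ([], 0), ([0, 0, 2], 5), ([], 0), ([0,
  1, 2, 1], 4), ([], 0), ([0, 0, 2, 3, 2], 4), ([0, 3, 2], 5), ([0, 0, 2], 8), ([], 0), ([], 0),
  ([], 0), ([0, 2, 3], 4), ([], 0), ([], 0), ([0, 2, 2, 2], 4), ([], 0), ([0, 2, 1], 4), ([0, 2,
  3, 2], 4), ([0, 0, 2, 2], 4), ([], 0), ([], 0), ([], 0), ([0, 2, 1], 8), ([], 0), ([], 0), ([0,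
  2, 2], 4), ([], 0), ([0, 2, 3, 2, 1], 4), ([0, 2], 8), ([0, 2], 4), ([], 0), ([], 0), ([], 0),
  ([0, 2], 8), ([], 0), ([], 0), ([], 0), ([0, 0, 2, 2, 3], 4), ([], 0), ([], 0), ([], 0), ([0,
  1, 2], 5), ([0, 2], 7), ([0, 1, 2], 4), ([], 0), ([0, 2, 2, 1, 3], 4), ([], 0), ([0, 2, 1, 3,
  2], 4), ([], 0), ([0, 0, 2, 1], 4), ([0, 2], 10), ([0, 1, 2], 8), ([], 0), ([], 0), ([], 0),
  ([0, 1, 2], 4), ([], 0)]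

theorem check1 : ∀ u < 11, ∀ v < 11, (noninj 1 u v || v == (2 * u) % 11 ||
    (small 3 (T1.getD (11 * u + v) ([], 0)).1 && moves3 1 u v (T1.getD (11 * u + v) ([], 0)))) = true := by
  decide +kernel

theorem check2 : ∀ u < 11, ∀ v < 11, (noninj 2 u v ||
    (small 3 (T2.getD (11 * u + v) ([], 0)).1 && moves3 2 u v (T2.getD (11 * u + v) ([], 0))) ||
    trans4 u v (T2e.getD (11 * u + v) ([], []))) = true := by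
  decide +kernel

theorem check3 : ∀ u < 11, ∀ v < 11, (noninj 2 u v ||
    moves3 2 u v (T3.getD (11 * u + v) ([], 0))) = true := by
  decide +kernel

end Cfsg.Agent.H24.Deg11
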