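import Cfsg.Agent.H24.FpfPerfect

/-! Structure of non-solvable groups with a fixed point free representation. -/

set_option autoImplicit false

namespace Cfsg.Agent.H24

namespace SL5

theorem aut_neg_one (α : MulAut SL5) : α (-1) = -1 := by
  refine (eq_of_commute ?_ ?_).resolve_left fun h => neg_one_ne_one (α.map_eq_one_iff.mp h)
  · obtain ⟨g, hg⟩ := α.surjective A
    rw [← hg, ← map_mul, ← map_mul]; simp
  · obtain ⟨g, hg⟩ := α.surjective B
    rw [← hg, ← map_mul, ← map_mul]; simp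

theorem exists_perm (α : MulAut SL5) :
    ∃ σ : Equiv.Perm (Fin 5), ∀ s, proj (α s) = σ * proj s * σ⁻¹ := by
  have key : ∀ σ : Equiv.Perm (Fin 5), proj (α A) = σ * pa * σ⁻¹ → proj (α B) = σ * pb * σ⁻¹ →
      proj (α C) = σ * pc * σ⁻¹ → ∀ s, proj (α s) = σ * proj s * σ⁻¹ := by
    intro σ h1 h2 h3 s
    have : proj.comp α.toMonoidHom = (MulAut.conj σ).toMonoidHom.comp proj := by
      refine MonoidHom.eq_of_eqOn_dense closure_ABC ?_
      rintro t (rfl | rfl | rfl)
      · simpa [proj_A] using h1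
      · simpa [proj_B] using h2
      · simpa [proj_C] using h3
    exact DFunLike.congr_fun this s
  obtain ⟨s, ⟨h1, h2, h3⟩ | ⟨h1, h2, h3⟩⟩ := triple_cases (a := α A) (b := α B) (c := α C)
    (by rw [← map_pow, A3, map_one]) (by rw [← map_pow, B3, map_one])
    (by rw [← map_pow, C3, map_one]) (by rw [← map_mul, ← map_pow, AB, aut_neg_one])
    (by rw [← map_mul, ← map_pow, AC, aut_neg_one]) (by rw [← map_mul, ← map_pow, BC, aut_neg_one])
  · refine ⟨proj s, key _ ?_ ?_ ?_⟩
    · rw [← h1, map_mul, map_mul, map_inv, proj_A]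
    · rw [← h2, map_mul, map_mul, map_inv, proj_B]
    · rw [← h3, map_mul, map_mul, map_inv, proj_C]
  · refine ⟨proj s * Equiv.swap 0 1, key _ ?_ ?_ ?_⟩
    · rw [← h1, map_mul, map_mul, map_inv, proj_B,
        show pb = Equiv.swap 0 1 * pa * (Equiv.swap 0 1)⁻¹ by decide]
      group
    · rw [← h2, map_mul, map_mul, map_inv, proj_A,
        show pa = Equiv.swap 0 1 * pb * (Equiv.swap 0 1)⁻¹ by decide]
      group
    · rw [← h3, map_mul, map_mul, map_inv, proj_C]
      conv_lhs => rw [show pc = Equiv.swap 0 1 * pc * (Equiv.swap 0 1)⁻¹ by decide]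
      group

theorem perm_unique {σ τ : Equiv.Perm (Fin 5)}
    (h : ∀ s, σ * proj s * σ⁻¹ = τ * proj s * τ⁻¹) : σ = τ := by
  have : τ⁻¹ * σ = 1 := by
    apply eq_one_of_commute_perm
    · have := h A
      rw [proj_A] at this
      calc τ⁻¹ * σ * pa = τ⁻¹ * (σ * pa * σ⁻¹) * σ := by group
        _ = _ := by rw [this]; group
    · have := h B
      rw [proj_B] at this
      calc τ⁻¹ * σ * pb = τ⁻¹ * (σ * pb * σ⁻¹) * σ := by group
        _ = _ := by rw [this]; group
  exact (inv_mul_eq_one.mp this).symm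

/-- The action of `Aut(SL(2,5))` on five points. -/
noncomputable def autPerm : MulAut SL5 →* Equiv.Perm (Fin 5) where
  toFun α := (exists_perm α).choose
  map_one' := perm_unique fun s => by
    rw [← (exists_perm 1).choose_spec s]; simp
  map_mul' α β := perm_unique fun s => by
    rw [← (exists_perm (α * β)).choose_spec s, MulAut.mul_apply, (exists_perm α).choose_spec,
      (exists_perm β).choose_spec]
    group

theorem proj_aut (α : MulAut SL5) (s : SL5) :
    proj (α s) = autPerm α * proj s * (autPerm α)⁻¹ := (exists_perm α).choose_spec s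

theorem autPerm_conj (g : SL5) : autPerm (MulAut.conj g) = proj g :=
  perm_unique fun s => by rw [← proj_aut]; simp

theorem autPerm_injective : Function.Injective autPerm := by
  rw [injective_iff_map_eq_one]
  intro α h
  have key : ∀ s : SL5, s ^ 3 = 1 → α s = s := by
    intro s hs
    have h1 : proj (α s * s⁻¹) = 1 := by rw [map_mul, proj_aut, h]; simp
    rcases proj_eq_one_iff.mp h1 with h2 | h2
    · exact mul_inv_eq_one.mp h2
    · exfalso
      rw [mul_inv_eq_iff_eq_mul] at h2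
      have h3 : (α s) ^ 3 = 1 := by rw [← map_pow, hs, map_one]
      rw [h2, neg_one_mul, Odd.neg_pow (by decide), hs] at h3
      exact neg_one_ne_one h3
  have : α.toMonoidHom = MonoidHom.id _ := by
    refine MonoidHom.eq_of_eqOn_dense closure_ABC ?_
    rintro t (rfl | rfl | rfl)
    exacts [key _ A3, key _ B3, key _ C3]
  ext1 s
  exact DFunLike.congr_fun this s

end SL5

variable {G : Type*} [Group G] [Finite G]

/-- A non-solvable fixed point free group has a normal subgroup `SL(2,5)` containing all elements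
of order three, and acts on five points with kernel its centraliser. -/
theorem Fpf.exists_SL5 (h : Fpf G) (hG : ¬ Group.IsSolvable G) :
    ∃ φ : SL5 →* G, Function.Injective φ ∧ φ.range.Normal ∧ (∀ w : G, w ^ 3 = 1 → w ∈ φ.range) ∧
      ∃ f : G →* Equiv.Perm (Fin 5), f.ker = Subgroup.centralizer (φ.range : Set G) ∧
        ∀ s, f (φ s) = SL5.proj s := by
  obtain ⟨z, a, b, c, hz1, hz, ha, hb, hc', hab, hac, hbc⟩ := h.exists_triple_of_not_isSolvable hG
  have hc := h.central_invol hz1 hz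
  obtain ⟨φ, hA, hB, hC, hZ⟩ := SL5.exists_hom ha hb hc' hz (hc _) (hc _) (hc _) hab hac hbc
  have hinj := SL5.injective_of_ne φ (by rwa [hZ])
  have h3 : ∀ w : G, w ^ 3 = 1 → w ∈ φ.range := fun w hw =>
    h.mem_of_triple hz1 hz ha hb hc' hab hac hbc (S := φ.range) ⟨_, hA⟩ ⟨_, hB⟩ ⟨_, hC⟩ hw
  have hn : φ.range.Normal := ⟨by
    rintro _ ⟨s, rfl⟩ g
    have : Subgroup.closure {SL5.A, SL5.B, SL5.C} ≤
        φ.range.comap ((MulAut.conj g).toMonoidHom.comp φ) := by
      rw [Subgroup.closure_le]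
      rintro t (rfl | rfl | rfl)
      · exact h3 _ (cube_conj (hA ▸ ha) g)
      · exact h3 _ (cube_conj (hB ▸ hb) g)
      · exact h3 _ (cube_conj (hC ▸ hc') g)
    exact this (SL5.closure_ABC ▸ Subgroup.mem_top s)⟩
  let e := MonoidHom.ofInjective hinj
  let α : G →* MulAut SL5 := (MulAut.congr e).symm.toMonoidHom.comp MulAut.conjNormal
  have hα : ∀ g s, φ (α g s) = g * φ s * g⁻¹ := by
    intro g s
    exact congrArg Subtype.val (e.apply_symm_apply (MulAut.conjNormal g (e s)))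
  refine ⟨φ, hinj, hn, h3, SL5.autPerm.comp α, ?_, fun s => ?_⟩
  · ext g
    rw [MonoidHom.mem_ker, MonoidHom.comp_apply, map_eq_one_iff _ SL5.autPerm_injective]
    constructor
    · rintro h1 _ ⟨s, rfl⟩
      have := hα g s
      rw [h1, MulAut.one_apply, eq_mul_inv_iff_mul_eq] at this
      exact this
    · intro h1
      ext1 s
      apply hinj
      rw [hα, ← h1 _ ⟨s, rfl⟩]
      simp
  · rw [MonoidHom.comp_apply, ← SL5.autPerm_conj]
    congr 1
    ext1 t
    apply hinj
    rw [hα]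
    simp

omit [Finite G] in
theorem eq_of_mem_cent {φ : SL5 →* G} (hφ : Function.Injective φ) {c : G}
    (hc : c ∈ Subgroup.centralizer (φ.range : Set G)) (hc' : c ∈ φ.range) :
    c = 1 ∨ c = φ (-1) := by
  obtain ⟨s, rfl⟩ := hc'
  rcases SL5.eq_of_commute (g := s)
    (hφ (by rw [map_mul, map_mul]; exact (hc _ ⟨_, rfl⟩).symm))
    (hφ (by rw [map_mul, map_mul]; exact (hc _ ⟨_, rfl⟩).symm)) with rfl | rfl
  · exact Or.inl (map_one φ)
  · exact Or.inr rfl

/-- The centraliser of the normal `SL(2,5)` has no elements of order 3, 4 or 5. -/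
theorem Fpf.cent_facts (h : Fpf G) {φ : SL5 →* G} (hφ : Function.Injective φ)
    (h3 : ∀ w : G, w ^ 3 = 1 → w ∈ φ.range) {c : G}
    (hc : c ∈ Subgroup.centralizer (φ.range : Set G)) :
    (c ^ 3 = 1 → c = 1) ∧ (c ^ 4 = 1 → c ^ 2 = 1) ∧ (c ^ 5 = 1 → c = 1) := by
  have hz1 : φ (-1) ≠ 1 := fun e => SL5.neg_one_ne_one (hφ (by rw [e, map_one]))
  have hz : φ (-1) ^ 2 = 1 := by rw [← map_pow]; simp
  refine ⟨fun h1 => ?_, fun h1 => ?_, fun h1 => ?_⟩
  · refine (eq_of_mem_cent hφ hc (h3 c h1)).resolve_right fun e => hz1 ?_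
    rwa [e, pow_succ, hz, one_mul] at h1
  · have ho : orderOf (φ (SL5.A * SL5.B)) = 4 := by
      rw [orderOf_injective φ hφ]
      refine orderOf_eq_prime_pow (p := 2) (n := 1) ?_ ?_
      · rw [pow_one, SL5.AB]; exact SL5.neg_one_ne_one
      · rw [show 2 ^ (1 + 1) = 2 * 2 from rfl, pow_mul, SL5.AB]; simp
    obtain ⟨k, hk⟩ := h.mem_zpowers_of_commute (hc _ ⟨SL5.A * SL5.B, rfl⟩).symm (by rwa [ho])
    rcases eq_of_mem_cent hφ hc ⟨_, (map_zpow φ _ k).trans hk⟩ with e | e
    · rw [e, one_pow]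
    · rw [e, hz]
  · have : Fact (Nat.Prime 5) := ⟨Nat.prime_five⟩
    have ho : orderOf (φ SL5.Y) = 5 := by
      rw [orderOf_injective φ hφ]
      exact orderOf_eq_prime SL5.Y5 SL5.Y_ne_one
    obtain ⟨k, hk⟩ := h.mem_zpowers_of_commute (hc _ ⟨SL5.Y, rfl⟩).symm (by rwa [ho])
    refine (eq_of_mem_cent hφ hc ⟨_, (map_zpow φ _ k).trans hk⟩).resolve_right fun e => hz1 ?_
    rwa [e, pow_succ, show 4 = 2 * 2 from rfl, pow_mul, hz, one_pow, one_mul] at h1

theorem Fpf.isZGroup_of_no_four (h : Fpf G) (h4 : ∀ c : G, c ^ 4 = 1 → c ^ 2 = 1) : IsZGroup G := by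
  refine ⟨fun p hp P => ?_⟩
  have := Fact.mk hp
  rcases (h.subgroup P).cyclic_or_quaternion P.isPGroup' with h1 | ⟨-, n, ⟨e⟩⟩
  · exact h1
  · exfalso
    have h1 : orderOf ((e.symm (QuaternionGroup.xa 0) : P) : G) = 4 := by
      rw [Subgroup.orderOf_coe, e.symm.orderOf_eq, QuaternionGroup.orderOf_xa]
    have h2 := orderOf_dvd_of_pow_eq_one (h4 _ (h1 ▸ pow_orderOf_eq_one _))
    rw [h1] at h2
    exact absurd h2 (by decide)

theorem Fpf.isZGroup_cent (h : Fpf G) {φ : SL5 →* G} (hφ : Function.Injective φ)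
    (h3 : ∀ w : G, w ^ 3 = 1 → w ∈ φ.range) :
    IsZGroup (Subgroup.centralizer (φ.range : Set G)) :=
  (h.subgroup _).isZGroup_of_no_four fun c hc =>
    Subtype.ext ((h.cent_facts hφ h3 c.2).2.1 (congrArg Subtype.val hc))

omit [Finite G] in
theorem mem_sup_of_sign {φ : SL5 →* G} {f : G →* Equiv.Perm (Fin 5)}
    (hf : ∀ s, f (φ s) = SL5.proj s) {g : G} (hg : Equiv.Perm.sign (f g) = 1) :
    ∃ s, ∃ c ∈ f.ker, g = φ s * c := by
  have : f g ∈ SL5.proj.range := by rw [SL5.proj_range]; exact hg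
  obtain ⟨s, hs⟩ := this
  refine ⟨s, (φ s)⁻¹ * g, ?_, by group⟩
  rw [MonoidHom.mem_ker, map_mul, map_inv, hf, hs, inv_mul_cancel]

/-- Zassenhaus: a perfect Frobenius complement is `SL(2,5)`. -/
theorem Fpf.equiv_SL5_of_perfect (h : Fpf G) (hG : commutator G = ⊤) [Nontrivial G] :
    Nonempty (G ≃* SL5) := by
  have hns : ¬ Group.IsSolvable G := fun _ =>
    (Group.IsSolvable.commutator_lt_top_of_nontrivial G).ne hG
  obtain ⟨φ, hφ, hn, h3, f, hker, hf⟩ := h.exists_SL5 hns
  have hZ := h.isZGroup_cent hφ h3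
  rw [← hker] at hZ
  have hsol : Group.IsSolvable (G ⧸ φ.range) := by
    refine Group.isSolvable_of_surjective (G := f.ker)
      (f := (QuotientGroup.mk' φ.range).comp f.ker.subtype) fun q => ?_
    obtain ⟨g, rfl⟩ := QuotientGroup.mk_surjective q
    obtain ⟨s, c, hc, rfl⟩ := mem_sup_of_sign hf
      (hom_eq_one_of_perfect hG (Equiv.Perm.sign.comp f) g)
    refine ⟨⟨c, hc⟩, ?_⟩
    rw [QuotientGroup.mk_mul, (QuotientGroup.eq_one_iff (N := φ.range) (φ s)).mpr ⟨s, rfl⟩, one_mul]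
    rfl
  have hsurj : Function.Surjective φ := fun g =>
    (QuotientGroup.eq_one_iff g).mp (hom_eq_one_of_perfect hG (QuotientGroup.mk' φ.range) g)
  exact ⟨(MulEquiv.ofBijective φ ⟨hφ, hsurj⟩).symm⟩

end Cfsg.Agent.H24
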