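import Cfsg.Agent.H24.Triple
import Cfsg.Agent.H4.CoprimeAut
import Cfsg.Agent.H85.Swaps
import Cfsg.Agent.S3742
import Cfsg.Agent.S0071

/-! Non-solvable groups with a fixed point free representation contain a Carmichael triple. -/

set_option autoImplicit false

open scoped IsMulCommutative Pointwise

namespace Cfsg.Agent.H24

theorem apply_eq_of_mem_zpowers {R : Type*} [Group R] [Finite R] (α : MulAut R) {a : R}
    (ha : α a ∈ Subgroup.zpowers a) (hc : (orderOf α).Coprime (Nat.totient (orderOf a))) :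
    α a = a := by
  rw [← mem_powers_iff_mem_zpowers] at ha
  obtain ⟨j, hj⟩ := ha
  simp only at hj
  have h1 : ∀ k : ℕ, (α ^ k) a = a ^ j ^ k := by
    intro k
    induction k with
    | zero => simp
    | succ k ih => rw [pow_succ', MulAut.mul_apply, ih, map_pow, ← hj, ← pow_mul, pow_succ']
  have h2 : j.Coprime (orderOf a) := by
    have h3 : orderOf (a ^ j) = orderOf a := by rw [hj, α.orderOf_eq]
    rw [orderOf_pow, Nat.div_eq_self] at h3
    rcases h3 with h3 | h3
    · exact absurd h3 (orderOf_pos a).ne'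
    · exact Nat.coprime_comm.mp h3
  have h4 : (α ^ Nat.totient (orderOf a)) a = a := by
    rw [h1]
    conv_rhs => rw [← pow_one a]
    exact pow_eq_pow_iff_modEq.mpr (Nat.ModEq.pow_totient h2)
  obtain ⟨m, hm⟩ := exists_pow_eq_self_of_coprime hc.symm
  rw [← hm]
  exact (MulAction.stabilizer (MulAut R) a).pow_mem h4 m

theorem mulAut_eq_one_of_isCyclic {R : Type*} [Group R] [Finite R] [IsCyclic R]
    (hR : IsPGroup 2 R) (α : MulAut R) (hα : (orderOf α).Coprime 2) : α = 1 := by
  obtain ⟨g, hg⟩ := IsCyclic.exists_generator (α := R)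
  have h1 : α g = g := by
    apply apply_eq_of_mem_zpowers α (hg _)
    obtain ⟨k, hk⟩ := IsPGroup.iff_orderOf.mp hR g
    rw [hk]
    rcases k with _ | k
    · simp
    · rw [Nat.totient_prime_pow_succ Nat.prime_two]
      simpa using hα.pow_right k
  ext x
  obtain ⟨n, rfl⟩ := hg x
  simp [h1]

theorem mulAut_quaternion_eq_one {n : ℕ} (α : MulAut (QuaternionGroup (2 ^ (n + 2))))
    (hα : (orderOf α).Coprime 2) : α = 1 := by
  have hmem : ∀ i, (QuaternionGroup.a i : QuaternionGroup (2 ^ (n + 2))) ∈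
      Subgroup.zpowers (QuaternionGroup.a 1) := fun i => by
    refine ⟨i.val, ?_⟩
    simp only [zpow_natCast, QuaternionGroup.a_one_pow, ZMod.natCast_zmod_val]
  have hR : IsPGroup 2 (QuaternionGroup (2 ^ (n + 2))) := by
    apply IsPGroup.of_card (n := n + 4)
    rw [Nat.card_eq_fintype_card, QuaternionGroup.card]
    ring
  have h1 : α (QuaternionGroup.a 1) = QuaternionGroup.a 1 := by
    apply apply_eq_of_mem_zpowers
    · have h2 := α.orderOf_eq (QuaternionGroup.a 1)
      cases h : α (QuaternionGroup.a 1) with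
      | a i => exact hmem i
      | xa i =>
        rw [h, QuaternionGroup.orderOf_xa, QuaternionGroup.orderOf_a_one] at h2
        have : 0 < 2 ^ n := by positivity
        rw [pow_add] at h2
        omega
    · rw [QuaternionGroup.orderOf_a_one, ← pow_succ', Nat.totient_prime_pow_succ Nat.prime_two]
      simpa using hα.pow_right (n + 2)
  have h2 : ∀ x ∈ Subgroup.zpowers (QuaternionGroup.a 1 : QuaternionGroup (2 ^ (n + 2))),
      α x = x := by
    rintro _ ⟨k, rfl⟩
    simp only [map_zpow, h1]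
  refine H4.mulAut_eq_one_of_stabilizes hR α hα _ h2 fun x => ?_
  cases x with
  | a i => rw [h2 _ (hmem i), inv_mul_cancel]; exact one_mem _
  | xa i =>
    cases h : α (QuaternionGroup.xa i) with
    | a j =>
      rw [← h2 _ (hmem j)] at h
      exact absurd (α.injective h) (by simp)
    | xa j => exact hmem _

theorem Fpf.mulAut_odd {R : Type*} [Group R] [Finite R] (h : Fpf R) (hR : IsPGroup 2 R)
    (α : MulAut R) (hα : (orderOf α).Coprime 2) :
    α = 1 ∨ (Nonempty (R ≃* QuaternionGroup 2) ∧ orderOf α = 3) := by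
  rcases h.cyclic_or_quaternion hR with hc | ⟨-, n, ⟨e⟩⟩
  · exact Or.inl (mulAut_eq_one_of_isCyclic hR α hα)
  rcases n with _ | _ | n
  · have : IsCyclic R :=
      have := QuaternionGroup.quaternionGroup_one_isCyclic
      isCyclic_of_surjective _ e.symm.surjective
    exact Or.inl (mulAut_eq_one_of_isCyclic hR α hα)
  · obtain ⟨f⟩ := S3742.result
    have h1 : orderOf α ∣ 2 ^ 3 * 3 := by
      rw [← ((MulAut.congr e).trans f).orderOf_eq α]
      refine (orderOf_dvd_natCard _).trans ?_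
      rw [Nat.card_perm, Nat.card_eq_fintype_card, Fintype.card_fin]
      decide
    rcases (Nat.dvd_prime Nat.prime_three).mp ((hα.pow_right 3).dvd_of_dvd_mul_left h1) with
      h2 | h2
    · exact Or.inl (orderOf_eq_one_iff.mp h2)
    · exact Or.inr ⟨⟨e⟩, h2⟩
  · left
    apply (MulAut.congr e).injective
    rw [map_one]
    apply mulAut_quaternion_eq_one
    rwa [(MulAut.congr e).orderOf_eq]

variable {G : Type*} [Group G] [Finite G]

theorem Fpf.mem_centralizer_or (h : Fpf G) {Q : Subgroup G} (hQ : IsPGroup 2 Q) {g : G}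
    (hg : g ∈ Subgroup.normalizer (Q : Set G)) (hc : (orderOf g).Coprime 2) :
    g ∈ Subgroup.centralizer (Q : Set G) ∨ (Nonempty (Q ≃* QuaternionGroup 2) ∧ 3 ∣ orderOf g) := by
  have h1 : orderOf (Q.normalizerMonoidHom ⟨g, hg⟩) ∣ orderOf g := by
    refine (orderOf_map_dvd _ _).trans ?_
    rw [← Subgroup.orderOf_coe]
  rcases (h.subgroup Q).mulAut_odd hQ (Q.normalizerMonoidHom ⟨g, hg⟩)
    (hc.coprime_dvd_left h1) with h2 | h2
  · left
    intro q hq
    have : g * q * g⁻¹ = q := congrArg Subtype.val (DFunLike.congr_fun h2 (⟨q, hq⟩ : Q))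
    exact (mul_inv_eq_iff_eq_mul.mp this).symm
  · exact Or.inr ⟨h2.1, h2.2 ▸ h1⟩

theorem Fpf.isSolvable_of_complement (h : Fpf G) (P : Sylow 2 G) {N : Subgroup G} [N.Normal]
    (hN : N.IsComplement' (P : Subgroup G)) : Group.IsSolvable G := by
  have h1 : ¬ 2 ∣ Nat.card N := by
    rw [← hN.index_eq_card]
    exact P.not_dvd_index
  have := (h.subgroup N).isZGroup_of_odd h1
  have h2 : IsPGroup 2 (G ⧸ N) := P.isPGroup'.of_equiv hN.symm.QuotientMulEquiv.symm
  have := h2.isNilpotent
  exact (Group.isSolvable_iff_subgroup_quotient N).mpr ⟨inferInstance, inferInstance⟩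

theorem Fpf.isSolvable_of_not_three_dvd (h : Fpf G) (h3 : ¬ 3 ∣ Nat.card G) :
    Group.IsSolvable G := by
  obtain ⟨P⟩ : Nonempty (Sylow 2 G) := inferInstance
  obtain ⟨N, hN, hc⟩ := (S0071.result P).mpr fun Q hQ g hg hc =>
    (h.mem_centralizer_or (P.isPGroup'.to_le hQ) hg hc).resolve_right fun h1 =>
      h3 (h1.2.trans (orderOf_dvd_natCard g))
  exact h.isSolvable_of_complement P hc

omit [Finite G] in
theorem hom_eq_one_of_perfect (hG : commutator G = ⊤) {A : Type*} [Group A] [Group.IsSolvable A]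
    (f : G →* A) (g : G) : f g = 1 := by
  have h1 : ⁅f.range, f.range⁆ = f.range := by
    rw [MonoidHom.range_eq_map, ← Subgroup.map_commutator]
    exact congrArg _ hG
  have h2 : f.range = ⊥ := by
    by_contra h
    exact (Group.IsSolvable.commutator_lt_of_ne_bot h).ne h1
  exact (h2 ▸ (⟨g, rfl⟩ : f g ∈ f.range) : f g ∈ (⊥ : Subgroup A))

theorem Fpf.exists_triple_of_perfect (h : Fpf G) (hG : commutator G = ⊤) [Nontrivial G] :
    ∃ z a b c : G, z ≠ 1 ∧ z ^ 2 = 1 ∧ a ^ 3 = 1 ∧ b ^ 3 = 1 ∧ c ^ 3 = 1 ∧ (a * b) ^ 2 = z ∧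
      (a * c) ^ 2 = z ∧ (b * c) ^ 2 = z := by
  classical
  have h3 : 3 ∣ Nat.card G := by
    by_contra h3
    have := h.isSolvable_of_not_three_dvd h3
    exact (Group.IsSolvable.commutator_lt_top_of_nontrivial G).ne hG
  have : Fact (Nat.Prime 3) := ⟨Nat.prime_three⟩
  obtain ⟨x, hxo⟩ := exists_prime_orderOf_dvd_card' 3 h3
  have hx : x ^ 3 = 1 := hxo ▸ pow_orderOf_eq_one x
  have hx1 : x ≠ 1 := by
    rintro rfl
    simp at hxo
  by_cases hA : ∀ y : G, y ≠ 1 → y ^ 3 = 1 → y = x ∨ y = x⁻¹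
  · exfalso
    have hn : (Subgroup.zpowers x).Normal := ⟨by
      rintro _ ⟨k, rfl⟩ g
      have : g * x * g⁻¹ ∈ Subgroup.zpowers x := by
        rcases hA _ (by rwa [Ne, conj_eq_one_iff]) (cube_conj hx g) with e | e <;> rw [e]
        exacts [Subgroup.mem_zpowers x, inv_mem (Subgroup.mem_zpowers x)]
      simpa [← conj_zpow] using zpow_mem this k⟩
    have hsol : Group.IsSolvable (MulAut (Subgroup.zpowers x)) :=
      Group.isSolvable_of_isSolvable_injective
        (f := (IsCyclic.mulAutMulEquiv (Subgroup.zpowers x)).toMonoidHom)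
        (IsCyclic.mulAutMulEquiv (Subgroup.zpowers x)).injective
    have hcen : ∀ g : G, g * x * g⁻¹ = x := fun g =>
      congrArg Subtype.val (DFunLike.congr_fun
        (hom_eq_one_of_perfect hG (MulAut.conjNormal (H := Subgroup.zpowers x)) g)
        (⟨x, Subgroup.mem_zpowers x⟩ : Subgroup.zpowers x))
    obtain ⟨P⟩ : Nonempty (Sylow 3 G) := inferInstance
    have hP : IsCyclic P := (h.subgroup P).isCyclic_of_odd P.isPGroup' (by norm_num)
    have h1 := hom_eq_one_of_perfect hG (MonoidHom.transfer (MonoidHom.id (P : Subgroup G))) x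
    rw [MonoidHom.transfer_eq_pow _ x (fun k g _ => by
      have := hcen g⁻¹
      rw [inv_inv] at this
      conv_rhs => rw [← this]
      simpa using (conj_pow (a := g⁻¹) (b := x) (i := k)).symm)] at h1
    have h2 : x ^ (P : Subgroup G).index = 1 := congrArg Subtype.val h1
    rw [← orderOf_dvd_iff_pow_eq_one, hxo] at h2
    exact P.not_dvd_index h2
  push Not at hA
  obtain ⟨y₀, hy₀1, hy₀, e1, e2⟩ := hA
  obtain ⟨z, y, hz1, hz, hy1, hy, hxy⟩ := h.exists_rel hx1 hx hy₀1 hy₀ e1 e2
  by_contra hno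
  push Not at hno
  have hcases := fun (w : G) (hw1 : w ≠ 1) (hw : w ^ 3 = 1) =>
    h.cases_of_no_triple hz1 hz hx1 hx hy1 hy hxy
      (fun b c hb hc' h1 h2 => hno z x b c hz1 hz hx hb hc' h1 h2) hw1 hw
  let _ : MulAction G (Subgroup G) := MulAction.compHom _ (MulAut.conj : G →* MulAut G)
  have hsm : ∀ g w : G, g • Subgroup.zpowers w = Subgroup.zpowers (g * w * g⁻¹) := fun g w =>
    MonoidHom.map_zpowers _ _
  let O := MulAction.orbit G (Subgroup.zpowers x)
  have hO : O ⊆ ({Subgroup.zpowers x, Subgroup.zpowers y, Subgroup.zpowers (x * y * x⁻¹),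
      Subgroup.zpowers (x⁻¹ * y * x)} : Finset (Subgroup G)) := by
    rintro _ ⟨g, rfl⟩
    obtain ⟨t, ht, ht'⟩ := hcases _ (by rwa [Ne, conj_eq_one_iff]) (cube_conj hx g)
    have : g • Subgroup.zpowers x = Subgroup.zpowers t := by
      rw [hsm]
      rcases ht with rfl | rfl
      exacts [rfl, Subgroup.zpowers_inv.symm]
    simp only [this]
    rcases ht' with rfl | rfl | rfl | rfl <;> simp
  have hfin : O.Finite := Set.Finite.subset (Finset.finite_toSet _) hO
  let _ : Fintype O := hfin.fintype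
  have hcard : Fintype.card O ≤ 4 := by
    rw [← Nat.card_eq_fintype_card, Nat.card_coe_set_eq]
    refine (Set.ncard_le_ncard hO).trans ?_
    rw [Set.ncard_coe_finset]
    exact Finset.card_le_four
  have := H85.isSolvable_perm_of_card_le_four hcard
  have h1 := hom_eq_one_of_perfect hG (MulAction.toPermHom G O) y
  have h2 : y • Subgroup.zpowers x = Subgroup.zpowers x :=
    congrArg Subtype.val (DFunLike.congr_fun h1 (⟨_, MulAction.mem_orbit_self _⟩ : O))
  rw [hsm] at h2
  have h4 : y * x * y⁻¹ ∈ Subgroup.zpowers x := h2 ▸ Subgroup.mem_zpowers _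
  have hc := h.central_invol hz1 hz
  have h5 : (y * x * y⁻¹) * x = x * (y * x * y⁻¹) := by
    obtain ⟨k, hk⟩ := h4
    rw [← hk]
    exact (Commute.zpow_self x k).eq
  have h6 := conj_eq_of_rel' hc hy (rel_symm hc hxy)
  have h7 := conj_eq_of_rel hy (rel_symm hc hxy)
  have cz : ∀ g, Commute z g := fun g => (hc g).symm
  rcases h.eq_or_inv_of_commute (by rwa [Ne, conj_eq_one_iff]) (cube_conj hx y) hx1 hx h5 with
    e | e
  · have hcm : Commute x y := (mul_inv_eq_iff_eq_mul.mp e).symm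
    have h8 : (x * y) ^ 3 = 1 := by rw [hcm.mul_pow, hx, hy, one_mul]
    have h9 : (x * y) ^ 4 = 1 := by rw [show 4 = 2 * 2 from rfl, pow_mul, hxy, hz]
    rw [pow_succ, h8, one_mul] at h9
    rw [h9, one_pow] at hxy
    exact hz1 hxy.symm
  · rw [h7, ← hc, mul_assoc, mul_eq_left, mul_eq_one_iff_eq_inv] at e
    have h8 : z ^ 3 = 1 := by rw [e]; exact cube_inv hy
    rw [pow_succ, hz, one_mul] at h8
    exact hz1 h8

theorem Fpf.exists_triple_of_not_isSolvable (h : Fpf G) (hG : ¬ Group.IsSolvable G) :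
    ∃ z a b c : G, z ≠ 1 ∧ z ^ 2 = 1 ∧ a ^ 3 = 1 ∧ b ^ 3 = 1 ∧ c ^ 3 = 1 ∧ (a * b) ^ 2 = z ∧
      (a * c) ^ 2 = z ∧ (b * c) ^ 2 = z := by
  rw [Group.isSolvable_iff_commutator_lt] at hG
  push Not at hG
  obtain ⟨H, hH0, hH⟩ := hG
  have h1 : ⁅H, H⁆ = H := by
    by_contra h1
    exact hH (lt_of_le_of_ne (Subgroup.commutator_le_self H) h1)
  have : Nontrivial H := (Subgroup.nontrivial_iff_ne_bot H).mpr hH0
  have h2 : commutator H = ⊤ := by
    apply Subgroup.map_injective H.subtype_injective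
    rw [commutator_def, Subgroup.map_commutator, ← MonoidHom.range_eq_map, H.range_subtype, h1]
  obtain ⟨z, a, b, c, h1, h2, h3, h4, h5, h6, h7, h8⟩ := (h.subgroup H).exists_triple_of_perfect h2
  exact ⟨z, a, b, c, fun e => h1 (Subtype.ext e), congrArg Subtype.val h2, congrArg Subtype.val h3,
    congrArg Subtype.val h4, congrArg Subtype.val h5, congrArg Subtype.val h6,
    congrArg Subtype.val h7, congrArg Subtype.val h8⟩

end Cfsg.Agent.H24
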