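import Cfsg.Agent.H24.FpfNonsolv
import Cfsg.Agent.H22.PSolvable
import Cfsg.Agent.H3.PComplement
import Cfsg.Agent.H30.QuatLocal

/-! Structure of groups with a fixed point free representation: the six types. -/

set_option autoImplicit false

open scoped IsMulCommutative

namespace Cfsg.Agent.H24

variable {G : Type*} [Group G] [Finite G]

theorem Fpf.not_four_dvd (h : Fpf G) (h4 : ∀ c : G, c ^ 4 = 1 → c ^ 2 = 1) : ¬ 4 ∣ Nat.card G := by
  intro hd
  obtain ⟨K, hK⟩ := Sylow.exists_subgroup_card_pow_prime 2 (n := 2) hd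
  have : IsMulCommutative K := IsPGroup.isMulCommutative_of_card_eq_prime_sq hK
  have := (h.subgroup K).isCyclic_of_comm
  obtain ⟨g, hg⟩ := IsCyclic.exists_ofOrder_eq_natCard (α := K)
  have h1 : orderOf (g : G) = 4 := by rw [Subgroup.orderOf_coe, hg, hK]; rfl
  have h2 := orderOf_dvd_of_pow_eq_one (h4 _ (h1 ▸ pow_orderOf_eq_one _))
  rw [h1] at h2
  exact absurd h2 (by decide)

theorem Fpf.isZGroup_of_two (h : Fpf G) (h2 : ∀ P : Subgroup G, IsPGroup 2 P → IsCyclic P) :
    IsZGroup G := by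
  refine ⟨fun p hp P => ?_⟩
  have := Fact.mk hp
  rcases (h.subgroup P).cyclic_or_quaternion P.isPGroup' with h1 | ⟨rfl, -⟩
  · exact h1
  · exact h2 _ P.isPGroup'

/-- A `p`-subgroup of the quotient by a normal `p'`-subgroup is fixed point free. -/
theorem Fpf.of_quotient (h : Fpf G) {p : ℕ} [Fact p.Prime] {H : Type*} [Group H] [Finite H]
    (π : G →* H) (hπ : Function.Surjective π) (hk : (Nat.card π.ker).Coprime p) {R : Subgroup H}
    (hR : IsPGroup p R) : Fpf R ∧ Nat.card R ∣ Nat.card G := by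
  obtain ⟨Q, hQ⟩ := hR.exists_le_sylow
  obtain ⟨P, rfl⟩ := Sylow.mapSurjective_surjective hπ p Q
  have hinj : Function.Injective (π.subgroupMap P) := by
    rw [injective_iff_map_eq_one]
    intro g hg
    have h1 : (g : G) ∈ (P : Subgroup G) ⊓ π.ker := ⟨g.2, congrArg Subtype.val hg⟩
    rw [H3.inf_eq_bot_of_isPGroup_of_coprime P.isPGroup' hk] at h1
    exact Subtype.ext h1
  let e := MulEquiv.ofBijective _ ⟨hinj, π.subgroupMap_surjective P⟩
  refine ⟨((h.subgroup P).of_equiv e.symm).of_injective (Subgroup.inclusion hQ)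
    (Subgroup.inclusion_injective hQ), ?_⟩
  exact (Subgroup.card_subgroup_dvd_card R).trans (Subgroup.card_dvd_of_surjective π hπ)

theorem perm_four_range {K : Subgroup (Equiv.Perm (Fin 4))} (h : 12 ∣ Nat.card K) :
    K = alternatingGroup (Fin 4) ∨ K = ⊤ := by
  have h1 := K.card_mul_index
  rw [Nat.card_perm, Nat.card_eq_fintype_card (α := Fin 4), Fintype.card_fin] at h1
  obtain ⟨k, hk⟩ := h
  rw [hk] at h1
  simp only [Nat.factorial] at h1
  have h2 : K.index ∣ 2 := ⟨k, by nlinarith⟩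
  rcases (Nat.dvd_prime Nat.prime_two).mp h2 with h3 | h3
  · exact Or.inr (Subgroup.index_eq_one.mp h3)
  · exact Or.inl (Equiv.Perm.eq_alternatingGroup_of_index_eq_two h3)

/-- A solvable fixed point free group is 2-nilpotent or maps onto `A₄` or `S₄`. -/
theorem Fpf.solvable_cases (h : Fpf G) [Group.IsSolvable G] :
    HasNormalPComplement 2 G ∨ ∃ f : G →* Equiv.Perm (Fin 4),
      (∀ c ∈ f.ker, c ^ 4 = 1 → c ^ 2 = 1) ∧ (f.range = alternatingGroup (Fin 4) ∨ f.range = ⊤) := by
  let O := pPrimeCore 2 G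
  let π := QuotientGroup.mk' O
  have hk : (Nat.card π.ker).Coprime 2 := by
    rw [QuotientGroup.ker_mk']; exact H22.coprime_card_pPrimeCore
  let R := pCore 2 (G ⧸ O)
  have hC : Subgroup.centralizer (R : Set (G ⧸ O)) ≤ R :=
    H22.IsPSolvable.centralizer_pCore_le H22.isPSolvable_of_isSolvable
      H22.pPrimeCore_quotient_pPrimeCore
  have hRp : IsPGroup 2 R := H22.isPGroup_pCore
  obtain ⟨hR, hRd⟩ := h.of_quotient π (QuotientGroup.mk'_surjective O) hk hRp
  by_cases hq : IsPGroup 2 (G ⧸ O)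
  · exact Or.inl (H3.hasNormalPComplement_of_normal O H22.coprime_card_pPrimeCore hq)
  right
  obtain ⟨u, hu1, hu⟩ : ∃ u : G ⧸ O, u ≠ 1 ∧ (orderOf u).Coprime 2 := by
    by_contra hcon
    push Not at hcon
    apply hq
    rw [IsPGroup.iff_card]
    refine ⟨_, Nat.eq_prime_pow_of_unique_prime_dvd Nat.card_pos.ne' fun {q} hq hd => ?_⟩
    by_contra h2
    have := Fact.mk hq
    obtain ⟨u, hu⟩ := exists_prime_orderOf_dvd_card' q hd
    refine hcon u (fun e => ?_) (hu ▸ (Nat.coprime_primes hq Nat.prime_two).mpr h2)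
    rw [e, orderOf_one] at hu
    exact hq.one_lt.ne hu
  let α : (G ⧸ O) →* MulAut R := MulAut.conjNormal
  have hα : ∀ g, α g = 1 → g ∈ Subgroup.centralizer (R : Set (G ⧸ O)) := by
    intro g hg q hq
    have : g * q * g⁻¹ = q := congrArg Subtype.val (DFunLike.congr_fun hg (⟨q, hq⟩ : R))
    exact (mul_inv_eq_iff_eq_mul.mp this).symm
  rcases hR.mulAut_odd hRp (α u) (hu.coprime_dvd_left (orderOf_map_dvd α u)) with h1 | ⟨⟨e⟩, h3⟩
  · exfalso
    obtain ⟨k, hk⟩ := IsPGroup.iff_orderOf.mp hRp ⟨u, hC (hα u h1)⟩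
    rw [← Subgroup.orderOf_coe] at hk
    simp only at hk
    rw [hk] at hu
    rcases k with _ | k
    · exact hu1 (orderOf_eq_one_iff.mp hk)
    · exact absurd (Nat.eq_one_of_dvd_coprimes hu (dvd_pow_self 2 (by omega)) dvd_rfl) (by decide)
  obtain ⟨f₀⟩ := S3742.result
  let β := (MulAut.congr e).trans f₀
  let f : G →* Equiv.Perm (Fin 4) := β.toMonoidHom.comp (α.comp π)
  have hker : ∀ c ∈ f.ker, c ^ 4 = 1 → c ^ 2 = 1 := by
    intro c hc h4
    have h1 := hα (π c) (β.map_eq_one_iff.mp hc)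
    have h2 : ∀ t : QuaternionGroup 2, (∀ s, s * t = t * s) → t ^ 2 = 1 := by decide
    have h5 : (⟨π c, hC h1⟩ : R) ^ 2 = 1 := by
      rw [← e.map_eq_one_iff, map_pow]
      refine h2 _ fun s => ?_
      obtain ⟨s, rfl⟩ := e.surjective s
      rw [← map_mul, ← map_mul]
      exact congrArg e (Subtype.ext (h1 s s.2))
    have h6 : c ^ 2 ∈ π.ker := by
      rw [MonoidHom.mem_ker, map_pow]
      exact congrArg Subtype.val h5
    have h7 : orderOf (c ^ 2) ∣ 2 := orderOf_dvd_of_pow_eq_one (by rw [← pow_mul, h4])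
    exact orderOf_eq_one_iff.mp (Nat.eq_one_of_dvd_coprimes hk (π.ker.orderOf_dvd_natCard h6) h7)
  refine ⟨f, hker, perm_four_range ?_⟩
  have d3 : 3 ∣ Nat.card f.range := by
    obtain ⟨g, rfl⟩ := QuotientGroup.mk'_surjective O u
    rw [← h3, ← β.orderOf_eq]
    exact f.range.orderOf_dvd_natCard ⟨g, rfl⟩
  have d4 : 4 ∣ Nat.card f.range := by
    have h1 := (h.subgroup f.ker).not_four_dvd fun c hc =>
      Subtype.ext (hker c c.2 (congrArg Subtype.val hc))
    rw [Nat.card_congr e.toEquiv, Nat.card_eq_fintype_card, QuaternionGroup.card,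
      ← f.ker.card_mul_index, Subgroup.index_ker] at hRd
    generalize Nat.card f.ker = a at *
    generalize Nat.card f.range = b at *
    rcases Nat.even_or_odd' a with ⟨a, rfl | rfl⟩
    · have h2 : ¬ 2 ∣ a := by omega
      have h5 : 2 ^ 2 ∣ a * b := ⟨hRd.choose, by have := hRd.choose_spec; nlinarith⟩
      exact (((Nat.coprime_primes Nat.prime_two Nat.prime_two).not.mpr (by simp) |> fun _ =>
        (Nat.Prime.coprime_iff_not_dvd Nat.prime_two).mpr h2).pow_left 2).dvd_of_dvd_mul_left h5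
    · have h5 : 2 ^ 3 ∣ (2 * a + 1) * b := hRd
      exact Dvd.dvd.trans (by norm_num)
        ((((Nat.Prime.coprime_iff_not_dvd Nat.prime_two).mpr (by omega)).pow_left
          3).dvd_of_dvd_mul_left h5)
  exact Nat.Coprime.mul_dvd_of_dvd_of_dvd (show Nat.Coprime 3 4 by decide) d3 d4

/-- The projection of a generalized quaternion group onto the four-group. -/
def quatToFour (n : ℕ) : QuaternionGroup (2 ^ (n + 1)) →* DihedralGroup 2 :=
  MonoidHom.mk' (fun q => match q with
    | .a i => .r (ZMod.castHom (dvd_mul_right 2 _) (ZMod 2) i)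
    | .xa i => .sr (ZMod.castHom (dvd_mul_right 2 _) (ZMod 2) i)) (by
      have h0 : (ZMod.castHom (dvd_mul_right 2 (2 ^ (n + 1))) (ZMod 2))
          ((2 ^ (n + 1) : ℕ) : ZMod (2 * 2 ^ (n + 1))) = 0 := by
        rw [map_natCast, ZMod.natCast_eq_zero_iff]
        exact dvd_pow_self 2 (by omega)
      rintro (i | i) (j | j)
      · simp only [QuaternionGroup.a_mul_a, map_add, DihedralGroup.r_mul_r]
      · simp only [QuaternionGroup.a_mul_xa, map_sub, DihedralGroup.r_mul_sr]
      · simp only [QuaternionGroup.xa_mul_a, map_add, DihedralGroup.sr_mul_r]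
      · simp only [QuaternionGroup.xa_mul_xa, map_sub, map_add, h0, zero_add,
          DihedralGroup.sr_mul_sr])

theorem quatToFour_surjective (n : ℕ) : Function.Surjective (quatToFour n) := by
  rintro (i | i)
  · obtain ⟨j, rfl⟩ := ZMod.castHom_surjective (dvd_mul_right 2 (2 ^ (n + 1))) i
    exact ⟨.a j, rfl⟩
  · obtain ⟨j, rfl⟩ := ZMod.castHom_surjective (dvd_mul_right 2 (2 ^ (n + 1))) i
    exact ⟨.xa j, rfl⟩

theorem quatToFour_ker (n : ℕ) :
    (quatToFour n).ker ≤ Subgroup.zpowers (QuaternionGroup.a 1) := by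
  rintro (i | i) h
  · refine ⟨i.val, ?_⟩
    simp only [zpow_natCast, QuaternionGroup.a_one_pow, ZMod.natCast_zmod_val]
  · exact absurd h (by
      rw [MonoidHom.mem_ker, DihedralGroup.one_def]
      exact fun h => by cases h)

theorem Fpf.nilpotent_cases (h : Fpf G) (h2 : HasNormalPComplement 2 G) :
    IsZGroup G ∨ ∃ f : G →* DihedralGroup 2, Function.Surjective f ∧ IsZGroup f.ker := by
  obtain ⟨P, N, hN, hc⟩ := h2
  have hP : IsCyclic P → IsZGroup G := fun hP => h.isZGroup_of_two fun Q hQ => by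
    obtain ⟨S, hS⟩ := hQ.exists_le_sylow
    have : IsCyclic S := isCyclic_of_surjective _ (P.equiv S).surjective
    exact Subgroup.isCyclic_of_le hS
  rcases (h.subgroup P).cyclic_or_quaternion P.isPGroup' with h1 | ⟨-, n, ⟨e⟩⟩
  · exact Or.inl (hP h1)
  rcases n with _ | n
  · have := QuaternionGroup.quaternionGroup_one_isCyclic
    exact Or.inl (hP (isCyclic_of_surjective _ e.symm.surjective))
  right
  let π : G →* QuaternionGroup (2 ^ (n + 1)) :=
    (hc.symm.QuotientMulEquiv.trans e).toMonoidHom.comp (QuotientGroup.mk' N)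
  have hπ : Function.Surjective π :=
    (hc.symm.QuotientMulEquiv.trans e).surjective.comp (QuotientGroup.mk'_surjective N)
  have hk : (Nat.card N).Coprime 2 := by
    rw [← hc.index_eq_card]
    exact ((Nat.Prime.coprime_iff_not_dvd Nat.prime_two).mpr P.not_dvd_index).symm
  refine ⟨(quatToFour n).comp π, (quatToFour_surjective n).comp hπ, ?_⟩
  refine (h.subgroup _).isZGroup_of_two fun Q hQ => ?_
  let ψ : Q →* Subgroup.zpowers (QuaternionGroup.a 1 : QuaternionGroup (2 ^ (n + 1))) :=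
    (π.comp ((Subgroup.subtype _).comp Q.subtype)).codRestrict _
      fun q => quatToFour_ker n q.1.2
  refine isCyclic_of_injective ψ ?_
  rw [injective_iff_map_eq_one]
  intro q hq
  have h3 : π q = 1 := congrArg Subtype.val hq
  have h4 : ((q : _) : G) ∈ N := (QuotientGroup.eq_one_iff _).mp
    ((hc.symm.QuotientMulEquiv.trans e).map_eq_one_iff.mp h3)
  obtain ⟨k, hk'⟩ := IsPGroup.iff_orderOf.mp hQ q
  have h5 := N.orderOf_dvd_natCard h4
  rw [Subgroup.orderOf_coe, Subgroup.orderOf_coe] at h5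
  exact orderOf_eq_one_iff.mp (Nat.eq_one_of_dvd_coprimes (hk.pow_right k) h5 (hk' ▸ dvd_rfl))

theorem perm_five_range {φ : SL5 →* G} {f : G →* Equiv.Perm (Fin 5)}
    (hf : ∀ s, f (φ s) = SL5.proj s) : f.range = alternatingGroup (Fin 5) ∨ f.range = ⊤ := by
  have h1 : alternatingGroup (Fin 5) ≤ f.range := by
    rw [← SL5.proj_range]
    rintro _ ⟨s, rfl⟩
    exact ⟨_, hf s⟩
  have h2 := Subgroup.index_dvd_of_le h1
  rw [alternatingGroup.index_eq_two] at h2
  rcases (Nat.dvd_prime Nat.prime_two).mp h2 with h3 | h3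
  · exact Or.inr (Subgroup.index_eq_one.mp h3)
  · exact Or.inl (Equiv.Perm.eq_alternatingGroup_of_index_eq_two h3)

/-- The odd part of the centraliser of the normal `SL(2,5)`. -/
theorem Fpf.exists_odd_part (h : Fpf G) {φ : SL5 →* G} (hφ : Function.Injective φ)
    (h3 : ∀ w : G, w ^ 3 = 1 → w ∈ φ.range) :
    ∃ M : Subgroup G, (∀ c, c ∈ M ↔ c ∈ Subgroup.centralizer (φ.range : Set G) ∧
      (orderOf c).Coprime 2) ∧ (Nat.card M).Coprime 30 ∧
      ∀ c ∈ Subgroup.centralizer (φ.range : Set G), c ∈ M ∨ φ (-1) * c ∈ M := by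
  set C := Subgroup.centralizer (φ.range : Set G) with hC
  have hZ : IsZGroup C := h.isZGroup_cent hφ h3
  obtain ⟨P⟩ : Nonempty (Sylow 2 C) := inferInstance
  have hn := H30.hasNormalTwoComplement_of_isCyclic P inferInstance
  have hz1 : φ (-1) ≠ 1 := fun e => SL5.neg_one_ne_one (hφ (by rw [e, map_one]))
  have hz : φ (-1) ^ 2 = 1 := by rw [← map_pow]; simp
  have hmem : ∀ c, c ∈ (pResidual 2 C).map C.subtype ↔ c ∈ C ∧ (orderOf c).Coprime 2 := by
    intro c
    constructor
    · rintro ⟨c, hc, rfl⟩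
      refine ⟨c.2, ?_⟩
      rw [Subgroup.coe_subtype, Subgroup.orderOf_coe]
      exact (H3.mem_pResidual_iff_of_hasNormalPComplement hn c).mp hc
    · rintro ⟨h1, h2⟩
      refine ⟨⟨c, h1⟩, (H3.mem_pResidual_iff_of_hasNormalPComplement hn _).mpr ?_, rfl⟩
      rwa [← Subgroup.orderOf_coe]
  refine ⟨(pResidual 2 C).map C.subtype, hmem, ?_, fun c hc => ?_⟩
  · have key : ∀ p : ℕ, p.Prime → (∀ c ∈ (pResidual 2 C).map C.subtype, c ^ p = 1 → c = 1) →
        (Nat.card ((pResidual 2 C).map C.subtype)).Coprime p := by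
      intro p hp hh
      rw [Nat.coprime_comm, hp.coprime_iff_not_dvd]
      intro hd
      have := Fact.mk hp
      obtain ⟨c, hc⟩ := exists_prime_orderOf_dvd_card' p hd
      have h1 : c = 1 := Subtype.ext (hh c c.2 (by
        rw [← hc]; exact congrArg Subtype.val (pow_orderOf_eq_one c)))
      rw [h1, orderOf_one] at hc
      exact hp.one_lt.ne hc
    refine Nat.Coprime.mul_right (Nat.Coprime.mul_right (key 2 Nat.prime_two fun c hc h1 => ?_)
      (key 3 Nat.prime_three fun c hc => ?_)) (key 5 Nat.prime_five fun c hc => ?_)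
    · exact orderOf_eq_one_iff.mp (Nat.eq_one_of_dvd_coprimes ((hmem c).mp hc).2 dvd_rfl
        (orderOf_dvd_of_pow_eq_one h1))
    · exact (h.cent_facts hφ h3 ((hmem c).mp hc).1).1
    · exact (h.cent_facts hφ h3 ((hmem c).mp hc).1).2.2
  · have hc' := H3.isComplement'_pResidual_of_coprime P (H3.hasNormalPComplement_iff_coprime.mp hn)
    obtain ⟨⟨n, t⟩, hnt⟩ := hc'.2 ⟨c, hc⟩
    have e : ((n : C) : G) * ((t : C) : G) = c := congrArg Subtype.val hnt
    have hnM : ((n : C) : G) ∈ (pResidual 2 C).map C.subtype := ⟨n, n.2, rfl⟩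
    have ht2 : ((t : C) : G) ^ 2 = 1 := by
      obtain ⟨k, hk⟩ := P.isPGroup' t
      have hk' : ((t : C) : G) ^ 2 ^ k = 1 := congrArg Subtype.val (congrArg Subtype.val hk)
      clear hk
      induction k with
      | zero => rw [pow_zero, pow_one] at hk'; rw [hk', one_pow]
      | succ k ih =>
        rcases k with _ | k
        · simpa using hk'
        · apply ih
          rw [pow_succ' 2 k, mul_comm, pow_mul]
          refine (h.cent_facts hφ h3 (C.pow_mem (t : C).2 _)).2.1 ?_
          rw [← pow_mul, ← hk']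
          congr 1
          ring
    by_cases ht1 : ((t : C) : G) = 1
    · left
      rwa [← e, ht1, mul_one]
    · right
      rwa [← e, h.invol_unique hz1 hz ht1 ht2, h.central_invol hz1 hz n, ← mul_assoc, ← sq, hz,
        one_mul]

end Cfsg.Agent.H24
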