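import Cfsg.Agent.H23.MaxAb
import Cfsg.Agent.H21.Basic

/-! Depth calculus for an abelian group acting on a section, and the sharp form of Thompson's
replacement lemma. -/

set_option autoImplicit false
set_option linter.unusedSectionVars false

namespace Cfsg.Agent.H24.JA

open Subgroup Cfsg.Agent.H23
open scoped commutatorElement

variable {G : Type*} [Group G]

/-- the commutator `x⁻¹ (a x a⁻¹)` -/
def tau (a x : G) : G := x⁻¹ * (a * x * a⁻¹)

theorem conj_eq (a x : G) : a * x * a⁻¹ = x * tau a x := by simp [tau]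

theorem tau_mul_left (a b x : G) : tau (a * b) x = tau a x * tau b x * tau a (tau b x) := by
  simp only [tau]; group

theorem tau_mul_right (a x y : G) : tau a (x * y) = y⁻¹ * tau a x * y * tau a y := by
  simp only [tau]; group

theorem tau_inv_right (a x : G) : tau a x⁻¹ = x * (tau a x)⁻¹ * x⁻¹ := by
  simp only [tau]; group

theorem tau_eq_one_iff {a x : G} : tau a x = 1 ↔ a * x = x * a := by
  rw [tau, inv_mul_eq_one, eq_mul_inv_iff_mul_eq, eq_comm]

theorem tau_one_left (x : G) : tau 1 x = 1 := by simp [tau]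

theorem tau_one_right (a : G) : tau a 1 = 1 := by simp [tau]

theorem tau_tau (a b x : G) : tau a (tau b x) = (tau b x)⁻¹ * (tau a x)⁻¹ * tau (a * b) x := by
  rw [tau_mul_left]; group

theorem tau_tau' {a b : G} (hab : a * b = b * a) (x : G) :
    tau a (tau b x) = (tau b x)⁻¹ * (tau a x)⁻¹ * tau b x * tau a x * tau b (tau a x) := by
  rw [tau_tau, hab, tau_mul_left]; group

theorem tau_comm {a b x : G} (hab : a * b = b * a) (h : tau a x * tau b x = tau b x * tau a x) :
    tau a (tau b x) = tau b (tau a x) := by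
  rw [tau_tau' hab, mul_assoc _ (tau b x), ← h]; group

theorem tau_of_cent {A : Subgroup G} {a x : G} (ha : a ∈ A) (hx : x ∈ centralizer (A : Set G)) :
    tau a x = 1 := tau_eq_one_iff.2 (hx a ha)

theorem tau_mem_normal {N : Subgroup G} [hN : N.Normal] (a : G) {x : G} (hx : x ∈ N) : tau a x ∈ N :=
  mul_mem (inv_mem hx) (hN.conj_mem x hx a)

/-- `x` is carried into `Y` by every `k`-fold commutator with elements of `A` -/
def Dp (A Y : Subgroup G) : ℕ → G → Prop
  | 0, x => x ∈ Y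
  | k + 1, x => ∀ a ∈ A, Dp A Y k (tau a x)

theorem dp_one_iff {A : Subgroup G} {x : G} : Dp A ⊥ 1 x ↔ x ∈ centralizer (A : Set G) :=
  ⟨fun h a ha => tau_eq_one_iff.1 (h a ha), fun h a ha => tau_of_cent ha h⟩

/-- an abelian section `X / Y` on which `A` acts -/
structure Sec (A X Y : Subgroup G) : Prop where
  hX : ∀ a ∈ A, ∀ x ∈ X, a * x * a⁻¹ ∈ X
  hY : ∀ a ∈ A, ∀ y ∈ Y, a * y * a⁻¹ ∈ Y
  comm : ∀ x ∈ X, ∀ y ∈ X, x * y * x⁻¹ * y⁻¹ ∈ Y

namespace Sec

variable {A X Y : Subgroup G} (h : Sec A X Y)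
include h

theorem tau_mem {a x : G} (ha : a ∈ A) (hx : x ∈ X) : tau a x ∈ X := mul_mem (inv_mem hx) (h.hX a ha x hx)

theorem succ {k : ℕ} {x : G} (hx : Dp A Y k x) : Dp A Y (k + 1) x := by
  induction k generalizing x with
  | zero => exact fun a ha => mul_mem (inv_mem hx) (h.hY a ha x hx)
  | succ k ih => exact fun a ha => ih (hx a ha)

theorem mono {k l : ℕ} (hkl : k ≤ l) {x : G} (hx : Dp A Y k x) : Dp A Y l x := by
  induction hkl with
  | refl => exact hx
  | step _ ih => exact h.succ ih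

theorem mul {k : ℕ} {x y : G} (hx : x ∈ X) (hy : y ∈ X) (dx : Dp A Y k x) (dy : Dp A Y k y) :
    Dp A Y k (x * y) := by
  induction k generalizing x y with
  | zero => exact mul_mem dx dy
  | succ k ih =>
    intro a ha
    have h1 := h.tau_mem ha hx
    have e : tau a (x * y) = (y⁻¹ * tau a x * y⁻¹⁻¹ * (tau a x)⁻¹) * (tau a x * tau a y) := by
      rw [tau_mul_right]; group
    rw [e]
    exact ih (mul_mem (mul_mem (mul_mem (inv_mem hy) h1) (inv_mem (inv_mem hy))) (inv_mem h1))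
      (mul_mem h1 (h.tau_mem ha hy)) (h.mono (Nat.zero_le k) (h.comm _ (inv_mem hy) _ h1))
      (ih h1 (h.tau_mem ha hy) (dx a ha) (dy a ha))

theorem inv {k : ℕ} {x : G} (hx : x ∈ X) (dx : Dp A Y k x) : Dp A Y k x⁻¹ := by
  induction k generalizing x with
  | zero => exact inv_mem dx
  | succ k ih =>
    intro a ha
    have h1 := inv_mem (h.tau_mem ha hx)
    have e : tau a x⁻¹ = (x * (tau a x)⁻¹ * x⁻¹ * (tau a x)⁻¹⁻¹) * (tau a x)⁻¹ := by
      rw [tau_inv_right]; group
    rw [e]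
    exact h.mul (mul_mem (mul_mem (mul_mem hx h1) (inv_mem hx)) (inv_mem h1)) h1
      (h.mono (Nat.zero_le k) (h.comm _ hx _ h1)) (ih (h.tau_mem ha hx) (dx a ha))

/-- the `k`-th layer -/
def lay (k : ℕ) : Subgroup G where
  carrier := {x | x ∈ X ∧ Dp A Y k x}
  mul_mem' := fun hx hy => ⟨mul_mem hx.1 hy.1, h.mul hx.1 hy.1 hx.2 hy.2⟩
  one_mem' := ⟨one_mem _, h.mono (Nat.zero_le k) (one_mem Y)⟩
  inv_mem' := fun hx => ⟨inv_mem hx.1, h.inv hx.1 hx.2⟩

theorem iterC_le {B : Subgroup G} (hB : B ≤ A) (k : ℕ) {U : Subgroup G} (hU : U ≤ h.lay k) :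
    iterCommutator U B k ≤ Y := by
  have : ∀ i j, i + j = k → iterCommutator U B i ≤ h.lay j := by
    intro i
    induction i with
    | zero => intro j hj; rw [zero_add] at hj; subst hj; exact hU
    | succ i ih =>
      intro j hj
      refine commutator_le.2 fun x hx b hb => ?_
      have h1 := inv_mem (ih (j + 1) (by omega) hx)
      have e : ⁅x, b⁆ = tau b x⁻¹ := by simp [tau, commutatorElement_def, mul_assoc]
      rw [e]
      exact ⟨h.tau_mem (hB hb) h1.1, h1.2 b (hB hb)⟩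
  exact fun x hx => (this k 0 rfl hx).2

end Sec

theorem exists_dp [Finite G] {p : ℕ} [Fact p.Prime] {S A : Subgroup G} (hS : IsPGroup p S) (hA : A ≤ S)
    (Y : Subgroup G) : ∃ n, ∀ x ∈ S, Dp A Y n x := by
  obtain ⟨n, hn⟩ := hS.isNilpotent.nilpotent'
  have : ∀ k, ∀ x : S, x ∈ Subgroup.upperCentralSeries S k → Dp A Y k x := by
    intro k
    induction k with
    | zero =>
      intro x hx
      rw [Subgroup.upperCentralSeries_zero, mem_bot] at hx
      rw [hx]; exact one_mem Y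
    | succ k ih =>
      intro x hx a ha
      have h := ih _ (Subgroup.mem_upperCentralSeries_succ_iff.1 (inv_mem hx) (⟨a, hA ha⟩ : S))
      simpa [tau, commutatorElement_def, mul_assoc] using h
  exact ⟨n, fun x hx => this n ⟨x, hx⟩ (hn ▸ mem_top _)⟩

section count
variable [Finite G] {H H' K K' : Subgroup G} (f : G → G) (hf : ∀ a ∈ H, f a ∈ K)
  (hi : ∀ a ∈ H, ∀ b ∈ H, (f a)⁻¹ * f b ∈ K' → a⁻¹ * b ∈ H')
include hf hi

theorem idx_inj : Function.Injective fun q : H ⧸ H'.subgroupOf H =>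
    (QuotientGroup.mk ⟨f q.out, hf _ q.out.2⟩ : K ⧸ K'.subgroupOf K) := by
  intro q q' e
  rw [← q.out_eq', ← q'.out_eq']
  have e' := QuotientGroup.eq.1 e
  exact QuotientGroup.eq.2 (hi _ q.out.2 _ q'.out.2 e')

theorem idx_le : H'.relIndex H ≤ K'.relIndex K :=
  Nat.card_le_card_of_injective _ (idx_inj f hf hi)

theorem idx_lt {m : G} (hm : m ∈ K) (hn : ∀ a ∈ H, (f a)⁻¹ * m ∉ K') : H'.relIndex H < K'.relIndex K := by
  have := Fintype.ofFinite (H ⧸ H'.subgroupOf H)
  have := Fintype.ofFinite (K ⧸ K'.subgroupOf K)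
  unfold relIndex index
  rw [Nat.card_eq_fintype_card, Nat.card_eq_fintype_card]
  refine Fintype.card_lt_of_injective_of_notMem _ (idx_inj f hf hi) (b := QuotientGroup.mk ⟨m, hm⟩) ?_
  rintro ⟨q, e⟩
  have e' := QuotientGroup.eq.1 e
  exact hn _ q.out.2 e'

end count

/-- the subgroup `[x, A]` -/
def cm (A : Subgroup G) (x : G) : Subgroup G := closure {m | ∃ a ∈ A, tau a x = m}

theorem tau_mem_cm {A : Subgroup G} {a : G} (ha : a ∈ A) (x : G) : tau a x ∈ cm A x :=
  subset_closure ⟨a, ha, rfl⟩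

theorem cm_le {A U : Subgroup G} {x : G} (h : ∀ a ∈ A, tau a x ∈ U) : cm A x ≤ U :=
  (closure_le _).2 (by rintro _ ⟨a, ha, rfl⟩; exact h a ha)

theorem mem_cent_cm {A : Subgroup G} {x c : G} (h : ∀ a ∈ A, tau c (tau a x) = 1) :
    c ∈ centralizer (cm A x : Set G) := fun m hm =>
  mem_centralizer_singleton_iff.1 (cm_le (U := centralizer {c})
    (fun a ha => mem_centralizer_singleton_iff.2 (tau_eq_one_iff.1 (h a ha)).symm) hm)

theorem comm_of {A : Subgroup G} (hA : IsMulCommutative A) {a b : G} (ha : a ∈ A) (hb : b ∈ A) :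
    a * b = b * a := le_centralizer_iff_isMulCommutative.2 hA hb a ha

/-- the sharp form of Thompson's lemma -/
theorem thompson [Finite G] {S A : Subgroup G} (hA : A ∈ maxAb 0 S) {x : G} (hx : x ∈ S)
    (hc : ∀ a ∈ A, ∀ b ∈ A, tau a x * tau b x = tau b x * tau a x) :
    cm A x ⊔ A ⊓ centralizer (cm A x : Set G) ∈ maxAb 0 S ∧
      ∀ m ∈ cm A x, ∃ c ∈ A, (tau c x)⁻¹ * m ∈ centralizer (A : Set G) := by
  set M := cm A x with hM
  set C := A ⊓ centralizer (M : Set G) with hC
  have hMc : IsMulCommutative M := isMulCommutative_closure (by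
    rintro _ ⟨a, ha, rfl⟩ _ ⟨b, hb, rfl⟩; exact hc a ha b hb)
  have hMS : M ≤ S := cm_le fun a ha =>
    mul_mem (inv_mem hx) (mul_mem (mul_mem (hA.1 ha) hx) (inv_mem (hA.1 ha)))
  have hB : IsMulCommutative ↥(M ⊔ C) := isMulCommutative_sup hMc
    (isMulCommutative_of_le hA.2.1 inf_le_left) (le_centralizer_iff.1 inf_le_right)
  have hBS : M ⊔ C ≤ S := sup_le hMS (inf_le_left.trans hA.1)
  have hi : ∀ a ∈ A, ∀ b ∈ A, (tau a x)⁻¹ * tau b x ∈ centralizer (A : Set G) →
      a⁻¹ * b ∈ centralizer (M : Set G) := by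
    intro a ha b hb h
    have hab := mul_mem (inv_mem ha) hb
    have h1 : tau (a⁻¹ * b) x = a⁻¹ * ((tau a x)⁻¹ * tau b x) * a := by simp only [tau]; group
    rw [h _ (inv_mem ha), inv_mul_cancel_right] at h1
    refine mem_cent_cm fun d hd => ?_
    rw [tau_comm (comm_of hA.2.1 hab hd) (hc _ hab d hd), h1]
    exact tau_of_cent hd h
  have h1 := H21.card_mul_card_le M C
  have h2 : Nat.card ↥(M ⊓ C) ≤ Nat.card ↥(centralizer (A : Set G) ⊓ M) :=
    card_le_of_le (le_inf ((inf_le_right.trans inf_le_left).trans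
      (le_centralizer_iff_isMulCommutative.2 hA.2.1)) inf_le_left)
  have h3 := H21.card_inf_mul_relIndex (centralizer (A : Set G)) M
  have h4 := H21.card_inf_mul_relIndex (centralizer (M : Set G)) A
  rw [inf_comm, ← hC] at h4
  have h5 := hA.2.2.2 _ hBS hB (fun b _ => pow_zero b)
  have h6 : 0 < Nat.card ↥(centralizer (A : Set G) ⊓ M) := Nat.card_pos
  have h7 : 0 < Nat.card C := Nat.card_pos
  have h8 : (centralizer (A : Set G)).relIndex M * Nat.card C ≤ Nat.card ↥(M ⊔ C) := by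
    refine Nat.le_of_mul_le_mul_left ?_ h6
    rw [← mul_assoc, h3, mul_comm _ (Nat.card ↥(M ⊔ C))]
    exact h1.trans (Nat.mul_le_mul_left _ h2)
  constructor
  · refine ⟨hBS, hB, fun b _ => pow_zero b, fun B b1 b2 b3 => (hA.2.2.2 B b1 b2 b3).trans ?_⟩
    have := idx_le (fun a => tau a x) (fun a ha => tau_mem_cm ha x) hi
    rw [← h4, mul_comm]
    exact (Nat.mul_le_mul_right _ this).trans h8
  · intro m hm
    by_contra hn
    push Not at hn
    have := idx_lt (fun a => tau a x) (fun a ha => tau_mem_cm ha x) hi hm hn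
    have h9 := (Nat.mul_lt_mul_of_pos_right this h7).trans_le (h8.trans h5)
    rw [← h4, mul_comm] at h9
    exact lt_irrefl _ h9

end Cfsg.Agent.H24.JA
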