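import Cfsg.Agent.H24.JA1

/-! An abelian subgroup of largest order outside `T`, with largest intersection with a critical
subgroup `Q`: action on abelian invariant subgroups. -/

set_option autoImplicit false
set_option linter.unusedSectionVars false

namespace Cfsg.Agent.H24.JA

open Subgroup Cfsg.Agent.H23
open scoped commutatorElement

variable {G : Type*} [Group G] [Finite G]

structure St (p : ℕ) (S T Q A : Subgroup G) : Prop where
  odd : p ≠ 2
  pS : IsPGroup p S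
  nT : T.Normal
  nQ : Q.Normal
  TS : T ≤ S
  QT : Q ≤ T
  crit : ∀ t ∈ T, ∀ q ∈ Q, tau t q ∈ centralizer (Q : Set G)
  mx : A ∈ maxAb 0 S
  best : ∀ B ∈ maxAb 0 S, ¬ B ≤ T → Nat.card ↥(B ⊓ Q) ≤ Nat.card ↥(A ⊓ Q)

/-- the centre of `Q` -/
abbrev ZQ (Q : Subgroup G) : Subgroup G := Q ⊓ centralizer (Q : Set G)

/-- an abelian `A`-invariant subgroup of `Q` centralised by `A ⊓ Q` -/
structure Ab (Q A U : Subgroup G) : Prop extends Sec A U ⊥ where
  le : U ≤ Q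
  hd : ∀ d ∈ A ⊓ Q, ∀ m ∈ U, tau d m = 1

theorem Ab.com {Q A U : Subgroup G} (h : Ab Q A U) {x y : G} (hx : x ∈ U) (hy : y ∈ U) : x * y = y * x := by
  have := mem_bot.1 (h.comm x hx y hy)
  rwa [mul_inv_eq_one, mul_inv_eq_iff_eq_mul] at this

namespace St

variable {p : ℕ} [Fact p.Prime] {S T Q A : Subgroup G} (h : St p S T Q A)
include h

theorem com {a b : G} (ha : a ∈ A) (hb : b ∈ A) : a * b = b * a := comm_of h.mx.2.1 ha hb

theorem mem_of_cent {q : G} (hq : q ∈ Q) (hc : q ∈ centralizer (A : Set G)) : q ∈ A ⊓ Q :=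
  ⟨mem_of_mem_centralizer_maxAb h.mx (h.TS (h.QT hq)) (pow_zero q) hc, hq⟩

theorem tauQ (a : G) {q : G} (hq : q ∈ Q) : tau a q ∈ Q := haveI := h.nQ; tau_mem_normal a hq

theorem tauW (a : G) {q : G} (hq : q ∈ ZQ Q) : tau a q ∈ ZQ Q := haveI := h.nQ; tau_mem_normal a hq

theorem tauT {t q : G} (ht : t ∈ T) (hq : q ∈ Q) : tau t q ∈ ZQ Q := ⟨h.tauQ t hq, h.crit t ht q hq⟩

theorem f2 {U : Subgroup G} (hU : Ab Q A U) {x : G} (hx : x ∈ Q) (hxU : ∀ a ∈ A, tau a x ∈ U) {c : G}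
    (hc : c ∈ A) (hcT : c ∉ T) (h1 : ∀ a ∈ A, tau c (tau a x) = 1) : Dp A ⊥ 2 x := by
  have hB := (thompson h.mx (h.TS (h.QT hx)) fun a ha b hb => hU.com (hxU a ha) (hxU b hb)).1
  have h2 := h.best _ hB fun hle => hcT (hle (mem_sup_right ⟨hc, mem_cent_cm h1⟩))
  have h3 : A ⊓ Q = (cm A x ⊔ A ⊓ centralizer (cm A x : Set G)) ⊓ Q :=
    eq_of_le_of_card_ge (fun d hd =>
      ⟨mem_sup_right ⟨hd.1, mem_cent_cm fun a ha => hU.hd d hd _ (hxU a ha)⟩, hd.2⟩) h2
  intro a ha b hb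
  have h4 : tau a x ∈ A ⊓ Q := h3 ▸ ⟨mem_sup_left (tau_mem_cm ha x), h.tauQ a hx⟩
  exact tau_eq_one_iff.2 (h.com hb h4.1)

theorem layer {U : Subgroup G} (hU : Ab Q A U) {c : G} (hc : c ∈ A) (hcT : c ∉ T) (k : ℕ) {x : G}
    (hx : x ∈ Q) (hxU : ∀ a ∈ A, tau a x ∈ U) (h1 : Dp A ⊥ (k + 1) (tau c x)) : Dp A ⊥ (k + 2) x := by
  induction k generalizing x with
  | zero =>
    refine h.f2 hU hx hxU hc hcT fun a ha => ?_
    rw [tau_comm (h.com hc ha) (hU.com (hxU c hc) (hxU a ha))]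
    exact h1 a ha
  | succ k ih =>
    intro a ha
    refine ih (h.tauQ a hx) (fun b hb => hU.tau_mem hb (hxU a ha)) ?_
    rw [tau_comm (h.com hc ha) (hU.com (hxU c hc) (hxU a ha))]
    exact h1 a ha

theorem abW : Ab Q A (ZQ Q) where
  hX := fun a _ x hx => haveI := h.nQ; Normal.conj_mem inferInstance x hx a
  hY := fun a _ x hx => by rw [mem_bot.1 hx]; simp
  comm := fun x hx y hy => by rw [mem_bot, hy.2 x hx.1]; simp
  le := inf_le_left
  hd := fun d hd m hm => tau_eq_one_iff.2 (hm.2 d hd.2)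

theorem wa {w a b : G} (hw : w ∈ ZQ Q) (ha : a ∈ A) (hb : b ∈ A) :
    ∃ c ∈ T, (tau c w)⁻¹ * tau a (tau b w) ∈ centralizer (A : Set G) := by
  have hU := h.abW
  obtain ⟨c, hc, hn⟩ := (thompson h.mx (h.TS (h.QT hw.1))
    fun a _ b _ => hU.com (h.tauW a hw) (h.tauW b hw)).2 (tau a (tau b w)) (by
      rw [tau_tau]
      exact mul_mem (mul_mem (inv_mem (tau_mem_cm hb w)) (inv_mem (tau_mem_cm ha w)))
        (tau_mem_cm (mul_mem ha hb) w))
  by_cases hcT : c ∈ T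
  · exact ⟨c, hcT, hn⟩
  have hm := h.tauW a (h.tauW b hw)
  have hn' := mul_mem (inv_mem (h.tauW c hw)) hm
  have key : ∀ k, Dp A ⊥ (k + 2) w → Dp A ⊥ 2 w := by
    intro k
    induction k with
    | zero => exact id
    | succ k ih =>
      intro hk
      refine ih (h.layer hU hc hcT k hw.1 (fun a _ => h.tauW a hw) ?_)
      have e : tau c w = tau a (tau b w) * ((tau c w)⁻¹ * tau a (tau b w))⁻¹ := by group
      rw [e]
      exact hU.mul hm (inv_mem hn') (hk b hb a ha)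
        (hU.mono (by omega) (hU.inv hn' (dp_one_iff.2 hn)))
  obtain ⟨n, hn⟩ := exists_dp h.pS h.mx.1 ⊥
  have h2 := key n (hU.mono (by omega) (hn w (h.TS (h.QT hw.1))))
  refine ⟨1, one_mem _, ?_⟩
  rw [mem_bot.1 (h2 b hb a ha), tau_one_left]
  simp

theorem dp_three {X Y : Subgroup G} [hY : Y.Normal] (hX : X ≤ ZQ Q) (hT : ∀ t ∈ T, ∀ x ∈ X, tau t x ∈ Y)
    {x : G} (hx : x ∈ X) : Dp A Y 3 x := by
  intro b hb a ha e he
  obtain ⟨c, hc, hn⟩ := h.wa (hX hx) ha hb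
  have e1 : tau a (tau b x) = tau c x * ((tau c x)⁻¹ * tau a (tau b x)) := by group
  change tau e (tau a (tau b x)) ∈ Y
  rw [e1, tau_mul_right, tau_of_cent he hn, mul_one]
  exact hY.conj_mem' _ (tau_mem_normal e (hT c hc x hx)) _

theorem f3 {z : G} (hz : z ∈ ZQ Q) (hzT : z ∈ centralizer (T : Set G)) : Dp A ⊥ 2 z := by
  have hU := h.abW
  by_contra hcon
  have hB := (thompson h.mx (h.TS (h.QT hz.1)) fun a _ b _ => hU.com (h.tauW a hz) (h.tauW b hz)).1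
  have hM : cm A z ≤ ZQ Q := cm_le fun a _ => h.tauW a hz
  have hBT : cm A z ⊔ A ⊓ centralizer (cm A z : Set G) ≤ T := by
    refine sup_le (hM.trans (inf_le_left.trans h.QT)) fun c hc => ?_
    by_contra hcT
    exact hcon (h.f2 hU hz.1 (fun a _ => h.tauW a hz) hc.1 hcT fun a ha =>
      tau_eq_one_iff.2 (hc.2 _ (tau_mem_cm ha z)).symm)
  have h1 := mem_of_mem_centralizer_maxAb hB (h.TS (h.QT hz.1)) (pow_zero z) (centralizer_le hBT hzT)
  rw [sup_comm] at h1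
  obtain ⟨c, hc, m, hm, e⟩ := (mem_sup_of_le_normalizer_right
    (inf_le_right.trans (centralizer_le_normalizer _))).1 h1
  have key : ∀ k, Dp A ⊥ (k + 1) z → Dp A ⊥ 1 z := by
    intro k
    induction k with
    | zero => exact id
    | succ k ih =>
      intro hk
      refine ih fun b hb => ?_
      have h2 : cm A z ≤ hU.lay (k + 1) := cm_le fun a ha => ⟨h.tauW a hz, hk a ha⟩
      rw [← e, tau_mul_right, tau_eq_one_iff.2 (h.com hb hc.1)]
      simpa using (h2 hm).2 b hb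
  obtain ⟨n, hn⟩ := exists_dp h.pS h.mx.1 ⊥
  exact hcon (hU.succ (key n (hU.succ (hn z (h.TS (h.QT hz.1))))))

end St

end Cfsg.Agent.H24.JA
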