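import Cfsg.Agent.H24.JA2
import Cfsg.Agent.H24.JA3

/-! Commutator calculus in the critical subgroup `Q`. -/

set_option autoImplicit false
set_option linter.unusedSectionVars false

namespace Cfsg.Agent.H24.JA

open Subgroup Cfsg.Agent.H23
open scoped commutatorElement IsMulCommutative

variable {G : Type*} [Group G] [Finite G]

instance zqComm (Q : Subgroup G) : IsMulCommutative (ZQ Q) :=
  ⟨⟨fun a b => Subtype.ext (b.2.2 a a.2.1)⟩⟩

open Classical in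
/-- additive coordinate on the centre of `Q` -/
noncomputable def ph (Q : Subgroup G) (g : G) : Additive (ZQ Q) :=
  if h : g ∈ ZQ Q then Additive.ofMul ⟨g, h⟩ else 0

theorem ph_of {Q : Subgroup G} {g : G} (h : g ∈ ZQ Q) : ph Q g = Additive.ofMul ⟨g, h⟩ := dif_pos h

theorem ph_mul {Q : Subgroup G} {g g' : G} (h : g ∈ ZQ Q) (h' : g' ∈ ZQ Q) :
    ph Q (g * g') = ph Q g + ph Q g' := by
  rw [ph_of h, ph_of h', ph_of (mul_mem h h')]; rfl

theorem ph_inj {Q : Subgroup G} {g g' : G} (h : g ∈ ZQ Q) (h' : g' ∈ ZQ Q) (e : ph Q g = ph Q g') : g = g' := by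
  rw [ph_of h, ph_of h'] at e
  exact congrArg Subtype.val (Additive.ofMul.injective e)

theorem ph_one (Q : Subgroup G) : ph Q 1 = 0 := by rw [ph_of (one_mem _)]; rfl

theorem ph_eq_zero {Q : Subgroup G} {g : G} (h : g ∈ ZQ Q) : ph Q g = 0 ↔ g = 1 :=
  ⟨fun e => ph_inj h (one_mem _) (e.trans (ph_one Q).symm), fun e => e ▸ ph_one Q⟩

/-- iterated commutator -/
def app {A : Subgroup G} (y : G) : List A → G
  | [] => y
  | a :: l => tau a (app y l)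

theorem dp_app {A Y : Subgroup G} {y : G} (l : List A) {k : ℕ} (h : Dp A Y (k + l.length) y) :
    Dp A Y k (app y l) := by
  induction l generalizing k with
  | nil => exact h
  | cons a l ih => exact ih (k := k + 1) (by rwa [Nat.add_right_comm]) a a.2

theorem tau_mul_cent {Q : Subgroup G} [Q.Normal] (a : G) {u w : G} (hu : u ∈ Q) (hw : w ∈ ZQ Q) :
    tau a (u * w) = tau a u * tau a w := by
  rw [tau_mul_right, mul_assoc w⁻¹, hw.2 _ (tau_mem_normal a hu)]; group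

namespace St

variable {p : ℕ} [Fact p.Prime] {S T Q A : Subgroup G} (h : St p S T Q A)
include h

theorem bW {u v : G} (hu : u ∈ Q) (hv : v ∈ Q) : ⁅u, v⁆ ∈ ZQ Q := by
  have : ⁅u, v⁆ = tau v u⁻¹ := by simp [tau, commutatorElement_def, mul_assoc]
  rw [this]; exact h.tauT (h.QT hv) (inv_mem hu)

theorem b_left {u u' v : G} (hu : u ∈ Q) (hu' : u' ∈ Q) (hv : v ∈ Q) : ⁅u * u', v⁆ = ⁅u, v⁆ * ⁅u', v⁆ := by
  have e : ⁅u * u', v⁆ = u * ⁅u', v⁆ * u⁻¹ * ⁅u, v⁆ := by simp only [commutatorElement_def]; group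
  rw [e, (h.bW hu' hv).2 u hu, mul_inv_cancel_right, (h.bW hu' hv).2 _ (h.bW hu hv).1]

theorem b_right {u v v' : G} (hu : u ∈ Q) (hv : v ∈ Q) (hv' : v' ∈ Q) : ⁅u, v * v'⁆ = ⁅u, v⁆ * ⁅u, v'⁆ := by
  have e : ⁅u, v * v'⁆ = ⁅u, v⁆ * (v * ⁅u, v'⁆ * v⁻¹) := by simp only [commutatorElement_def]; group
  rw [e, (h.bW hu hv').2 v hv, mul_inv_cancel_right]

theorem b_W_left {w v : G} (hw : w ∈ ZQ Q) (hv : v ∈ Q) : ⁅w, v⁆ = 1 :=
  commutatorElement_eq_one_iff_mul_comm.2 (hw.2 v hv).symm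

theorem b_W_right {w v : G} (hv : v ∈ Q) (hw : w ∈ ZQ Q) : ⁅v, w⁆ = 1 :=
  commutatorElement_eq_one_iff_mul_comm.2 (hw.2 v hv)

theorem conj_b (a : G) {u v : G} (hu : u ∈ Q) (hv : v ∈ Q) :
    ⁅u, v⁆ * tau a ⁅u, v⁆ = ⁅u, v⁆ * ⁅tau a u, v⁆ * (⁅u, tau a v⁆ * ⁅tau a u, tau a v⁆) := by
  rw [← conj_eq, conjugate_commutatorElement, conj_eq, conj_eq,
    h.b_right (mul_mem hu (h.tauQ a hu)) hv (h.tauQ a hv), h.b_left hu (h.tauQ a hu) hv,
    h.b_left hu (h.tauQ a hu) (h.tauQ a hv)]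

theorem star (a : G) {u v : G} (hu : u ∈ Q) (hv : v ∈ Q) :
    tau a ⁅u, v⁆ = ⁅tau a u, v⁆ * ⁅u, tau a v⁆ * ⁅tau a u, tau a v⁆ := by
  have := h.conj_b a hu hv
  rw [mul_assoc, mul_left_cancel_iff] at this
  rw [this, mul_assoc]

theorem bT {u v : G} (hu : u ∈ Q) (hv : v ∈ Q) : ⁅u, v⁆ ∈ centralizer (T : Set G) := fun t ht =>
  tau_eq_one_iff.1 (by
    rw [h.star t hu hv, h.b_W_left (h.tauT ht hu) hv, h.b_W_right hu (h.tauT ht hv),
      h.b_W_left (h.tauT ht hu) (h.tauQ t hv)]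
    simp)

theorem b_dd {a b u v : G} (ha : a ∈ A) (hb : b ∈ A) (hu : u ∈ Q) (hv : v ∈ Q) : tau a (tau b ⁅u, v⁆) = 1 :=
  h.f3 (h.bW hu hv) (h.bT hu hv) b hb a ha

theorem b_congr {u v v' : G} (hu : u ∈ Q) (hv : v ∈ Q) (e : v⁻¹ * v' ∈ ZQ Q) : ⁅u, v'⁆ = ⁅u, v⁆ := by
  have : v' = v * (v⁻¹ * v') := by group
  rw [this, h.b_right hu hv e.1, h.b_W_right hu e, mul_one]

theorem tau_swap {a b u : G} (hab : a * b = b * a) (hu : u ∈ Q) :
    tau a (tau b u) = tau b (tau a u) * ⁅tau b u, tau a u⁆ := by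
  have h1 := h.tauQ a hu
  have h2 := h.tauQ b hu
  have h3 := h.bW h2 h1
  have e : (tau b u)⁻¹ * (tau a u)⁻¹ * tau b u * tau a u =
      (tau a u * tau b u)⁻¹ * ⁅tau b u, tau a u⁆ * (tau a u * tau b u) := by
    simp only [commutatorElement_def]; group
  rw [tau_tau' hab, e, h3.2 _ (inv_mem (mul_mem h1 h2)), inv_mul_cancel_right, h3.2 _ (h.tauQ b h1)]

theorem tau_congr (a : G) {u v : G} (hu : u ∈ Q) (e : u⁻¹ * v ∈ ZQ Q) : (tau a u)⁻¹ * tau a v ∈ ZQ Q := by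
  have := h.nQ
  have e1 : v = u * (u⁻¹ * v) := by group
  rw [e1, tau_mul_cent a hu e, inv_mul_cancel_left]
  exact h.tauW a e

theorem appQ {y : G} (hy : y ∈ Q) (l : List A) : app y l ∈ Q := by
  induction l with
  | nil => exact hy
  | cons a l ih => exact h.tauQ a ih

theorem app_perm {y : G} (hy : y ∈ Q) (l1 : List A) (e : A) (l2 : List A) :
    (app y (e :: (l1 ++ l2)))⁻¹ * app y (l1 ++ e :: l2) ∈ ZQ Q := by
  induction l1 with
  | nil => simp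
  | cons f l1 ih =>
    have h1 := h.tau_congr f (h.appQ hy _) ih
    have h2 := h.tau_swap (h.com f.2 e.2) (h.appQ hy (l1 ++ l2))
    have h3 := h.bW (h.tauQ e (h.appQ hy (l1 ++ l2))) (h.tauQ f (h.appQ hy (l1 ++ l2)))
    have := mul_mem h3 h1
    simp only [app, List.cons_append] at this ⊢
    rw [h2, mul_inv_rev, mul_assoc, mul_inv_cancel_left] at this
    exact this

/-- the action on the centre of `Q` -/
noncomputable def dz (a : G) : Additive (ZQ Q) →+ Additive (ZQ Q) :=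
  AddMonoidHom.mk' (fun w => ph Q (tau a (w.toMul : ZQ Q))) fun w w' => by
    have := h.nQ
    rw [toMul_add, coe_mul, tau_mul_cent a w.toMul.2.1 w'.toMul.2,
      ph_mul (h.tauW a w.toMul.2) (h.tauW a w'.toMul.2)]

theorem dz_ph (a : G) {w : G} (hw : w ∈ ZQ Q) : h.dz a (ph Q w) = ph Q (tau a w) := by
  rw [ph_of hw]; rfl

theorem eq_one_of_sq {g : G} (hg : g ∈ S) (e : g * g = 1) : g = 1 := by
  obtain ⟨k, hk⟩ := h.pS ⟨g, hg⟩
  have h1 : g ^ p ^ k = 1 := congrArg Subtype.val hk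
  obtain ⟨m, hm⟩ : Odd (p ^ k) := ((Fact.out : p.Prime).odd_of_ne_two h.odd).pow
  rwa [hm, pow_succ, pow_mul, pow_two, e, one_pow, one_mul] at h1

theorem mem_of_sq {B : Subgroup G} {g : G} (hg : g ∈ S) (e : g * g ∈ B) : g ∈ B := by
  obtain ⟨k, hk⟩ := h.pS ⟨g, hg⟩
  have h1 : g ^ p ^ k = 1 := congrArg Subtype.val hk
  obtain ⟨m, hm⟩ : Odd (p ^ k) := ((Fact.out : p.Prime).odd_of_ne_two h.odd).pow
  rw [hm, pow_succ, pow_mul, pow_two, mul_eq_one_iff_eq_inv] at h1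
  exact inv_mem_iff.1 (h1 ▸ pow_mem e m)

theorem ph_anti {u v : G} (hu : u ∈ Q) (hv : v ∈ Q) : ph Q ⁅u, v⁆ = -ph Q ⁅v, u⁆ := by
  rw [eq_neg_iff_add_eq_zero, ← ph_mul (h.bW hu hv) (h.bW hv hu), ← commutatorElement_inv, inv_mul_cancel,
    ph_one]

theorem ph_star (a : G) {u v : G} (hu : u ∈ Q) (hv : v ∈ Q) :
    ph Q ⁅tau a u, v⁆ + ph Q ⁅u, tau a v⁆ + ph Q ⁅tau a u, tau a v⁆ = h.dz a (ph Q ⁅u, v⁆) := by
  have h1 := h.bW (h.tauQ a hu) hv
  have h2 := h.bW hu (h.tauQ a hv)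
  rw [h.dz_ph a (h.bW hu hv), h.star a hu hv, ph_mul (mul_mem h1 h2) (h.bW (h.tauQ a hu) (h.tauQ a hv)),
    ph_mul h1 h2]

theorem lev {y : G} (hy : y ∈ Q) (h5 : Dp A (ZQ Q) 5 y) :
    Lev (fun l1 l2 : List A => ph Q ⁅app y l1, app y l2⁆) fun a => h.dz a where
  star := fun e l1 l2 => h.ph_star e (h.appQ hy l1) (h.appQ hy l2)
  anti := fun l1 l2 => h.ph_anti (h.appQ hy l1) (h.appQ hy l2)
  perm := fun l l1 e l2 => congrArg _ (h.b_congr (h.appQ hy l) (h.appQ hy _) (h.app_perm hy l1 e l2))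
  van := fun l1 l2 hl => by
    have hs : Sec A Q (ZQ Q) := ⟨fun a _ x hx => h.nQ.conj_mem x hx a, h.abW.hX, fun x hx y hy => h.bW hx hy⟩
    have : app y l2 ∈ ZQ Q := dp_app (k := 0) l2 (hs.mono (by omega) h5)
    simp only [h.b_W_right (h.appQ hy l1) this, ph_one]
  dd := fun e e' l1 l2 => by
    have h1 := h.bW (h.appQ hy l1) (h.appQ hy l2)
    simp only [h.dz_ph _ h1, h.dz_ph _ (h.tauW e' h1), h.b_dd e.2 e'.2 (h.appQ hy l1) (h.appQ hy l2), ph_one]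
  two := fun z hz => by
    have h1 : (z.toMul : G) * z.toMul = 1 := congrArg (fun w : Additive (ZQ Q) => (w.toMul : G)) hz
    exact Additive.toMul.injective (Subtype.ext (h.eq_one_of_sq (h.TS (h.QT z.toMul.2.1)) h1))

theorem lev5 {y : G} (hy : y ∈ Q) (h5 : Dp A (ZQ Q) 5 y) (l1 l2 : List A) (hl : 5 ≤ l1.length + l2.length) :
    ⁅app y l1, app y l2⁆ = 1 :=
  (ph_eq_zero (h.bW (h.appQ hy l1) (h.appQ hy l2))).1 ((h.lev hy h5).lev l1 l2 hl)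

theorem lev4 {y : G} (hy : y ∈ Q) (h5 : Dp A (ZQ Q) 5 y) (l1 l2 : List A) (hl : 4 ≤ l1.length + l2.length) :
    ⁅app y l1, app y l2⁆ ∈ A ⊓ Q := by
  have h1 := h.bW (h.appQ hy l1) (h.appQ hy l2)
  refine h.mem_of_cent h1.1 fun e he => tau_eq_one_iff.1 ((ph_eq_zero (h.tauW e h1)).1 ?_)
  rw [← h.dz_ph e h1]
  exact (h.lev hy h5).levD ⟨e, he⟩ l1 l2 hl

theorem b_fix {d : G} (hd : d ∈ A ⊓ Q) {a v : G} (ha : a ∈ A) (hv : v ∈ Q) : ⁅d, tau a v⁆ = tau a ⁅d, v⁆ := by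
  rw [h.star a hd.2 hv, tau_eq_one_iff.2 (h.com ha hd.1)]
  simp

theorem b_fix2 {d : G} (hd : d ∈ A ⊓ Q) {a b v : G} (ha : a ∈ A) (hb : b ∈ A) (hv : v ∈ Q) :
    d * tau a (tau b v) = tau a (tau b v) * d := by
  rw [← commutatorElement_eq_one_iff_mul_comm, h.b_fix hd ha (h.tauQ b hv), h.b_fix hd hb hv]
  exact h.b_dd ha hb hd.2 hv

end St

end Cfsg.Agent.H24.JA
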