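import Cfsg.Agent.H24.JA4

/-! The twisted replacement: `[Q, A, A, A, A] ≤ Z(Q)`. -/

set_option autoImplicit false
set_option linter.unusedSectionVars false

namespace Cfsg.Agent.H24.JA

open Subgroup Cfsg.Agent.H23
open scoped commutatorElement IsMulCommutative

variable {G : Type*} [Group G] [Finite G]

structure Xs (Q A : Subgroup G) (x : G) : Prop where
  hx : x ∈ Q
  f20 : ∀ a ∈ A, ∀ b ∈ A, ⁅tau a (tau b x), x⁆ ∈ A ⊓ Q
  f11 : ∀ a ∈ A, ∀ b ∈ A, ⁅tau a x, tau b x⁆ ∈ A ⊓ Q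
  f21 : ∀ a ∈ A, ∀ b ∈ A, ∀ c ∈ A, ⁅tau a (tau b x), tau c x⁆ = 1
  f22 : ∀ a ∈ A, ∀ b ∈ A, ∀ c ∈ A, ∀ d ∈ A, ⁅tau a (tau b x), tau c (tau d x)⁆ = 1
  fd : ∀ d ∈ A ⊓ Q, tau d x ∈ A ⊓ Q

/-- the abelian subgroup `[x, A, A] Z(Q) C_Q(A)` -/
def UU (Q A : Subgroup G) (x : G) : Subgroup G :=
  closure {u | (∃ a ∈ A, ∃ b ∈ A, tau a (tau b x) = u) ∨ u ∈ ZQ Q ∨ u ∈ A ⊓ Q}

/-- the quadratic term -/
def th (x a : G) : G := ⁅tau a x, x⁆

theorem th_one (x : G) : th x 1 = 1 := by simp [th, tau_one_left]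

theorem mem_UU1 {Q A : Subgroup G} {x a b : G} (ha : a ∈ A) (hb : b ∈ A) : tau a (tau b x) ∈ UU Q A x :=
  subset_closure (Or.inl ⟨a, ha, b, hb, rfl⟩)

theorem mem_UU2 {Q A : Subgroup G} {x u : G} (hu : u ∈ ZQ Q) : u ∈ UU Q A x :=
  subset_closure (Or.inr (Or.inl hu))

theorem mem_UU3 {Q A : Subgroup G} {x u : G} (hu : u ∈ A ⊓ Q) : u ∈ UU Q A x :=
  subset_closure (Or.inr (Or.inr hu))

namespace St

variable {p : ℕ} [Fact p.Prime] {S T Q A : Subgroup G} (h : St p S T Q A)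
include h

theorem xs {y a0 : G} (hy : y ∈ Q) (h5 : Dp A (ZQ Q) 5 y) (h0 : a0 ∈ A) : Xs Q A (tau a0 y) where
  hx := h.tauQ a0 hy
  f20 := fun a ha b hb => h.lev4 hy h5 [⟨a, ha⟩, ⟨b, hb⟩, ⟨a0, h0⟩] [⟨a0, h0⟩] le_rfl
  f11 := fun a ha b hb => h.lev4 hy h5 [⟨a, ha⟩, ⟨a0, h0⟩] [⟨b, hb⟩, ⟨a0, h0⟩] le_rfl
  f21 := fun a ha b hb c hc => h.lev5 hy h5 [⟨a, ha⟩, ⟨b, hb⟩, ⟨a0, h0⟩] [⟨c, hc⟩, ⟨a0, h0⟩] le_rfl
  f22 := fun a ha b hb c hc d hd =>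
    h.lev5 hy h5 [⟨a, ha⟩, ⟨b, hb⟩, ⟨a0, h0⟩] [⟨c, hc⟩, ⟨d, hd⟩, ⟨a0, h0⟩] (by simp)
  fd := fun d hd => by
    have hx := h.tauQ a0 hy
    have h1 := h.bW hd.2 hx
    have e : tau d (tau a0 y) = (tau a0 y)⁻¹ * ⁅d, tau a0 y⁆ * tau a0 y := by
      generalize tau a0 y = x
      simp only [tau, commutatorElement_def]; group
    rw [e, h1.2 _ (inv_mem hx), inv_mul_cancel_right]
    refine h.mem_of_cent h1.1 fun a ha => tau_eq_one_iff.1 ?_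
    rw [h.b_fix hd h0 hy]
    exact h.b_dd ha h0 hd.2 hy

theorem tau_AQ {a d : G} (ha : a ∈ A) (hd : d ∈ A ⊓ Q) : tau a d = 1 := tau_eq_one_iff.2 (h.com ha hd.1)

variable {x : G} (hX : Xs Q A x)
include hX

theorem abU : Ab Q A (UU Q A x) := by
  have hle : UU Q A x ≤ Q := (closure_le _).2 (by
    rintro _ (⟨a, -, b, -, rfl⟩ | hu | hu)
    exacts [h.tauQ a (h.tauQ b hX.hx), hu.1, hu.2])
  have hc : IsMulCommutative (UU Q A x) := isMulCommutative_closure (by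
    intro u hu v hv
    rcases hv with ⟨c, hc, d, hd, rfl⟩ | hv | hv
    · rcases hu with ⟨a, ha, b, hb, rfl⟩ | hu | hu
      · exact commutatorElement_eq_one_iff_mul_comm.1 (hX.f22 a ha b hb c hc d hd)
      · exact (hu.2 _ (h.tauQ c (h.tauQ d hX.hx))).symm
      · exact h.b_fix2 hu hc hd hX.hx
    · exact hv.2 u (hle (subset_closure hu))
    · rcases hu with ⟨a, ha, b, hb, rfl⟩ | hu | hu
      · exact (h.b_fix2 hv ha hb hX.hx).symm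
      · exact (hu.2 _ hv.2).symm
      · exact h.com hu.1 hv.1)
  refine ⟨⟨fun a ha u hu => ?_, h.abW.hY, fun u hu v hv => ?_⟩, hle, fun d hd m hm =>
    tau_eq_one_iff.2 (comm_of hc (mem_UU3 hd) hm)⟩
  · refine ((closure_le _).2 ?_ : UU Q A x ≤ (UU Q A x).comap (MulAut.conj a).toMonoidHom) hu
    rintro _ (⟨c, hc, d, hd, rfl⟩ | hu | hu)
    · change a * _ * a⁻¹ ∈ UU Q A x
      rw [conj_eq, tau_tau a c]
      exact mul_mem (mem_UU1 hc hd) (mul_mem (mul_mem (inv_mem (mem_UU1 hc hd)) (inv_mem (mem_UU1 ha hd)))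
        (mem_UU1 (mul_mem ha hc) hd))
    · exact mem_UU2 (h.abW.hX a ha _ hu)
    · change a * _ * a⁻¹ ∈ UU Q A x
      rw [conj_eq, h.tau_AQ ha hu, mul_one]
      exact mem_UU3 hu
  · rw [mem_bot, comm_of hc hu hv]; simp

theorem claimK {c : G} (hc : c ∈ A) (hcT : c ∉ T) (k : ℕ) (h1 : Dp A ⊥ (k + 2) (tau c x)) {b : G}
    (hb : b ∈ A) : Dp A ⊥ (k + 2) (tau b x) := by
  have hU := h.abU hX
  refine h.layer hU hc hcT k (h.tauQ b hX.hx) (fun a ha => mem_UU1 ha hb) ?_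
  rw [h.tau_swap (h.com hc hb) hX.hx]
  have h2 := hX.f11 b hb c hc
  exact hU.mul (mem_UU1 hb hc) (mem_UU3 h2) (h1 b hb)
    (hU.mono (by omega) (show Dp A ⊥ 1 _ from fun a ha => h.tau_AQ ha h2))

theorem thW (a : G) : th x a ∈ ZQ Q := h.bW (h.tauQ a hX.hx) hX.hx

theorem thT (a : G) : th x a ∈ centralizer (T : Set G) := h.bT (h.tauQ a hX.hx) hX.hx

theorem th_mul (a b : G) : th x (a * b) = th x a * th x b * ⁅tau a (tau b x), x⁆ := by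
  have h1 := h.tauQ a hX.hx
  have h2 := h.tauQ b hX.hx
  rw [th, tau_mul_left, h.b_left (mul_mem h1 h2) (h.tauQ a h2) hX.hx, h.b_left h1 h2 hX.hx]; rfl

theorem th_inv {a : G} (ha : a ∈ A) : th x a⁻¹ * th x a ∈ A ⊓ Q := by
  have := h.th_mul hX a⁻¹ a
  rw [inv_mul_cancel, th_one, eq_comm, mul_eq_one_iff_eq_inv] at this
  rw [this]
  exact inv_mem (hX.f20 _ (inv_mem ha) a ha)

theorem tau_th {a : G} (ha : a ∈ A) (b : G) : tau a (th x b) ∈ A ⊓ Q :=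
  h.mem_of_cent (h.tauQ a (h.thW hX b).1) fun e he =>
    tau_eq_one_iff.1 (h.b_dd he ha (h.tauQ b hX.hx) hX.hx)

/-- the subgroup `θ(A) C_Q(A)` -/
def YY : Subgroup G where
  carrier := {q | ∃ b ∈ A, th x b * q ∈ A ⊓ Q}
  mul_mem' := by
    rintro q q' ⟨b, hb, hq⟩ ⟨b', hb', hq'⟩
    refine ⟨b * b', mul_mem hb hb', ?_⟩
    have h1 : q ∈ Q := (Q.mul_mem_cancel_left (h.thW hX b).1).1 hq.2
    have h2 := h.bW (h.tauQ b (h.tauQ b' hX.hx)) hX.hx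
    have e : th x (b * b') * (q * q') = ⁅tau b (tau b' x), x⁆ * (th x b * q) * (th x b' * q') := by
      rw [h.th_mul hX, h2.2 _ (mul_mem (h.thW hX b).1 (h.thW hX b').1)]
      have := (h.thW hX b').2 q h1
      calc _ = ⁅tau b (tau b' x), x⁆ * th x b * (th x b' * q) * q' := by group
        _ = _ := by rw [← this]; group
    rw [e]
    exact mul_mem (mul_mem (hX.f20 b hb b' hb') hq) hq'
  one_mem' := ⟨1, one_mem _, by rw [th_one, one_mul]; exact one_mem _⟩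
  inv_mem' := by
    rintro q ⟨b, hb, hq⟩
    refine ⟨b⁻¹, inv_mem hb, ?_⟩
    have h1 : q ∈ Q := (Q.mul_mem_cancel_left (h.thW hX b).1).1 hq.2
    have e : th x b⁻¹ * q⁻¹ = th x b⁻¹ * th x b * (th x b * q)⁻¹ := by
      rw [← (h.thW hX b).2 q h1]; group
    rw [e]
    exact mul_mem (h.th_inv hX hb) (inv_mem hq)

theorem AQ_le_YY : A ⊓ Q ≤ h.YY hX := fun d hd => ⟨1, one_mem _, by rwa [th_one, one_mul]⟩

theorem th_mem_YY {b : G} (hb : b ∈ A) : th x b ∈ h.YY hX := ⟨b⁻¹, inv_mem hb, h.th_inv hX hb⟩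

theorem YY_dec {q : G} (hq : q ∈ h.YY hX) : ∃ b ∈ A, ∃ d ∈ A ⊓ Q, q = th x b * d := by
  obtain ⟨b, hb, h1⟩ := hq
  refine ⟨b⁻¹, inv_mem hb, _, mul_mem (inv_mem (h.th_inv hX hb)) h1, ?_⟩
  rw [(h.thW hX b).2 _ (h.thW hX b⁻¹).1]
  generalize th x b⁻¹ = t
  rw [mul_inv_rev, mul_assoc, inv_mul_cancel_left, mul_inv_cancel_left]

theorem tau_YY {a q : G} (ha : a ∈ A) (hq : q ∈ h.YY hX) : tau a q ∈ A ⊓ Q ∧ tau a q ∈ ZQ Q ∧ (a ∈ T → tau a q = 1) := by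
  have := h.nQ
  obtain ⟨b, -, d, hd, rfl⟩ := h.YY_dec hX hq
  rw [← (h.thW hX b).2 d hd.2, tau_mul_cent a hd.2 (h.thW hX b), h.tau_AQ ha hd, one_mul]
  exact ⟨h.tau_th hX ha b, h.tauW a (h.thW hX b), fun haT => tau_eq_one_iff.2 (h.thT hX b a haT)⟩

theorem YY_le_UU : h.YY hX ≤ UU Q A x := fun q hq => by
  obtain ⟨b, -, d, hd, rfl⟩ := h.YY_dec hX hq
  exact mul_mem (mem_UU2 (h.thW hX b)) (mem_UU3 hd)

/-- the kernel of `θ` -/
def A1 : Subgroup G where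
  carrier := {a | a ∈ A ∧ th x a ∈ A ⊓ Q}
  mul_mem' := fun {a b} ha hb => ⟨mul_mem ha.1 hb.1, by
    rw [h.th_mul hX]; exact mul_mem (mul_mem ha.2 hb.2) (hX.f20 a ha.1 b hb.1)⟩
  one_mem' := ⟨one_mem _, by rw [th_one]; exact one_mem _⟩
  inv_mem' := fun {a} ha => ⟨inv_mem ha.1, ((A ⊓ Q).mul_mem_cancel_right ha.2).1 (h.th_inv hX ha.1)⟩

/-- the elements of `A ⊓ T` that get twisted -/
def BB : Subgroup G where
  carrier := {c | c ∈ A ∧ c ∈ T ∧ tau c x ∈ h.YY hX}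
  mul_mem' := fun {a b} ha hb => ⟨mul_mem ha.1 hb.1, mul_mem ha.2.1 hb.2.1, by
    rw [tau_mul_left, (h.tau_YY hX ha.1 hb.2.2).2.2 ha.2.1, mul_one]; exact mul_mem ha.2.2 hb.2.2⟩
  one_mem' := ⟨one_mem _, one_mem _, by rw [tau_one_left]; exact one_mem _⟩
  inv_mem' := fun {a} ha => ⟨inv_mem ha.1, inv_mem ha.2.1, by
    have := tau_mul_left a⁻¹ a x
    rw [inv_mul_cancel, tau_one_left, (h.tau_YY hX (inv_mem ha.1) ha.2.2).2.2 (inv_mem ha.2.1), mul_one,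
      eq_comm, mul_eq_one_iff_eq_inv] at this
    rw [this]; exact inv_mem ha.2.2⟩

theorem tauT_mul {d u v : G} (hd : d ∈ T) (hu : u ∈ Q) (hv : v ∈ Q) : tau d (u * v) = tau d u * tau d v := by
  rw [tau_mul_right, (h.tauT hd hu).2 _ (inv_mem hv), inv_mul_cancel_right]

theorem ph_tauT {d b b' : G} (hd : d ∈ A) (hdT : d ∈ T) (hb' : b' ∈ A) (hn : th x b * tau d x ∈ A ⊓ Q) :
    ph Q (tau d (tau b' x)) = -h.dz b' (ph Q (th x b)) := by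
  have h1 := h.tauT hdT hX.hx
  rw [tau_comm (h.com hd hb') (h1.2 _ (h.tauQ b' hX.hx)).symm, ← h.dz_ph b' h1, eq_neg_iff_add_eq_zero,
    ← map_add, add_comm, ← ph_mul (h.thW hX b) h1, h.dz_ph b' (mul_mem (h.thW hX b) h1), h.tau_AQ hb' hn,
    ph_one]

theorem tw_comm {d b d' b' : G} (hd : d ∈ A) (hdT : d ∈ T) (hb : b ∈ A) (hn : th x b * tau d x ∈ A ⊓ Q)
    (hd' : d' ∈ A) (hdT' : d' ∈ T) (hb' : b' ∈ A) (hn' : th x b' * tau d' x ∈ A ⊓ Q) :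
    tau b x * tau b x * d * (tau b' x * tau b' x * d') = tau b' x * tau b' x * d' * (tau b x * tau b x * d) := by
  have h1 := h.tauQ b hX.hx
  have h2 := h.tauQ b' hX.hx
  have s1 := h.ph_star b' h1 hX.hx
  have s2 := h.ph_star b h2 hX.hx
  rw [hX.f21 b' hb' b hb b' hb', ph_one] at s1
  rw [hX.f21 b hb b' hb' b hb, ph_one, h.ph_anti h2 h1, h.tau_swap (h.com hb hb') hX.hx,
    h.b_left (h.tauQ b' h1) (h.bW h2 h1).1 hX.hx, h.b_W_left (h.bW h2 h1) hX.hx, mul_one] at s2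
  have t1 := h.ph_tauT hX hd hdT hb' hn
  have t2 := h.ph_tauT hX hd' hdT' hb hn'
  set q := tau b x * tau b x with hq
  set q' := tau b' x * tau b' x with hq'
  have m1 : q ∈ Q := mul_mem h1 h1
  have m2 : q' ∈ Q := mul_mem h2 h2
  have w0 := h.bW h1 h2
  have w1 := h.tauT hdT h2
  have w2 := h.tauT hdT' h1
  have key : ⁅q, q'⁆ * tau d q' = tau d' q := by
    refine ph_inj (mul_mem (h.bW m1 m2) (h.tauT hdT m2)) (h.tauT hdT' m1) ?_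
    rw [ph_mul (h.bW m1 m2) (h.tauT hdT m2), hq, hq', h.b_left h1 h1 m2, h.b_right h1 h2 h2,
      h.tauT_mul hX hdT h2 h2, h.tauT_mul hX hdT' h1 h1, ph_mul w1 w1, ph_mul w2 w2,
      ph_mul (mul_mem w0 w0) (mul_mem w0 w0), ph_mul w0 w0, t1, t2]
    change ph Q _ + _ + 0 = h.dz b' (ph Q (th x b)) at s1
    change ph Q _ + _ + 0 = h.dz b (ph Q (th x b')) at s2
    rw [← s1, ← s2]
    abel
  have e1 : q * d * (q' * d') = ⁅q, q'⁆ * (q' * q) * tau d q' * (d * d') := by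
    simp only [tau, commutatorElement_def]; group
  have e2 : q' * d' * (q * d) = q' * q * tau d' q * (d' * d) := by simp only [tau]; group
  rw [e1, e2, ← key, h.com hd hd', ← (h.bW m1 m2).2 _ (mul_mem m2 m1)]
  group

end St

end Cfsg.Agent.H24.JA
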