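import Cfsg.Agent.H24.JA5
import Cfsg.Agent.H62.Stable
import Cfsg.Agent.H61.JWeak

/-! If the abelian Thompson subgroup of a Sylow subgroup is not normal (`p` odd), some element
outside `O_p(G)` has degree at most 4 on a critical subgroup modulo its centre and degree at most
3 on the chief factors inside the centre. -/

set_option autoImplicit false
set_option linter.unusedSectionVars false

namespace Cfsg.Agent.H24.JA

open Subgroup Cfsg.Agent.H23
open scoped commutatorElement IsMulCommutative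

variable {G : Type*} [Group G] [Finite G]

/-- the twisted replacement -/
def AS (T Q A : Subgroup G) (x : G) : Subgroup G :=
  closure {u | (∃ a ∈ A, ∃ b ∈ A, tau a (tau b x) = u) ∨ (∃ b ∈ A, th x b = u) ∨
    ∃ d ∈ A, d ∈ T ∧ ∃ b ∈ A, th x b * tau d x ∈ A ⊓ Q ∧ tau b x * tau b x * d = u}

namespace St

variable {p : ℕ} [Fact p.Prime] {S T Q A : Subgroup G} (h : St p S T Q A)
include h

section
variable {x : G} (hX : Xs Q A x)
include hX

theorem AS_le : AS T Q A x ≤ T := (closure_le _).2 (by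
  rintro _ (⟨a, -, b, -, rfl⟩ | ⟨b, -, rfl⟩ | ⟨d, -, hd, b, -, -, rfl⟩)
  · exact h.QT (h.tauQ a (h.tauQ b hX.hx))
  · exact h.QT (h.thW hX b).1
  · exact mul_mem (h.QT (mul_mem (h.tauQ b hX.hx) (h.tauQ b hX.hx))) hd)

theorem AS_aux {a b' d b : G} (ha : a ∈ A) (hb' : b' ∈ A) (hd : d ∈ A) (hdT : d ∈ T) (hb : b ∈ A)
    (hn : th x b * tau d x ∈ A ⊓ Q) :
    tau a (tau b' x) * (tau b x * tau b x * d) = tau b x * tau b x * d * tau a (tau b' x) := by
  have h1 : Commute (tau a (tau b' x)) (tau b x) :=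
    commutatorElement_eq_one_iff_mul_comm.1 (hX.f21 a ha b' hb' b hb)
  have h2 : Commute d (tau a (tau b' x)) := by
    have h3 := h.tauQ b' hX.hx
    refine tau_eq_one_iff.1 ?_
    rw [tau_comm (h.com hd ha) ((h.tauT hdT h3).2 _ (h.tauQ a h3)).symm,
      tau_comm (h.com hd hb') ((h.tauT hdT hX.hx).2 _ h3).symm]
    exact h.tau_AQ ha (h.tau_YY hX hb' ⟨b, hb, hn⟩).1
  exact ((h1.mul_right h1).mul_right h2.symm).eq

theorem AS_comm : IsMulCommutative (AS T Q A x) := isMulCommutative_closure (by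
  intro u hu v hv
  rcases hv with ⟨c, hc, d, hd, rfl⟩ | ⟨b, -, rfl⟩ | ⟨d, hd, hdT, b, hb, hn, rfl⟩
  · rcases hu with ⟨a, ha, b, hb, rfl⟩ | ⟨b, -, rfl⟩ | ⟨d', hd', hdT', b', hb', hn', rfl⟩
    · exact commutatorElement_eq_one_iff_mul_comm.1 (hX.f22 a ha b hb c hc d hd)
    · exact (h.thT hX b _ (h.QT (h.tauQ c (h.tauQ d hX.hx)))).symm
    · exact (h.AS_aux hX hc hd hd' hdT' hb' hn').symm
  · exact h.thT hX b u (h.AS_le hX (subset_closure hu))
  · rcases hu with ⟨a, ha, b', hb', rfl⟩ | ⟨b', -, rfl⟩ | ⟨d', hd', hdT', b', hb', hn', rfl⟩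
    · exact h.AS_aux hX ha hb' hd hdT hb hn
    · exact (h.thT hX b' _ (mul_mem (h.QT (mul_mem (h.tauQ b hX.hx) (h.tauQ b hX.hx))) hdT)).symm
    · exact h.tw_comm hX hd' hdT' hb' hn' hd hdT hb hn)

theorem dp_x : Dp A (ZQ Q) 3 x := by
  classical
  have := h.nQ
  have hU := h.abU hX
  intro b1 hb1 a1 ha1 e1 he1
  by_contra hcon
  change tau e1 (tau a1 (tau b1 x)) ∉ ZQ Q at hcon
  have hne : ¬ Dp A ⊥ 2 (tau b1 x) := fun h1 => hcon (by rw [mem_bot.1 (h1 a1 ha1 e1 he1)]; exact one_mem _)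
  have hY2 : ∀ q ∈ h.YY hX, Dp A ⊥ 2 q := fun q hq a ha a' ha' => h.tau_AQ ha' (h.tau_YY hX ha hq).1
  have hT : ∀ c ∈ A, tau c x ∈ h.YY hX → c ∈ T := fun c hc h1 => by
    by_contra hcT
    exact hne (h.claimK hX hc hcT 0 (hY2 _ h1) hb1)
  have g3 : ∀ d ∈ A, d ∈ T → ∀ b ∈ A, th x b * tau d x ∈ A ⊓ Q → tau b x * tau b x * d ∈ AS T Q A x :=
    fun d hd hdT b hb hn => subset_closure (Or.inr (Or.inr ⟨d, hd, hdT, b, hb, hn, rfl⟩))
  have l1 : A ⊓ Q ≤ AS T Q A x := fun d hd => by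
    have := g3 d hd.1 (h.QT hd.2) 1 (one_mem _) (by rw [th_one, one_mul]; exact hX.fd d hd)
    rwa [tau_one_left, one_mul, one_mul] at this
  have l2 : h.YY hX ≤ AS T Q A x ⊓ Q := fun q hq => by
    obtain ⟨b, hb, d, hd, rfl⟩ := h.YY_dec hX hq
    exact ⟨mul_mem (subset_closure (Or.inr (Or.inl ⟨b, hb, rfl⟩))) (l1 hd), mul_mem (h.thW hX b).1 hd.2⟩
  have l3 : A ⊓ Q ≤ h.BB hX := fun d hd => ⟨hd.1, h.QT hd.2, h.AQ_le_YY hX (hX.fd d hd)⟩
  have l4 : h.BB hX ≤ h.A1 hX := fun c hc => ⟨hc.1, by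
    rw [th, h.b_W_left (h.tauT hc.2.1 hX.hx) hX.hx]; exact one_mem _⟩
  have l5 : h.A1 hX ≤ A := fun a ha => ha.1
  have i1 : (h.A1 hX).relIndex A ≤ (A ⊓ Q).relIndex (h.YY hX) := by
    refine idx_le (th x) (fun a ha => h.th_mem_YY hX ha) fun a ha b hb hab => ⟨mul_mem (inv_mem ha) hb, ?_⟩
    have e : th x (a⁻¹ * b) = th x a⁻¹ * th x a * ((th x a)⁻¹ * th x b) * ⁅tau a⁻¹ (tau b x), x⁆ := by
      rw [h.th_mul hX, mul_assoc (th x a⁻¹) (th x a), mul_inv_cancel_left]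
    rw [e]
    exact mul_mem (mul_mem (h.th_inv hX ha) hab) (hX.f20 _ (inv_mem ha) b hb)
  have i2 : (h.BB hX).relIndex (h.A1 hX) < (h.YY hX).relIndex (AS T Q A x ⊓ Q) := by
    refine idx_lt (fun a => tau a x) (fun a ha => ⟨?_, h.tauQ a hX.hx⟩) (fun a ha b hb hab => ?_)
      (m := tau a1 (tau b1 x)) ⟨subset_closure (Or.inl ⟨a1, ha1, b1, hb1, rfl⟩), h.tauQ _ (h.tauQ _ hX.hx)⟩
      fun c hc hn => ?_
    · refine h.mem_of_sq (h.TS (h.QT (h.tauQ a hX.hx))) ?_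
      have := g3 1 (one_mem _) (one_mem _) a ha.1 (by rw [tau_one_left, mul_one]; exact ha.2)
      rwa [mul_one] at this
    · have h1 : tau (a⁻¹ * b) x = a⁻¹ * ((tau a x)⁻¹ * tau b x) * a⁻¹⁻¹ := by simp only [tau]; group
      rw [conj_eq] at h1
      have h2 : tau (a⁻¹ * b) x ∈ h.YY hX :=
        h1 ▸ mul_mem hab (h.AQ_le_YY hX (h.tau_YY hX (inv_mem ha.1) hab).1)
      exact ⟨mul_mem (inv_mem ha.1) hb.1, hT _ (mul_mem (inv_mem ha.1) hb.1) h2, h2⟩
    · set n := (tau c x)⁻¹ * tau a1 (tau b1 x) with hndef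
      by_cases hcT : c ∈ T
      · have h1 := h.tauT hcT hX.hx
        have e : tau a1 (tau b1 x) = n * tau c x := by rw [h1.2 _ (l2 hn).2, hndef]; group
        rw [e, tau_mul_cent e1 (l2 hn).2 h1] at hcon
        exact hcon (mul_mem (h.tau_YY hX he1 hn).2.1 (h.tauW e1 h1))
      have key : ∀ k, (∀ b ∈ A, Dp A ⊥ (k + 2) (tau b x)) → Dp A ⊥ 2 (tau b1 x) := by
        intro k
        induction k with
        | zero => exact fun hk => hk b1 hb1
        | succ k ih =>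
          intro hk
          refine ih fun b hb => h.claimK hX hc.1 hcT k ?_ hb
          have e : tau c x = tau a1 (tau b1 x) * n⁻¹ := by rw [hndef]; group
          rw [e]
          exact hU.mul (mem_UU1 ha1 hb1) (h.YY_le_UU hX (inv_mem hn)) (hk b1 hb1 a1 ha1)
            (hU.mono (by omega) (hY2 _ (inv_mem hn)))
      obtain ⟨k, hk⟩ := exists_dp h.pS h.mx.1 ⊥
      exact hne (key k fun b _ => hU.mono (by omega) (hk _ (h.TS (h.QT (h.tauQ b hX.hx)))))
  have i3 : (A ⊓ Q).relIndex (h.BB hX) ≤ (AS T Q A x ⊓ Q).relIndex (AS T Q A x) := by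
    have hch : ∀ c : G, ∃ b ∈ A, c ∈ h.BB hX → th x b * tau c x ∈ A ⊓ Q := fun c => by
      by_cases hc : c ∈ h.BB hX
      · obtain ⟨b, hb, h1⟩ := hc.2.2
        exact ⟨b, hb, fun _ => h1⟩
      · exact ⟨1, one_mem _, fun h1 => absurd h1 hc⟩
    choose f hf1 hf2 using hch
    refine idx_le (fun c => tau (f c) x * tau (f c) x * c) (fun c hc => g3 c hc.1 hc.2.1 _ (hf1 c) (hf2 c hc))
      fun c hc c' hc' hab => mem_inf.2 ⟨A.mul_mem (A.inv_mem hc.1) hc'.1, ?_⟩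
    have m1 := h.tauQ (f c) hX.hx
    have m2 := h.tauQ (f c') hX.hx
    have h1 := mul_mem (h.nQ.conj_mem' _ (mul_mem (inv_mem (mul_mem m2 m2)) (mul_mem m1 m1)) c) hab.2
    have e : c⁻¹ * ((tau (f c') x * tau (f c') x)⁻¹ * (tau (f c) x * tau (f c) x)) * c *
        ((tau (f c) x * tau (f c) x * c)⁻¹ * (tau (f c') x * tau (f c') x * c')) = c⁻¹ * c' := by
      generalize tau (f c') x * tau (f c') x = q'
      generalize tau (f c) x * tau (f c) x = q
      group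
    exact e ▸ h1
  have c1 := H21.card_mul_relIndex_of_le (inf_le_left : A ⊓ Q ≤ A)
  have c2 := H21.card_mul_relIndex_of_le l1
  rw [← relIndex_mul_relIndex _ _ _ (l3.trans l4) l5, ← relIndex_mul_relIndex _ _ _ l3 l4] at c1
  rw [← relIndex_mul_relIndex _ _ _ ((h.AQ_le_YY hX).trans l2) inf_le_left,
    ← relIndex_mul_relIndex _ _ _ (h.AQ_le_YY hX) l2] at c2
  have c3 := h.mx.2.2.2 _ ((h.AS_le hX).trans h.TS) (h.AS_comm hX) fun b _ => pow_zero b
  rw [← c1, ← c2] at c3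
  have c4 := Nat.le_of_mul_le_mul_left c3 Nat.card_pos
  have p1 := Nat.pos_of_ne_zero (H21.relIndex_ne_zero' (A ⊓ Q) (h.YY hX))
  have p2 := Nat.pos_of_ne_zero (H21.relIndex_ne_zero' (AS T Q A x ⊓ Q) (AS T Q A x))
  have c5 := Nat.mul_le_mul (Nat.mul_le_mul i3 (le_refl ((h.BB hX).relIndex (h.A1 hX)))) i1
  have c6 := Nat.mul_lt_mul_of_pos_right (Nat.mul_lt_mul_of_pos_left i2 p2) p1
  have c7 := (c4.trans c5).trans_lt c6
  rw [mul_comm, ← mul_assoc, mul_comm _ ((A ⊓ Q).relIndex _), mul_comm] at c7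
  nlinarith

end

theorem secQ : Sec A Q (ZQ Q) := ⟨fun a _ x hx => h.nQ.conj_mem x hx a, h.abW.hX, fun _ hx _ hy => h.bW hx hy⟩

theorem dp_four {q : G} (hq : q ∈ Q) : Dp A (ZQ Q) 4 q := by
  have key : ∀ k, ∀ q ∈ Q, Dp A (ZQ Q) (k + 4) q → Dp A (ZQ Q) 4 q := by
    intro k
    induction k with
    | zero => exact fun _ _ => id
    | succ k ih =>
      intro q hq hk a ha
      exact h.dp_x (h.xs hq (fun b hb => ih _ (h.tauQ b hq) (hk b hb)) ha)
  obtain ⟨n, hn⟩ := exists_dp h.pS h.mx.1 (ZQ Q)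
  exact key n q hq (h.secQ.mono (by omega) (hn q (h.TS (h.QT hq))))

theorem chief_three {X Y : Subgroup G} (hc : IsChiefFactor X Y) (hX : X ≤ ZQ Q) :
    iterCommutator X A 3 ≤ Y := by
  have := hc.2.1
  have := hc.2.2.1
  have := h.nT
  have h1 := H62.chief_comm_le hc (h.pS.to_le h.TS) (hX.trans (inf_le_left.trans h.QT))
  have hs : Sec A X Y := ⟨fun a _ x hx => hc.2.1.conj_mem x hx a, fun a _ x hx => hc.2.2.1.conj_mem x hx a,
    fun x hx y hy => h1 (commutator_mem_commutator hx (h.QT (hX hy).1))⟩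
  refine hs.iterC_le le_rfl 3 fun x hx => ⟨hx, h.dp_three hX (fun t ht z hz => ?_) hx⟩
  have e : tau t z = ⁅z⁻¹, t⁆ := by simp [tau, commutatorElement_def, mul_assoc]
  rw [e]
  exact h1 (commutator_mem_commutator (inv_mem hz) ht)

theorem chief_four {X Y : Subgroup G} (hc : IsChiefFactor X Y) (hX : X ≤ Q) :
    iterCommutator X A 4 ≤ Y := by
  have hXn := hc.2.1
  have hYn := hc.2.2.1
  have := h.nQ
  have := h.nT
  rcases hc.2.2.2 ((X ⊓ ZQ Q) ⊔ Y) inferInstance le_sup_right (sup_le inf_le_left hc.1.le) with e | e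
  · refine le_trans ?_ (le_sup_left.trans e.le)
    exact le_inf (H62.iterC_le le_normalizer_of_normal 4)
      (h.secQ.iterC_le le_rfl 4 fun x hx => ⟨hX hx, h.dp_four (hX hx)⟩)
  · refine (H62.iterC_anti le_normalizer_of_normal (by norm_num : 3 ≤ 4)).trans ?_
    refine (H62.iterC_mono e.ge le_rfl 3).trans ((H62.iterC_sup_le _ _ _ 3).trans (sup_le ?_ le_rfl))
    have h1 := H62.chief_comm_le hc (h.pS.to_le h.TS) (hX.trans h.QT)
    have hs : Sec A X Y := ⟨fun a _ x hx => hXn.conj_mem x hx a, fun a _ x hx => hYn.conj_mem x hx a,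
      fun x hx y hy => h1 (commutator_mem_commutator hx (h.QT (hX hy)))⟩
    refine hs.iterC_le le_rfl 3 fun x hx => ⟨hx.1, h.dp_three (X := X ⊓ ZQ Q) inf_le_right (fun t ht z hz => ?_) hx⟩
    have e : tau t z = ⁅z⁻¹, t⁆ := by simp [tau, commutatorElement_def, mul_assoc]
    rw [e]
    exact h1 (commutator_mem_commutator (inv_mem hz.1) ht)

end St

theorem exists_small {p : ℕ} [Fact p.Prime] (hp : p ≠ 2) (S : Sylow p G) {Q : Subgroup G} [hQn : Q.Normal]
    (hQ : Q ≤ pCore p G) (hcr : ⁅pCore p G, Q⁆ ≤ Q ⊓ centralizer (Q : Set G))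
    (hJ : ¬ (thompsonSubgroupAOf (S : Subgroup G)).Normal) :
    ∃ g ∈ (S : Subgroup G), g ∉ pCore p G ∧
      (∀ X Y : Subgroup G, IsChiefFactor X Y → X ≤ Q → iterCommutator X (zpowers g) 4 ≤ Y) ∧
      ∀ X Y : Subgroup G, IsChiefFactor X Y → X ≤ Q ⊓ centralizer (Q : Set G) →
        iterCommutator X (zpowers g) 3 ≤ Y := by
  have hTS : pCore p G ≤ S := H22.pCore_le_sylow S
  have hne : {A | A ∈ maxAb 0 (S : Subgroup G) ∧ ¬ A ≤ pCore p G}.Nonempty := by
    by_contra hcon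
    apply hJ
    have h1 : sSup (maxAb 0 (S : Subgroup G)) ≤ pCore p G := sSup_le fun A hA => by
      by_contra h2
      exact hcon ⟨A, hA, h2⟩
    rw [thompsonSubgroupAOf_eq, ← H61.sSup_maxAb_eq_of_le h1 hTS]
    refine normalizer_eq_top_iff.1 (eq_top_iff.2 fun g _ => H4.map_conj_eq_iff.1 ?_)
    have := H61.cj_sSup_maxAb 0 g (pCore p G)
    rw [show H72.cj g (pCore p G) = pCore p G from H4.map_conj_eq_iff.2 (le_normalizer_of_normal (mem_top g))]
      at this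
    exact this.symm
  obtain ⟨A, hA, hmax⟩ := Set.exists_max_image _ (fun A => Nat.card ↥(A ⊓ Q)) (Set.toFinite _) hne
  have h : St p S (pCore p G) Q A := ⟨hp, S.isPGroup', inferInstance, hQn, hTS, hQ, fun t ht q hq => by
    have e : tau t q = ⁅t, q⁻¹⁆⁻¹ := by simp [tau, commutatorElement_def, mul_assoc]
    rw [e]
    exact inv_mem (hcr (commutator_mem_commutator ht (inv_mem hq))).2, hA.1, fun B h1 h2 => hmax B ⟨h1, h2⟩⟩
  obtain ⟨g, hg, hgT⟩ := SetLike.not_le_iff_exists.1 hA.2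
  exact ⟨g, hA.1.1 hg, hgT,
    fun X Y hc hX => (H62.iterC_mono le_rfl (zpowers_le.2 hg) 4).trans (h.chief_four hc hX),
    fun X Y hc hX => (H62.iterC_mono le_rfl (zpowers_le.2 hg) 3).trans (h.chief_three hc hX)⟩

end Cfsg.Agent.H24.JA
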