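import Mathlib

set_option autoImplicit false

namespace Cfsg.Agent.H24

/-- Two by two matrices as quadruples of naturals. -/
abbrev N4 := ℕ × ℕ × ℕ × ℕ

/-- Product modulo `p`. -/
def mul4 (p : ℕ) (x y : N4) : N4 :=
  ((x.1 * y.1 + x.2.1 * y.2.2.1) % p, (x.1 * y.2.1 + x.2.1 * y.2.2.2) % p,
    (x.2.2.1 * y.1 + x.2.2.2 * y.2.2.1) % p, (x.2.2.1 * y.2.1 + x.2.2.2 * y.2.2.2) % p)

/-- The identity. -/
def one4 : N4 := (1, 0, 0, 1)

/-- The matrix of a quadruple. -/
def toMat (p : ℕ) (x : N4) : Matrix (Fin 2) (Fin 2) (ZMod p) :=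
  !![(x.1 : ZMod p), (x.2.1 : ZMod p); (x.2.2.1 : ZMod p), (x.2.2.2 : ZMod p)]

/-- Evaluate a word in the generators. -/
def evalW (p : ℕ) (gens : List N4) (w : List ℕ) : N4 :=
  w.foldr (fun i acc => mul4 p (gens.getD i one4) acc) one4

/-- Boolean equality test. -/
def beq4 (x y : N4) : Bool :=
  Nat.beq x.1 y.1 && Nat.beq x.2.1 y.2.1 && Nat.beq x.2.2.1 y.2.2.1 && Nat.beq x.2.2.2 y.2.2.2

/-- Boolean membership test. -/
def mem4 (x : N4) (L : List N4) : Bool := L.any (beq4 x)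

/-- Entries are reduced. -/
def red4 (p : ℕ) (x : N4) : Bool :=
  Nat.blt x.1 p && Nat.blt x.2.1 p && Nat.blt x.2.2.1 p && Nat.blt x.2.2.2 p

/-- No eigenvalue one. -/
def noFix4 (p : ℕ) (x : N4) : Bool :=
  !Nat.beq ((x.1 * x.2.2.2 + 1) % p) ((x.2.1 * x.2.2.1 + x.1 + x.2.2.2) % p)

theorem beq4_iff {x y : N4} : beq4 x y = true ↔ x = y := by
  obtain ⟨a, b, c, d⟩ := x
  obtain ⟨a', b', c', d'⟩ := y
  simp [beq4, and_assoc]

theorem mem4_iff {x : N4} {L : List N4} : mem4 x L = true ↔ x ∈ L := by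
  simp [mem4, beq4_iff]

theorem toMat_mul4 (p : ℕ) (x y : N4) : toMat p (mul4 p x y) = toMat p x * toMat p y := by
  simp [toMat, mul4]

theorem toMat_one4 (p : ℕ) : toMat p one4 = 1 := by
  simp [toMat, one4, Matrix.one_fin_two]

theorem toMat_inj {p : ℕ} {x y : N4} (hx : red4 p x = true) (hy : red4 p y = true)
    (h : toMat p x = toMat p y) : x = y := by
  obtain ⟨a, b, c, d⟩ := x
  obtain ⟨a', b', c', d'⟩ := y
  simp only [red4, Bool.and_eq_true, Nat.blt_eq] at hx hy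
  have aux : ∀ u v : ℕ, u < p → v < p → (u : ZMod p) = v → u = v := by
    intro u v hu hv h
    rw [ZMod.natCast_eq_natCast_iff', Nat.mod_eq_of_lt hu, Nat.mod_eq_of_lt hv] at h
    exact h
  have h00 := congrFun (congrFun h 0) 0
  have h01 := congrFun (congrFun h 0) 1
  have h10 := congrFun (congrFun h 1) 0
  have h11 := congrFun (congrFun h 1) 1
  simp only [toMat, Matrix.of_apply, Matrix.cons_val', Matrix.cons_val_zero, Matrix.cons_val_one,
    Matrix.cons_val_fin_one] at h00 h01 h10 h11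
  rw [aux _ _ hx.1.1.1 hy.1.1.1 h00, aux _ _ hx.1.1.2 hy.1.1.2 h01, aux _ _ hx.1.2 hy.1.2 h10,
    aux _ _ hx.2 hy.2 h11]

theorem eq_zero_of_noFix4 {p : ℕ} [Fact p.Prime] {x : N4} (hx : noFix4 p x = true)
    (v : Fin 2 → ZMod p) (hv : (toMat p x).mulVec v = v) : v = 0 := by
  by_contra h0
  have h1 : (toMat p x - 1).det = 0 := by
    rw [← Matrix.exists_mulVec_eq_zero_iff]
    exact ⟨v, h0, by rw [Matrix.sub_mulVec, hv, Matrix.one_mulVec, sub_self]⟩
  simp only [noFix4, Bool.not_eq_true'] at hx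
  apply Nat.ne_of_beq_eq_false hx
  rw [← ZMod.natCast_eq_natCast_iff']
  rw [Matrix.det_fin_two] at h1
  simp [toMat] at h1
  push_cast
  linear_combination h1

section
variable {p : ℕ} [Fact p.Prime]

theorem mem_closure_iff_list (gens : List N4) (S : Set (GL (Fin 2) (ZMod p)))
    (hS : ∀ g ∈ S, ∃ x ∈ gens, (g : Matrix (Fin 2) (Fin 2) (ZMod p)) = toMat p x)
    (hS' : ∀ x ∈ gens, ∃ g ∈ S, (g : Matrix (Fin 2) (Fin 2) (ZMod p)) = toMat p x)
    (words : List (List ℕ)) (L : List N4) (hL : words.map (evalW p gens) = L)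
    (h1 : mem4 one4 L = true) (hcl : gens.all (fun x => L.all fun y => mem4 (mul4 p x y) L) = true) :
    (∀ g ∈ Subgroup.closure S, ∃ y ∈ L, (g : Matrix (Fin 2) (Fin 2) (ZMod p)) = toMat p y) ∧
    ∀ y ∈ L, ∃ g ∈ Subgroup.closure S, (g : Matrix (Fin 2) (Fin 2) (ZMod p)) = toMat p y := by
  constructor
  · intro g hg
    rw [← Subgroup.mem_toSubmonoid, Subgroup.closure_toSubmonoid_of_finite] at hg
    induction hg using Submonoid.closure_induction_left with
    | one => exact ⟨one4, mem4_iff.mp h1, (toMat_one4 p).symm⟩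
    | mul_left x hx y _ ih =>
      obtain ⟨u, hu, hu'⟩ := hS x hx
      obtain ⟨v, hv, hv'⟩ := ih
      simp only [List.all_eq_true] at hcl
      exact ⟨mul4 p u v, mem4_iff.mp (hcl u hu v hv), by rw [toMat_mul4, ← hu', ← hv']; rfl⟩
  · intro y hy
    rw [← hL, List.mem_map] at hy
    obtain ⟨w, -, rfl⟩ := hy
    induction w with
    | nil => exact ⟨1, one_mem _, (toMat_one4 p).symm⟩
    | cons i w ih =>
      obtain ⟨g, hg, hg'⟩ := ih
      have : ∃ k ∈ Subgroup.closure S,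
          (k : Matrix (Fin 2) (Fin 2) (ZMod p)) = toMat p (gens.getD i one4) := by
        rw [List.getD_eq_getElem?_getD]
        cases h : gens[i]? with
        | none => exact ⟨1, one_mem _, (toMat_one4 p).symm⟩
        | some x =>
          obtain ⟨k, hk, hk'⟩ := hS' x (List.mem_of_getElem? h)
          exact ⟨k, Subgroup.subset_closure hk, hk'⟩
      obtain ⟨k, hk, hk'⟩ := this
      refine ⟨k * g, mul_mem hk hg, ?_⟩
      change _ = toMat p (mul4 p _ (evalW p gens w))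
      rw [toMat_mul4, ← hk', ← hg']
      rfl

theorem card_eq_of_list (H : Subgroup (GL (Fin 2) (ZMod p))) (L : List N4)
    (h1 : ∀ g ∈ H, ∃ y ∈ L, (g : Matrix (Fin 2) (Fin 2) (ZMod p)) = toMat p y)
    (h2 : ∀ y ∈ L, ∃ g ∈ H, (g : Matrix (Fin 2) (Fin 2) (ZMod p)) = toMat p y)
    (hred : L.all (red4 p) = true) (hnd : L.Nodup) : Nat.card H = L.length := by
  rw [List.all_eq_true] at hred
  have h3 : Units.val '' (H : Set (GL (Fin 2) (ZMod p))) = toMat p '' (L.toFinset : Set N4) := by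
    ext m
    constructor
    · rintro ⟨g, hg, rfl⟩
      obtain ⟨y, hy, hy'⟩ := h1 g hg
      exact ⟨y, by simpa using hy, hy'.symm⟩
    · rintro ⟨y, hy, rfl⟩
      obtain ⟨g, hg, hg'⟩ := h2 y (by simpa using hy)
      exact ⟨g, hg, hg'⟩
  have h4 := congrArg Set.ncard h3
  rw [Set.ncard_image_of_injective _ Units.val_injective, Set.InjOn.ncard_image,
    Set.ncard_coe_finset, List.toFinset_card_of_nodup hnd] at h4
  · exact h4
  · intro x hx y hy h
    exact toMat_inj (hred x (by simpa using hx)) (hred y (by simpa using hy)) h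

theorem regular_of_card (H : Subgroup (GL (Fin 2) (ZMod p))) (hc : Nat.card H + 1 = p ^ 2)
    (hfpf : ∀ g ∈ H, ∀ v : Fin 2 → ZMod p, v ≠ 0 →
      (g : Matrix (Fin 2) (Fin 2) (ZMod p)).mulVec v = v → g = 1)
    (v w : Fin 2 → ZMod p) (hv : v ≠ 0) (hw : w ≠ 0) :
    ∃! h : H, ((h : GL (Fin 2) (ZMod p)) : Matrix (Fin 2) (Fin 2) (ZMod p)).mulVec v = w := by
  classical
  have hinv : ∀ (g : GL (Fin 2) (ZMod p)) (u : Fin 2 → ZMod p),
      ((g⁻¹ : GL (Fin 2) (ZMod p)) : Matrix (Fin 2) (Fin 2) (ZMod p)).mulVec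
        ((g : Matrix (Fin 2) (Fin 2) (ZMod p)).mulVec u) = u := by
    intro g u
    rw [Matrix.mulVec_mulVec, ← Units.val_mul, inv_mul_cancel, Units.val_one, Matrix.one_mulVec]
  let f : H → {u : Fin 2 → ZMod p // u ≠ 0} := fun h =>
    ⟨((h : GL (Fin 2) (ZMod p)) : Matrix (Fin 2) (Fin 2) (ZMod p)).mulVec v, fun h0 => hv (by
      rw [← hinv h v, h0, Matrix.mulVec_zero])⟩
  have hinj : Function.Injective f := by
    intro a b hab
    have h1 : ((a : GL (Fin 2) (ZMod p)) : Matrix (Fin 2) (Fin 2) (ZMod p)).mulVec v =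
      ((b : GL (Fin 2) (ZMod p)) : Matrix (Fin 2) (Fin 2) (ZMod p)).mulVec v :=
      congrArg Subtype.val hab
    have h2 := hfpf (a⁻¹ * b) (mul_mem (inv_mem a.2) b.2) v hv (by
      rw [Units.val_mul, ← Matrix.mulVec_mulVec, ← h1]
      exact hinv a v)
    exact Subtype.ext (inv_mul_eq_one.mp h2)
  have hbij : Function.Bijective f := by
    rw [Nat.bijective_iff_injective_and_card]
    refine ⟨hinj, ?_⟩
    rw [Nat.card_eq_fintype_card (α := {u : Fin 2 → ZMod p // u ≠ 0}), Fintype.card_subtype_compl]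
    simp [← hc]
  obtain ⟨h, hh⟩ := hbij.2 ⟨w, hw⟩
  exact ⟨h, congrArg Subtype.val hh, fun k hk => hinj (Subtype.ext (hk.trans
    (congrArg Subtype.val hh).symm))⟩

theorem fpf_of_list (H : Subgroup (GL (Fin 2) (ZMod p))) (L : List N4)
    (h1 : ∀ g ∈ H, ∃ y ∈ L, (g : Matrix (Fin 2) (Fin 2) (ZMod p)) = toMat p y)
    (h2 : L.all (fun y => beq4 y one4 || noFix4 p y) = true) :
    ∀ g ∈ H, ∀ v : Fin 2 → ZMod p, v ≠ 0 →
      (g : Matrix (Fin 2) (Fin 2) (ZMod p)).mulVec v = v → g = 1 := by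
  intro g hg v hv h
  obtain ⟨y, hy, hy'⟩ := h1 g hg
  have := List.all_eq_true.mp h2 y hy
  rw [Bool.or_eq_true] at this
  rcases this with h3 | h3
  · rw [beq4_iff.mp h3, toMat_one4] at hy'
    exact Units.ext hy'
  · rw [hy'] at h
    exact absurd (eq_zero_of_noFix4 h3 v h) hv

end

end Cfsg.Agent.H24
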