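import Cfsg.Agent.H7.AutC

/-! Solutions of `ζ + ζ⁻¹ + η + η⁻¹ = 1` in roots of unity. -/

set_option autoImplicit false

namespace Cfsg.Agent.H24

theorem no_big_coprime {n m k : ℕ} {ζ η : ℂ} (hζ : IsPrimitiveRoot ζ n) (hη : η ^ m = 1)
    (hn : n ≠ 0) (hm : m ≠ 0) (h : ζ + ζ⁻¹ + (η + η⁻¹) = 1) (hk : k.Coprime n) (h1 : n < 3 * k)
    (h2 : 2 * k ≤ n) : False := by
  have hξ := Complex.isPrimitiveRoot_exp_of_coprime k n hn hk
  have : NeZero n := ⟨hn⟩
  obtain ⟨j, -, hj⟩ := hζ.eq_pow_of_pow_eq_one hξ.pow_eq_one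
  have hjc : j.Coprime n := by
    rw [← hj] at hξ
    exact (hζ.pow_iff_coprime (Nat.pos_of_ne_zero hn) j).mp hξ
  obtain ⟨τ, hτ⟩ := H7.exists_ringEquiv_pow hn hjc
  have h3 := congrArg τ h
  simp only [map_add, map_inv₀, map_one, hτ ζ hζ.pow_eq_one, hj] at h3
  have h4 : ‖τ η‖ = 1 := Complex.norm_eq_one_of_pow_eq_one (by rw [← map_pow, hη, map_one]) hm
  have h5 : (τ η).re ≤ 1 := h4 ▸ Complex.re_le_norm _
  have h6 : (τ η)⁻¹.re ≤ 1 := by
    have := Complex.re_le_norm (τ η)⁻¹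
    rwa [norm_inv, h4, inv_one] at this
  set θ : ℝ := 2 * Real.pi * (k / n) with hθ
  have e : (2 * Real.pi * Complex.I * (k / n) : ℂ) = (θ : ℂ) * Complex.I := by
    rw [hθ]; push_cast; ring
  rw [e, ← Complex.exp_neg, ← neg_mul, ← Complex.ofReal_neg] at h3
  have h7 := congrArg Complex.re h3
  simp only [Complex.add_re, Complex.exp_ofReal_mul_I_re, Real.cos_neg, Complex.one_re] at h7
  have hnpos : (0 : ℝ) < n := by exact_mod_cast Nat.pos_of_ne_zero hn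
  have h8 : 2 * Real.pi / 3 < θ := by
    have : (1 : ℝ) / 3 < k / n := by
      rw [div_lt_div_iff₀ (by norm_num) hnpos]
      have : (n : ℝ) < 3 * k := by exact_mod_cast h1
      linarith
    rw [hθ]
    nlinarith [Real.pi_pos]
  have h9 : θ ≤ Real.pi := by
    have : (k : ℝ) / n ≤ 1 / 2 := by
      rw [div_le_div_iff₀ hnpos (by norm_num)]
      have : (2 * k : ℝ) ≤ n := by exact_mod_cast h2
      linarith
    rw [hθ]
    nlinarith [Real.pi_pos]
  have h10 : Real.cos θ < Real.cos (2 * Real.pi / 3) :=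
    Real.cos_lt_cos_of_nonneg_of_le_pi (by positivity) h9 h8
  have h11 : Real.cos (2 * Real.pi / 3) = -1 / 2 := by
    rw [show 2 * Real.pi / 3 = Real.pi - Real.pi / 3 by ring, Real.cos_pi_sub, Real.cos_pi_div_three]
    ring
  linarith

theorem order_mem_of_sum {n m : ℕ} {ζ η : ℂ} (hζ : IsPrimitiveRoot ζ n) (hη : η ^ m = 1)
    (hn : n ≠ 0) (hm : m ≠ 0) (h : ζ + ζ⁻¹ + (η + η⁻¹) = 1) :
    n = 1 ∨ n = 3 ∨ n = 4 ∨ n = 6 ∨ n = 10 := by
  by_contra hc
  push Not at hc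
  rcases Nat.even_or_odd' n with ⟨k, rfl | rfl⟩
  · rcases Nat.even_or_odd' k with ⟨l, rfl | rfl⟩
    · refine no_big_coprime (k := 2 * l - 1) hζ hη hn hm h ?_ (by omega) (by omega)
      obtain ⟨t, rfl⟩ : ∃ t, l = t + 1 := ⟨l - 1, by omega⟩
      rw [show 2 * (t + 1) - 1 = 2 * t + 1 by omega,
        show 2 * (2 * (t + 1)) = 2 + (2 * t + 1) * 2 by ring, Nat.coprime_add_mul_left_right]
      simp
    · by_cases hl : l = 0
      · subst hl
        exact no_big_coprime (k := 1) hζ hη hn hm h (by simp) (by omega) (by omega)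
      refine no_big_coprime (k := 2 * l - 1) hζ hη hn hm h ?_ (by omega) (by omega)
      obtain ⟨t, rfl⟩ : ∃ t, l = t + 1 := ⟨l - 1, by omega⟩
      rw [show 2 * (t + 1) - 1 = 2 * t + 1 by omega,
        show 2 * (2 * (t + 1) + 1) = 2 ^ 2 + (2 * t + 1) * 2 by ring,
        Nat.coprime_add_mul_left_right]
      apply Nat.Coprime.pow_right
      simp
  · refine no_big_coprime (k := k) hζ hη hn hm h ?_ (by omega) (by omega)
    rw [show 2 * k + 1 = 1 + k * 2 by ring, Nat.coprime_add_mul_left_right]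
    simp

theorem aux_three {m : ℕ} {ζ η : ℂ} (hζ : IsPrimitiveRoot ζ 3) (hη : IsPrimitiveRoot η m)
    (hm : m ≠ 0) (h : ζ + ζ⁻¹ + (η + η⁻¹) = 1) : m = 1 := by
  have h0 : ζ ≠ 0 := hζ.ne_zero (by norm_num)
  have h0' : η ≠ 0 := hη.ne_zero hm
  have h1 := hζ.geom_sum_eq_zero (by norm_num)
  simp only [Finset.sum_range_succ, Finset.sum_range_zero] at h1
  have h2 : ζ + ζ⁻¹ = -1 := by
    field_simp
    linear_combination h1
  have h3 : (η - 1) ^ 2 = 0 := by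
    have : η + η⁻¹ = 2 := by linear_combination h - h2
    field_simp at this
    linear_combination this
  have h4 : η = 1 := sub_eq_zero.mp (pow_eq_zero_iff (by norm_num) |>.mp h3)
  rw [h4] at hη
  exact hη.unique IsPrimitiveRoot.one

theorem aux_six {m : ℕ} {ζ η : ℂ} (hζ : IsPrimitiveRoot ζ 6) (hη : IsPrimitiveRoot η m)
    (hm : m ≠ 0) (h : ζ + ζ⁻¹ + (η + η⁻¹) = 1) : m ∣ 4 := by
  have h0 : ζ ≠ 0 := hζ.ne_zero (by norm_num)
  have h0' : η ≠ 0 := hη.ne_zero hm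
  have h1 := (hζ.pow (by norm_num) (show 6 = 3 * 2 from rfl)).eq_neg_one_of_two_right
  have h1' := (hζ.pow (by norm_num) (show 6 = 2 * 3 from rfl)).geom_sum_eq_zero (by norm_num)
  simp only [Finset.sum_range_succ, Finset.sum_range_zero] at h1'
  have h2 : ζ + ζ⁻¹ = 1 := by
    field_simp
    linear_combination h1' - ζ * h1
  have h3 : η ^ 2 = -1 := by
    have : η + η⁻¹ = 0 := by linear_combination h - h2
    field_simp at this
    linear_combination this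
  apply hη.dvd_of_pow_eq_one
  rw [show 4 = 2 * 2 from rfl, pow_mul, h3]
  norm_num

theorem roots_cases {n m : ℕ} {ζ η : ℂ} (hζ : IsPrimitiveRoot ζ n) (hη : IsPrimitiveRoot η m)
    (hn : n ≠ 0) (hm : m ≠ 0) (h : ζ + ζ⁻¹ + (η + η⁻¹) = 1) :
    n = 1 ∨ m = 1 ∨ n = 4 ∨ m = 4 ∨ (n = 10 ∧ m = 10) := by
  have h' : η + η⁻¹ + (ζ + ζ⁻¹) = 1 := by rw [add_comm, h]
  have h1 := order_mem_of_sum hζ hη.pow_eq_one hn hm h
  have h2 := order_mem_of_sum hη hζ.pow_eq_one hm hn h'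
  have a1 : n = 3 → m = 1 := fun e => aux_three (e ▸ hζ) hη hm h
  have a2 : m = 3 → n = 1 := fun e => aux_three (e ▸ hη) hζ hn h'
  have a3 : n = 6 → m ∣ 4 := fun e => aux_six (e ▸ hζ) hη hm h
  have a4 : m = 6 → n ∣ 4 := fun e => aux_six (e ▸ hη) hζ hn h'
  rcases h1 with rfl | rfl | rfl | rfl | rfl <;> rcases h2 with rfl | rfl | rfl | rfl | rfl <;>
    simp_all

end Cfsg.Agent.H24
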