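import Cfsg.Agent.H24.FpfBasic
import Cfsg.Agent.H24.Roots
import Cfsg.Agent.H84.FrobFpf

/-! Pairs of elements of order three in a group with a fixed point free representation. -/

set_option autoImplicit false

namespace Cfsg.Agent.H24

section Rep

variable {G : Type*} [Group G] {V : Type*} [AddCommGroup V] [Module ℂ V]
  {ρ : G →* Module.End ℂ V}

theorem rep_sum (hρ : ∀ g : G, g ≠ 1 → ∀ v, ρ g v = v → v = 0) {g : G} (hg : g ≠ 1) {n : ℕ}
    (hn : g ^ n = 1) : ∑ i ∈ Finset.range n, ρ g ^ i = 0 := by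
  ext v
  have := H84.sum_pow_apply_eq_zero ρ g n hn (hρ g hg) v
  simpa [LinearMap.sum_apply] using this

theorem rep_injective [Nontrivial V] (hρ : ∀ g : G, g ≠ 1 → ∀ v, ρ g v = v → v = 0) :
    Function.Injective ρ := by
  rw [injective_iff_map_eq_one]
  intro g hg
  by_contra h
  obtain ⟨v, hv⟩ := exists_ne (0 : V)
  exact hv (hρ g h v (by rw [hg]; rfl))

theorem rep_invol (hρ : ∀ g : G, g ≠ 1 → ∀ v, ρ g v = v → v = 0) {z : G} (h1 : z ≠ 1)
    (h2 : z ^ 2 = 1) : ρ z = -1 := by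
  have := rep_sum hρ h1 h2
  simp only [Finset.sum_range_succ, Finset.sum_range_zero, pow_zero, pow_one, zero_add] at this
  exact eq_neg_of_add_eq_zero_right this

theorem rep_three (hρ : ∀ g : G, g ≠ 1 → ∀ v, ρ g v = v → v = 0) {x : G} (h1 : x ≠ 1)
    (h3 : x ^ 3 = 1) : ρ x⁻¹ = -1 - ρ x := by
  have := rep_sum hρ h1 h3
  simp only [Finset.sum_range_succ, Finset.sum_range_zero, pow_zero, pow_one, zero_add] at this
  have e : x⁻¹ = x ^ 2 := by
    rw [inv_eq_iff_mul_eq_one, ← pow_succ', h3]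
  rw [e, map_pow]
  linear_combination (norm := noncomm_ring) this

theorem rep_eigen [Finite G] (hρ : ∀ g : G, g ≠ 1 → ∀ v, ρ g v = v → v = 0) {w : G} {ζ : ℂ} {v : V}
    (hv : v ≠ 0) (h : ρ w v = ζ • v) : IsPrimitiveRoot ζ (orderOf w) := by
  have hp : ∀ k : ℕ, ρ (w ^ k) v = ζ ^ k • v := by
    intro k
    induction k with
    | zero => simp
    | succ k ih => rw [pow_succ, map_mul, Module.End.mul_apply, h, map_smul, ih, smul_smul, pow_succ']
  constructor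
  · have := hp (orderOf w)
    rw [pow_orderOf_eq_one, map_one, Module.End.one_apply] at this
    have h2 : (ζ ^ orderOf w - 1) • v = 0 := by rw [sub_smul, ← this, one_smul, sub_self]
    exact sub_eq_zero.mp ((smul_eq_zero.mp h2).resolve_right hv)
  · intro l hl
    rw [orderOf_dvd_iff_pow_eq_one]
    by_contra h1
    exact hv (hρ _ h1 v (by rw [hp, hl, one_smul]))

theorem rep_inv_eigen {w : G} {ζ : ℂ} {v : V} (h0 : ζ ≠ 0) (h : ρ w v = ζ • v) :
    ρ w⁻¹ v = ζ⁻¹ • v := by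
  have : ρ w⁻¹ (ρ w v) = v := by
    rw [← Module.End.mul_apply, ← map_mul, inv_mul_cancel, map_one, Module.End.one_apply]
  rw [h, map_smul] at this
  conv_rhs => rw [← this, smul_smul, inv_mul_cancel₀ h0, one_smul]

/-- The "trace" of the product `x * y`. -/
noncomputable def trU (ρ : G →* Module.End ℂ V) (x y : G) : Module.End ℂ V :=
  ρ (x * y) + ρ (x * y)⁻¹

theorem trU_eq (hρ : ∀ g : G, g ≠ 1 → ∀ v, ρ g v = v → v = 0) {x y : G} (hx1 : x ≠ 1)
    (hx : x ^ 3 = 1) (hy1 : y ≠ 1) (hy : y ^ 3 = 1) :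
    trU ρ x y = 1 + ρ x + ρ y + ρ x * ρ y + ρ y * ρ x := by
  rw [trU, mul_inv_rev, map_mul, map_mul, rep_three hρ hx1 hx, rep_three hρ hy1 hy]
  noncomm_ring

theorem trU_comm (hρ : ∀ g : G, g ≠ 1 → ∀ v, ρ g v = v → v = 0) {x y : G} (hx1 : x ≠ 1)
    (hx : x ^ 3 = 1) (hy1 : y ≠ 1) (hy : y ^ 3 = 1) : trU ρ x y = trU ρ y x := by
  rw [trU_eq hρ hx1 hx hy1 hy, trU_eq hρ hy1 hy hx1 hx]
  abel

theorem trU_inv (hρ : ∀ g : G, g ≠ 1 → ∀ v, ρ g v = v → v = 0) {x y : G} (hx1 : x ≠ 1)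
    (hx : x ^ 3 = 1) (hy1 : y ≠ 1) (hy : y ^ 3 = 1) : trU ρ x y⁻¹ = 1 - trU ρ x y := by
  rw [trU_eq hρ hx1 hx hy1 hy, trU_eq hρ hx1 hx (inv_ne_one.mpr hy1) (by rw [inv_pow, hy, inv_one]),
    rep_three hρ hy1 hy]
  noncomm_ring

theorem trU_conj (g x y : G) :
    trU ρ (g * x * g⁻¹) (g * y * g⁻¹) * ρ g = ρ g * trU ρ x y := by
  rw [trU, trU, add_mul, mul_add]
  simp only [← map_mul]
  congr 2 <;> group

theorem trU_commute_left (hρ : ∀ g : G, g ≠ 1 → ∀ v, ρ g v = v → v = 0) {x y : G} (hx1 : x ≠ 1)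
    (hx : x ^ 3 = 1) (hy1 : y ≠ 1) (hy : y ^ 3 = 1) : trU ρ x y * ρ x = ρ x * trU ρ x y := by
  conv_rhs => rw [trU_comm hρ hx1 hx hy1 hy]
  rw [trU, trU, add_mul, mul_add]
  simp only [← map_mul]
  congr 2 <;> group

theorem trU_commute_right (hρ : ∀ g : G, g ≠ 1 → ∀ v, ρ g v = v → v = 0) {x y : G} (hx1 : x ≠ 1)
    (hx : x ^ 3 = 1) (hy1 : y ≠ 1) (hy : y ^ 3 = 1) : trU ρ x y * ρ y = ρ y * trU ρ x y := by
  rw [trU_comm hρ hx1 hx hy1 hy, trU_commute_left hρ hy1 hy hx1 hx]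

theorem trU_eq_zero_iff [Nontrivial V] (hρ : ∀ g : G, g ≠ 1 → ∀ v, ρ g v = v → v = 0) {z : G}
    (hz1 : z ≠ 1) (hz : z ^ 2 = 1) {x y : G} : trU ρ x y = 0 ↔ (x * y) ^ 2 = z := by
  have h1 : ρ (x * y) * ρ (x * y)⁻¹ = 1 := by rw [← map_mul, mul_inv_cancel, map_one]
  constructor
  · intro h
    apply rep_injective hρ
    rw [rep_invol hρ hz1 hz, map_pow]
    rw [trU] at h
    linear_combination (norm := noncomm_ring) ρ (x * y) * h - h1
  · intro h
    have h2 := congrArg ρ h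
    rw [rep_invol hρ hz1 hz, map_pow] at h2
    rw [trU]
    linear_combination (norm := noncomm_ring) h2 * ρ (x * y)⁻¹ - ρ (x * y) * h1

theorem trU_golden [Finite G] (hρ : ∀ g : G, g ≠ 1 → ∀ v, ρ g v = v → v = 0) {x y : G}
    (h : orderOf (x * y) = 10) : trU ρ x y * trU ρ x y = trU ρ x y + 1 := by
  set w := x * y with hw
  have h10 : w ^ 10 = 1 := h ▸ pow_orderOf_eq_one w
  have h5 : ρ w ^ 5 = -1 := by
    rw [← map_pow]
    refine rep_invol hρ (pow_ne_one_of_lt_orderOf (by norm_num) (by omega)) ?_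
    rw [← pow_mul, h10]
  have h2 := rep_sum hρ (g := w ^ 2) (pow_ne_one_of_lt_orderOf (by norm_num) (by omega)) (n := 5)
    (by rw [← pow_mul, h10])
  simp only [Finset.sum_range_succ, Finset.sum_range_zero, map_pow, ← pow_mul, Nat.reduceMul,
    pow_zero] at h2
  have h3 : ρ w⁻¹ = -ρ w ^ 4 := by
    have e : w⁻¹ = w ^ 5 * w ^ 4 := by rw [inv_eq_iff_mul_eq_one, ← pow_add, ← pow_succ', h10]
    rw [e, map_mul, map_pow, map_pow, h5]
    simp
  rw [trU, ← hw, h3]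
  linear_combination (norm := noncomm_ring) h2 - 2 * h5 - ρ w * h5

theorem pair_cases_rep [Finite G] [FiniteDimensional ℂ V] [Nontrivial V]
    (hρ : ∀ g : G, g ≠ 1 → ∀ v, ρ g v = v → v = 0) {x y : G} (hx1 : x ≠ 1)
    (hx : x ^ 3 = 1) (hy1 : y ≠ 1) (hy : y ^ 3 = 1) :
    x * y = 1 ∨ x = y ∨ orderOf (x * y) = 4 ∨ orderOf (x * y⁻¹) = 4 ∨
      (orderOf (x * y) = 10 ∧ orderOf (x * y⁻¹) = 10) := by
  obtain ⟨ζ, hζ⟩ := Module.End.exists_eigenvalue (ρ (x * y))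
  obtain ⟨v, hv⟩ := hζ.exists_hasEigenvector
  have hv0 : v ≠ 0 := hv.2
  have h1 : ρ (x * y) v = ζ • v := hv.apply_eq_smul
  have hζp := rep_eigen hρ hv0 h1
  have hζ0 : ζ ≠ 0 := hζp.ne_zero (orderOf_pos _).ne'
  have h2 : trU ρ x y⁻¹ v = (1 - (ζ + ζ⁻¹)) • v := by
    rw [trU_inv hρ hx1 hx hy1 hy, trU, LinearMap.sub_apply, LinearMap.add_apply, h1,
      rep_inv_eigen hζ0 h1, sub_smul, add_smul, one_smul, Module.End.one_apply]
  obtain ⟨α, hα⟩ : ∃ α : ℂ, α * α - (1 - (ζ + ζ⁻¹)) * α + 1 = 0 := by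
    obtain ⟨s, hs⟩ := IsAlgClosed.exists_eq_mul_self ((1 - (ζ + ζ⁻¹)) ^ 2 - 4)
    exact ⟨((1 - (ζ + ζ⁻¹)) + s) / 2, by linear_combination (-1 / 4 : ℂ) * hs⟩
  have hα0 : α ≠ 0 := by
    rintro rfl
    simp at hα
  have hα1 : α + α⁻¹ = 1 - (ζ + ζ⁻¹) := by
    have : α * α⁻¹ = 1 := mul_inv_cancel₀ hα0
    apply mul_left_cancel₀ hα0
    linear_combination hα + this
  set W := x * y⁻¹ with hW
  obtain ⟨η, u, hu0, hu, hη⟩ : ∃ (η : ℂ) (u : V), u ≠ 0 ∧ ρ W u = η • u ∧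
      η + η⁻¹ = 1 - (ζ + ζ⁻¹) := by
    by_cases h3 : ρ W v - α⁻¹ • v = 0
    · exact ⟨α⁻¹, v, hv0, sub_eq_zero.mp h3, by rw [inv_inv, add_comm, hα1]⟩
    · refine ⟨α, _, h3, ?_, hα1⟩
      have h4 := congrArg (ρ W) h2
      rw [trU, ← hW, LinearMap.add_apply, map_add, ← Module.End.mul_apply (ρ W) (ρ W⁻¹),
        ← map_mul, mul_inv_cancel, map_one, Module.End.one_apply, map_smul, ← hα1, add_smul] at h4
      rw [map_sub, map_smul, smul_sub, smul_smul, mul_inv_cancel₀ hα0, one_smul]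
      linear_combination (norm := module) h4
  have hηp := rep_eigen hρ hu0 hu
  rcases roots_cases hζp hηp (orderOf_pos _).ne' (orderOf_pos _).ne' (by rw [hη]; ring) with
    h | h | h
  · exact Or.inl (orderOf_eq_one_iff.mp h)
  · exact Or.inr (Or.inl (mul_inv_eq_one.mp (orderOf_eq_one_iff.mp h)))
  · exact Or.inr (Or.inr h)

theorem rel_conj_of_golden [Finite G] [Nontrivial V]
    (hρ : ∀ g : G, g ≠ 1 → ∀ v, ρ g v = v → v = 0) {z : G} (hz1 : z ≠ 1) (hz : z ^ 2 = 1)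
    {x y : G} (hx1 : x ≠ 1) (hx : x ^ 3 = 1) (hy1 : y ≠ 1) (hy : y ^ 3 = 1)
    (h : orderOf (x * y) = 10) : (x * (y * x * y⁻¹)) ^ 2 = z := by
  rw [← trU_eq_zero_iff hρ hz1 hz]
  have h1 := trU_golden hρ h
  have h2 := trU_inv hρ hx1 hx hy1 hy
  have c1 := trU_commute_left hρ hx1 hx hy1 hy
  have c2 := trU_commute_right hρ hx1 hx hy1 hy
  have c3 : trU ρ x y * ρ (x * y) = ρ (x * y) * trU ρ x y := by
    rw [map_mul, ← mul_assoc, c1, mul_assoc, c2, mul_assoc]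
  have e1 : ρ (x * (y * x * y⁻¹)) = ρ (x * y) * ρ (x * y⁻¹) := by
    rw [← map_mul]; congr 1; group
  have e2 : ρ (x * (y * x * y⁻¹))⁻¹ = ρ (x * y⁻¹)⁻¹ * ρ (x * y)⁻¹ := by
    rw [← map_mul]; congr 1; group
  have hyy : y * y = y⁻¹ := by rw [eq_inv_iff_mul_eq_one, ← pow_three', hy]
  have e3 : ρ (x * y) * ρ (x * y⁻¹)⁻¹ = ρ x * ρ y⁻¹ * ρ x⁻¹ := by
    rw [← map_mul, ← map_mul, ← map_mul]; congr 1
    conv_rhs => rw [← hyy]
    group
  have e4 : ρ (x * y⁻¹) * ρ (x * y)⁻¹ = ρ x * ρ y * ρ x⁻¹ := by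
    rw [← map_mul, ← map_mul, ← map_mul]; congr 1
    have : y = y⁻¹ * y⁻¹ := by rw [← mul_inv_rev, hyy, inv_inv]
    conv_rhs => rw [this]
    group
  have e5 : ρ x * ρ x⁻¹ = 1 := by rw [← map_mul, mul_inv_cancel, map_one]
  have e6 := rep_three hρ hy1 hy
  have d1 : trU ρ x y = ρ (x * y) + ρ (x * y)⁻¹ := rfl
  have d2 : trU ρ x y⁻¹ = ρ (x * y⁻¹) + ρ (x * y⁻¹)⁻¹ := rfl
  rw [trU, e1, e2]
  generalize trU ρ x y = u at *
  generalize trU ρ x y⁻¹ = u' at *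
  generalize ρ (x * y) = W at *
  generalize ρ (x * y)⁻¹ = Wi at *
  generalize ρ (x * y⁻¹) = W' at *
  generalize ρ (x * y⁻¹)⁻¹ = Wi' at *
  linear_combination (norm := noncomm_ring) W * (h2 - d2) + (h2 - d2) * Wi - e3 - e4 + c3 -
    ρ x * e6 * ρ x⁻¹ + e5 - d1 + u * d1 - h1

theorem golden_sum_ne {R : Type*} [Ring R] [CharZero R] {a b c : R} (ha : a = 1 ∨ a * a = a + 1)
    (hb : b = 1 ∨ b * b = b + 1) (hc : c = 1 ∨ c * c = c + 1) (hs : a + b + c = 1)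
    (hab : a * b = b * a) : False := by
  have two : ∀ u v : R, u * u = u + 1 → v * v = v + 1 → u + v ≠ 0 := by
    intro u v hu hv h
    obtain rfl : v = -u := eq_neg_of_add_eq_zero_right h
    have h1 : 2 * u = 0 := by linear_combination (norm := noncomm_ring) hv - hu
    have h2 : ((2 : ℕ) : R) = 0 := by
      push_cast
      linear_combination (norm := (noncomm_ring; norm_num)) h1 * u - h1 - 2 * hu
    exact absurd h2 (Nat.cast_ne_zero.mpr (by norm_num))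
  have one : ∀ u : R, u * u = u + 1 → u ≠ -1 := by
    rintro u hu rfl
    simp at hu
  rcases ha with rfl | ha <;> rcases hb with rfl | hb <;> rcases hc with rfl | hc
  · have h2 : ((2 : ℕ) : R) = 0 := by
      push_cast
      linear_combination (norm := (noncomm_ring; norm_num)) hs
    exact absurd h2 (Nat.cast_ne_zero.mpr (by norm_num))
  · exact one _ hc (by linear_combination (norm := noncomm_ring) hs)
  · exact one _ hb (by linear_combination (norm := noncomm_ring) hs)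
  · exact two _ _ hb hc (by linear_combination (norm := noncomm_ring) hs)
  · exact one _ ha (by linear_combination (norm := noncomm_ring) hs)
  · exact two _ _ ha hc (by linear_combination (norm := noncomm_ring) hs)
  · exact two _ _ ha hb (by linear_combination (norm := noncomm_ring) hs)
  · obtain rfl : c = 1 - a - b := by linear_combination (norm := noncomm_ring) hs
    have h1 : 2 * (a * b) + 1 = 0 := by
      linear_combination (norm := noncomm_ring) hc - ha - hb + hab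
    have h2 : a = 1 - 2 * b := by
      linear_combination (norm := noncomm_ring) (a - 1) * h1 - 2 * ha * b
    subst h2
    have h3 : 2 * b + 3 = 0 := by linear_combination (norm := (noncomm_ring; norm_num)) ha - 4 * hb
    have h4 : ((11 : ℕ) : R) = 0 := by
      push_cast
      linear_combination (norm := (noncomm_ring; norm_num)) 4 * hb - h3 * (2 * b - 5)
    exact absurd h4 (Nat.cast_ne_zero.mpr (by norm_num))

theorem sq_eq_of_orderOf_four [Nontrivial V] (hρ : ∀ g : G, g ≠ 1 → ∀ v, ρ g v = v → v = 0) {z : G}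
    (hz1 : z ≠ 1) (hz : z ^ 2 = 1) {w : G} (h : orderOf w = 4) : w ^ 2 = z := by
  apply rep_injective hρ
  rw [rep_invol hρ hz1 hz]
  refine rep_invol hρ (pow_ne_one_of_lt_orderOf (by norm_num) (by omega)) ?_
  rw [← pow_mul]
  exact (congrArg (w ^ ·) h.symm).trans (pow_orderOf_eq_one w)

theorem central_of_invol [Nontrivial V] (hρ : ∀ g : G, g ≠ 1 → ∀ v, ρ g v = v → v = 0) {z : G}
    (hz1 : z ≠ 1) (hz : z ^ 2 = 1) (g : G) : g * z = z * g := by
  apply rep_injective hρ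
  rw [map_mul, map_mul, rep_invol hρ hz1 hz]
  simp

theorem rel_symm {z : G} (hc : ∀ g, g * z = z * g) {x y : G} (h : (x * y) ^ 2 = z) :
    (y * x) ^ 2 = z := by
  calc (y * x) ^ 2 = x⁻¹ * (x * y) ^ 2 * x := by rw [sq, sq]; group
    _ = z := by rw [h, hc]; group

theorem rel_conj {z : G} (hc : ∀ g, g * z = z * g) {x y : G} (h : (x * y) ^ 2 = z) (g : G) :
    (g * x * g⁻¹ * (g * y * g⁻¹)) ^ 2 = z := by
  calc (g * x * g⁻¹ * (g * y * g⁻¹)) ^ 2 = g * (x * y) ^ 2 * g⁻¹ := by rw [sq, sq]; group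
    _ = z := by rw [h, hc]; group

theorem conj_eq_of_rel {z x y : G} (hx : x ^ 3 = 1) (h : (x * y) ^ 2 = z) :
    x * y * x⁻¹ = z * y⁻¹ * x := by
  have e : x⁻¹ = x * x := by rw [inv_eq_iff_mul_eq_one, ← pow_three, hx]
  rw [e, ← h, sq]
  group

theorem conj_eq_of_rel' {z : G} (hc : ∀ g, g * z = z * g) {x y : G} (hx : x ^ 3 = 1)
    (h : (x * y) ^ 2 = z) : x⁻¹ * y * x = z * x * y⁻¹ := by
  have e : x⁻¹ = x * x := by rw [inv_eq_iff_mul_eq_one, ← pow_three, hx]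
  rw [e, ← hc, ← h, sq]
  group

theorem conj_mul_inv_of_rel {z : G} (hc : ∀ g, g * z = z * g) {p a b : G}
    (ha : (p * a) ^ 2 = z) (hb : (p * b) ^ 2 = z) : p * (a * b⁻¹) * p⁻¹ = a⁻¹ * b := by
  calc p * (a * b⁻¹) * p⁻¹ = (p * a) ^ 2 * a⁻¹ * (b * ((p * b) ^ 2)⁻¹) := by rw [sq, sq]; group
    _ = a⁻¹ * b := by rw [ha, hb, ← hc, mul_assoc, ← mul_assoc z, ← hc]; group

theorem cube_conj {x : G} (hx : x ^ 3 = 1) (g : G) : (g * x * g⁻¹) ^ 3 = 1 := by
  rw [conj_pow, hx]; group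

theorem cube_inv {x : G} (hx : x ^ 3 = 1) : x⁻¹ ^ 3 = 1 := by rw [inv_pow, hx, inv_one]

theorem not_rel_inv_rep [Nontrivial V] (hρ : ∀ g : G, g ≠ 1 → ∀ v, ρ g v = v → v = 0) {z : G}
    (hz1 : z ≠ 1) (hz : z ^ 2 = 1) {x y : G} (hx1 : x ≠ 1) (hx : x ^ 3 = 1) (hy1 : y ≠ 1)
    (hy : y ^ 3 = 1) (h : (x * y) ^ 2 = z) (h' : (x * y⁻¹) ^ 2 = z) : False := by
  rw [← trU_eq_zero_iff hρ hz1 hz] at h h'
  rw [trU_inv hρ hx1 hx hy1 hy, h] at h'
  simp at h'

theorem transitive_rep [Finite G] [FiniteDimensional ℂ V] [Nontrivial V]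
    (hρ : ∀ g : G, g ≠ 1 → ∀ v, ρ g v = v → v = 0) {z : G} (hz1 : z ≠ 1) (hz : z ^ 2 = 1)
    {x y y' : G} (hx1 : x ≠ 1) (hx : x ^ 3 = 1) (hy1 : y ≠ 1) (hy : y ^ 3 = 1) (hy1' : y' ≠ 1)
    (hy' : y' ^ 3 = 1) (h : (x * y) ^ 2 = z) (h' : (x * y') ^ 2 = z) :
    ∃ g : G, (g = 1 ∨ g = x ∨ g = x⁻¹) ∧ (y' = g * y * g⁻¹ ∨ (y' * (g * y * g⁻¹)) ^ 2 = z) := by
  by_contra hcon
  push Not at hcon
  have hc := central_of_invol hρ hz1 hz
  have : CharZero (Module.End ℂ V) := Algebra.charZero_of_charZero ℂ _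
  have key : ∀ g : G, (g = 1 ∨ g = x ∨ g = x⁻¹) → trU ρ y' (g * y * g⁻¹) = 1 ∨
      trU ρ y' (g * y * g⁻¹) * trU ρ y' (g * y * g⁻¹) = trU ρ y' (g * y * g⁻¹) + 1 := by
    intro g hg
    have ht1 : g * y * g⁻¹ ≠ 1 := by rwa [Ne, conj_eq_one_iff]
    have ht := cube_conj hy g
    have hxt : (x * (g * y * g⁻¹)) ^ 2 = z := by
      have := rel_conj hc h g
      rwa [show g * x * g⁻¹ = x by rcases hg with rfl | rfl | rfl <;> group] at this
    rcases pair_cases_rep hρ hy1' hy' ht1 ht with h1 | h1 | h1 | h1 | h1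
    · exfalso
      refine not_rel_inv_rep hρ hz1 hz hx1 hx ht1 ht hxt ?_
      rwa [← eq_inv_of_mul_eq_one_left h1]
    · exact absurd h1 (hcon g hg).1
    · exact absurd (sq_eq_of_orderOf_four hρ hz1 hz h1) (hcon g hg).2
    · left
      have h2 := (trU_eq_zero_iff hρ hz1 hz).mpr (sq_eq_of_orderOf_four hρ hz1 hz h1)
      rw [trU_inv hρ hy1' hy' ht1 ht] at h2
      exact (sub_eq_zero.mp h2).symm
    · exact Or.inr (trU_golden hρ h1.1)
  have k0 := key 1 (Or.inl rfl)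
  have k1 := key x (Or.inr (Or.inl rfl))
  have k2 := key x⁻¹ (Or.inr (Or.inr rfl))
  simp only [one_mul, inv_one, mul_one, inv_inv] at k0 k2
  have t1 : x * y * x⁻¹ ≠ 1 := by rwa [Ne, conj_eq_one_iff]
  have t1' := cube_conj hy x
  have t2 : x⁻¹ * y * x ≠ 1 := by
    have : x⁻¹ * y * x⁻¹⁻¹ ≠ 1 := by rwa [Ne, conj_eq_one_iff]
    rwa [inv_inv] at this
  have t2' : (x⁻¹ * y * x) ^ 3 = 1 := by simpa using cube_conj hy x⁻¹
  have e1 : ρ (x * y * x⁻¹) = (1 + ρ y) * ρ x := by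
    rw [conj_eq_of_rel hx h, map_mul, map_mul, rep_invol hρ hz1 hz, rep_three hρ hy1 hy]
    noncomm_ring
  have e2 : ρ (x⁻¹ * y * x) = ρ x * (1 + ρ y) := by
    rw [conj_eq_of_rel' hc hx h, map_mul, map_mul, rep_invol hρ hz1 hz, rep_three hρ hy1 hy]
    noncomm_ring
  have u0 := (trU_eq_zero_iff hρ hz1 hz).mpr h
  have u0' := (trU_eq_zero_iff hρ hz1 hz).mpr h'
  rw [trU_eq hρ hx1 hx hy1 hy] at u0
  rw [trU_eq hρ hx1 hx hy1' hy'] at u0'
  refine golden_sum_ne k0 k1 k2 ?_ ?_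
  · rw [trU_eq hρ hy1' hy' hy1 hy, trU_eq hρ hy1' hy' t1 t1', trU_eq hρ hy1' hy' t2 t2', e1, e2]
    linear_combination (norm := noncomm_ring) u0 + ρ y' * u0 + u0 * ρ y' + u0'
  · have c1 := trU_commute_left hρ hy1' hy' hy1 hy
    have c2 := trU_commute_right hρ hy1' hy' hy1 hy
    have c3 : trU ρ y' y * ρ x = ρ x * trU ρ y' y := by
      have h1 : trU ρ y' y⁻¹ * ρ x = ρ x * trU ρ y' y⁻¹ := by
        have h2 : trU ρ y' y⁻¹ = ρ (y'⁻¹ * y) + ρ (y'⁻¹ * y)⁻¹ := by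
          rw [trU_comm hρ hy1' hy' (inv_ne_one.mpr hy1) (cube_inv hy), trU, add_comm]
          congr 2 <;> group
        conv_lhs => rw [h2, ← conj_mul_inv_of_rel hc h' h]
        rw [trU, add_mul, mul_add]
        simp only [← map_mul]
        congr 2 <;> group
      rw [trU_inv hρ hy1' hy' hy1 hy] at h1
      linear_combination (norm := noncomm_ring) -h1
    have d1 : Commute (trU ρ y' y) (ρ y') := c1
    have d2 : Commute (trU ρ y' y) (ρ y) := c2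
    have d3 : Commute (trU ρ y' y) (ρ x) := c3
    have d4 : Commute (trU ρ y' y) (ρ (x * y * x⁻¹)) := by
      rw [e1]
      exact ((Commute.one_right _).add_right d2).mul_right d3
    rw [trU_eq hρ hy1' hy' t1 t1']
    exact (((((Commute.one_right _).add_right d1).add_right d4).add_right
      (d1.mul_right d4)).add_right (d4.mul_right d1)).eq

end Rep

end Cfsg.Agent.H24
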