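import Mathlib

/-! Two small coset enumerations. -/

set_option autoImplicit false

namespace Cfsg.Agent.H24

theorem tc235 {G X : Type*} [Group G] [MulAction G X] (x y : G) (p0 : X)
    (rx : ∀ q : X, x • x • x • q = q) (ry : ∀ q : X, y • y • y • y • y • q = q)
    (rxy : ∀ q : X, x • y • x • y • q = q) (ryx : ∀ q : X, y • x • y • x • q = q)
    (hy0 : y • p0 = p0) :
    ∃ T : List X, T.length = 12 ∧ p0 ∈ T ∧ ∀ q ∈ T, x • q ∈ T ∧ y • q ∈ T := by
  obtain ⟨p1, hx1⟩ : ∃ q, x • q = p0 := ⟨_, smul_inv_smul _ _⟩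
  obtain ⟨p2, hx0⟩ : ∃ q, x • p0 = q := ⟨_, rfl⟩
  have hx2 : x • p2 = p1 := by
    have := rx p1
    rw [hx1] at this; rw [hx0] at this; exact this
  have hy2 : y • p2 = p1 := by
    have := ryx p1
    rw [hx1] at this; rw [hy0] at this; rw [hx0] at this; exact this
  obtain ⟨p3, hy3⟩ : ∃ q, y • q = p2 := ⟨_, smul_inv_smul _ _⟩
  obtain ⟨p4, hy1⟩ : ∃ q, y • p1 = q := ⟨_, rfl⟩
  have hx4 : x • p4 = p3 := by
    have := rxy p3
    rw [hy3] at this; rw [hx2] at this; rw [hy1] at this; exact this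
  obtain ⟨p5, hx3⟩ : ∃ q, x • p3 = q := ⟨_, rfl⟩
  have hx5 : x • p5 = p4 := by
    have := rx p4
    rw [hx4] at this; rw [hx3] at this; exact this
  obtain ⟨p6, hy5⟩ : ∃ q, y • p5 = q := ⟨_, rfl⟩
  obtain ⟨p7, hy7⟩ : ∃ q, y • q = p3 := ⟨_, smul_inv_smul _ _⟩
  have hy4 : y • p4 = p7 := by
    have := ry p7
    rw [hy7] at this; rw [hy3] at this; rw [hy2] at this; rw [hy1] at this; exact this
  have hx6 : x • p6 = p7 := by
    have := rxy p7
    rw [hy7] at this; rw [hx3] at this; rw [hy5] at this; exact this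
  obtain ⟨p8, hy8⟩ : ∃ q, y • q = p5 := ⟨_, smul_inv_smul _ _⟩
  have hx7 : x • p7 = p8 := by
    have := rxy p8
    rw [hy8] at this; rw [hx5] at this; rw [hy4] at this; exact this
  have hx8 : x • p8 = p6 := by
    have := rx p6
    rw [hx6] at this; rw [hx7] at this; exact this
  obtain ⟨p9, hy6⟩ : ∃ q, y • p6 = q := ⟨_, rfl⟩
  obtain ⟨p10, hy10⟩ : ∃ q, y • q = p8 := ⟨_, smul_inv_smul _ _⟩
  have hy9 : y • p9 = p10 := by
    have := ry p10
    rw [hy10] at this; rw [hy8] at this; rw [hy5] at this; rw [hy6] at this; exact this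
  have hx9 : x • p9 = p10 := by
    have := rxy p10
    rw [hy10] at this; rw [hx8] at this; rw [hy6] at this; exact this
  obtain ⟨p11, hx11⟩ : ∃ q, x • q = p9 := ⟨_, smul_inv_smul _ _⟩
  have hx10 : x • p10 = p11 := by
    have := rx p11
    rw [hx11] at this; rw [hx9] at this; exact this
  have hy11 : y • p11 = p11 := by
    have := ryx p11
    rw [hx11] at this; rw [hy9] at this; rw [hx10] at this; exact this
  refine ⟨[p0, p1, p2, p3, p4, p5, p6, p7, p8, p9, p10, p11], rfl, by simp, ?_⟩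
  simp only [List.forall_mem_cons, List.not_mem_nil, false_imp_iff, implies_true, and_true, hx0, hy0, hx1, hy1, hx2, hy2, hx3, hy3, hx4, hy4, hx5, hy5, hx6, hy6, hx7, hy7, hx8, hy8, hx9, hy9, hx10, hy10, hx11, hy11]
  simp

theorem tc333 {G X : Type*} [Group G] [MulAction G X] (a b c : G) (p0 : X)
    (ra : ∀ q : X, a • a • a • q = q) (rb : ∀ q : X, b • b • b • q = q)
    (rc : ∀ q : X, c • c • c • q = q)
    (rab : ∀ q : X, a • b • a • b • q = q) (rba : ∀ q : X, b • a • b • a • q = q)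
    (rac : ∀ q : X, a • c • a • c • q = q) (rca : ∀ q : X, c • a • c • a • q = q)
    (rbc : ∀ q : X, b • c • b • c • q = q) (rcb : ∀ q : X, c • b • c • b • q = q)
    (ha0 : a • p0 = p0) :
    ∃ T : List X, T.length = 20 ∧ p0 ∈ T ∧ ∀ q ∈ T, a • q ∈ T ∧ b • q ∈ T ∧ c • q ∈ T := by
  obtain ⟨p1, hc1⟩ : ∃ q, c • q = p0 := ⟨_, smul_inv_smul _ _⟩
  obtain ⟨p2, hb2⟩ : ∃ q, b • q = p0 := ⟨_, smul_inv_smul _ _⟩
  obtain ⟨p3, hc0⟩ : ∃ q, c • p0 = q := ⟨_, rfl⟩
  have hc3 : c • p3 = p1 := by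
    have := rc p1
    rw [hc1] at this; rw [hc0] at this; exact this
  have ha3 : a • p3 = p1 := by
    have := rac p1
    rw [hc1] at this; rw [ha0] at this; rw [hc0] at this; exact this
  obtain ⟨p4, hb0⟩ : ∃ q, b • p0 = q := ⟨_, rfl⟩
  have hb4 : b • p4 = p2 := by
    have := rb p2
    rw [hb2] at this; rw [hb0] at this; exact this
  have ha4 : a • p4 = p2 := by
    have := rab p2
    rw [hb2] at this; rw [ha0] at this; rw [hb0] at this; exact this
  obtain ⟨p5, hc4⟩ : ∃ q, c • p4 = q := ⟨_, rfl⟩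
  have hb5 : b • p5 = p1 := by
    have := rbc p1
    rw [hc1] at this; rw [hb0] at this; rw [hc4] at this; exact this
  obtain ⟨p6, ha1⟩ : ∃ q, a • p1 = q := ⟨_, rfl⟩
  have ha6 : a • p6 = p3 := by
    have := ra p3
    rw [ha3] at this; rw [ha1] at this; exact this
  have hc6 : c • p6 = p6 := by
    have := rca p6
    rw [ha6] at this; rw [hc3] at this; rw [ha1] at this; exact this
  obtain ⟨p7, hc7⟩ : ∃ q, c • q = p4 := ⟨_, smul_inv_smul _ _⟩
  have hc5 : c • p5 = p7 := by
    have := rc p7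
    rw [hc7] at this; rw [hc4] at this; exact this
  obtain ⟨p8, hb1⟩ : ∃ q, b • p1 = q := ⟨_, rfl⟩
  have hb8 : b • p8 = p5 := by
    have := rb p5
    rw [hb5] at this; rw [hb1] at this; exact this
  obtain ⟨p9, hc2⟩ : ∃ q, c • p2 = q := ⟨_, rfl⟩
  have ha9 : a • p9 = p7 := by
    have := rac p7
    rw [hc7] at this; rw [ha4] at this; rw [hc2] at this; exact this
  have hb9 : b • p9 = p7 := by
    have := rbc p7
    rw [hc7] at this; rw [hb4] at this; rw [hc2] at this; exact this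
  obtain ⟨p10, ha2⟩ : ∃ q, a • p2 = q := ⟨_, rfl⟩
  have ha10 : a • p10 = p4 := by
    have := ra p4
    rw [ha4] at this; rw [ha2] at this; exact this
  have hb10 : b • p10 = p10 := by
    have := rba p10
    rw [ha10] at this; rw [hb4] at this; rw [ha2] at this; exact this
  obtain ⟨p11, hc11⟩ : ∃ q, c • q = p2 := ⟨_, smul_inv_smul _ _⟩
  have hc9 : c • p9 = p11 := by
    have := rc p11
    rw [hc11] at this; rw [hc2] at this; exact this
  have hb3 : b • p3 = p11 := by
    have := rbc p11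
    rw [hc11] at this; rw [hb2] at this; rw [hc0] at this; exact this
  obtain ⟨p12, hb12⟩ : ∃ q, b • q = p3 := ⟨_, smul_inv_smul _ _⟩
  have hb11 : b • p11 = p12 := by
    have := rb p12
    rw [hb12] at this; rw [hb3] at this; exact this
  have ha8 : a • p8 = p12 := by
    have := rab p12
    rw [hb12] at this; rw [ha3] at this; rw [hb1] at this; exact this
  have hc8 : c • p8 = p12 := by
    have := rcb p12
    rw [hb12] at this; rw [hc3] at this; rw [hb1] at this; exact this
  obtain ⟨p13, ha5⟩ : ∃ q, a • p5 = q := ⟨_, rfl⟩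
  have hc13 : c • p13 = p10 := by
    have := rca p10
    rw [ha10] at this; rw [hc4] at this; rw [ha5] at this; exact this
  obtain ⟨p14, ha14⟩ : ∃ q, a • q = p5 := ⟨_, smul_inv_smul _ _⟩
  have ha13 : a • p13 = p14 := by
    have := ra p14
    rw [ha14] at this; rw [ha5] at this; exact this
  have hb6 : b • p6 = p14 := by
    have := rba p14
    rw [ha14] at this; rw [hb5] at this; rw [ha1] at this; exact this
  obtain ⟨p15, hb15⟩ : ∃ q, b • q = p6 := ⟨_, smul_inv_smul _ _⟩
  have hb14 : b • p14 = p15 := by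
    have := rb p15
    rw [hb15] at this; rw [hb6] at this; exact this
  have ha11 : a • p11 = p15 := by
    have := rab p15
    rw [hb15] at this; rw [ha6] at this; rw [hb3] at this; exact this
  have hc14 : c • p14 = p15 := by
    have := rcb p15
    rw [hb15] at this; rw [hc6] at this; rw [hb6] at this; exact this
  obtain ⟨p16, ha7⟩ : ∃ q, a • p7 = q := ⟨_, rfl⟩
  have ha16 : a • p16 = p9 := by
    have := ra p9
    rw [ha9] at this; rw [ha7] at this; exact this
  have hb16 : b • p16 = p16 := by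
    have := rba p16
    rw [ha16] at this; rw [hb9] at this; rw [ha7] at this; exact this
  have hc16 : c • p16 = p14 := by
    have := rca p14
    rw [ha14] at this; rw [hc5] at this; rw [ha7] at this; exact this
  have hc15 : c • p15 = p16 := by
    have := rca p16
    rw [ha16] at this; rw [hc9] at this; rw [ha11] at this; exact this
  obtain ⟨p17, hb17⟩ : ∃ q, b • q = p13 := ⟨_, smul_inv_smul _ _⟩
  have ha15 : a • p15 = p17 := by
    have := rab p17
    rw [hb17] at this; rw [ha13] at this; rw [hb14] at this; exact this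
  have hc17 : c • p17 = p13 := by
    have := rca p13
    rw [ha13] at this; rw [hc14] at this; rw [ha15] at this; exact this
  have hc10 : c • p10 = p17 := by
    have := rcb p17
    rw [hb17] at this; rw [hc13] at this; rw [hb10] at this; exact this
  have ha17 : a • p17 = p11 := by
    have := ra p11
    rw [ha11] at this; rw [ha15] at this; exact this
  obtain ⟨p18, hb7⟩ : ∃ q, b • p7 = q := ⟨_, rfl⟩
  have hb18 : b • p18 = p9 := by
    have := rb p9
    rw [hb9] at this; rw [hb7] at this; exact this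
  have ha18 : a • p18 = p18 := by
    have := rab p18
    rw [hb18] at this; rw [ha9] at this; rw [hb7] at this; exact this
  have hc18 : c • p18 = p8 := by
    have := rcb p8
    rw [hb8] at this; rw [hc5] at this; rw [hb7] at this; exact this
  have hc12 : c • p12 = p18 := by
    have := rcb p18
    rw [hb18] at this; rw [hc9] at this; rw [hb11] at this; exact this
  obtain ⟨p19, ha19⟩ : ∃ q, a • q = p8 := ⟨_, smul_inv_smul _ _⟩
  have ha12 : a • p12 = p19 := by
    have := ra p19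
    rw [ha19] at this; rw [ha8] at this; exact this
  have hb19 : b • p19 = p17 := by
    have := rba p17
    rw [ha17] at this; rw [hb11] at this; rw [ha12] at this; exact this
  have hb13 : b • p13 = p19 := by
    have := rba p19
    rw [ha19] at this; rw [hb8] at this; rw [ha5] at this; exact this
  have hc19 : c • p19 = p19 := by
    have := rca p19
    rw [ha19] at this; rw [hc8] at this; rw [ha12] at this; exact this
  refine ⟨[p0, p1, p2, p3, p4, p5, p6, p7, p8, p9, p10, p11, p12, p13, p14, p15, p16, p17, p18, p19], rfl, by simp, ?_⟩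
  simp only [List.forall_mem_cons, List.not_mem_nil, false_imp_iff, implies_true, and_true, ha0, hb0, hc0, ha1, hb1, hc1, ha2, hb2, hc2, ha3, hb3, hc3, ha4, hb4, hc4, ha5, hb5, hc5, ha6, hb6, hc6, ha7, hb7, hc7, ha8, hb8, hc8, ha9, hb9, hc9, ha10, hb10, hc10, ha11, hb11, hc11, ha12, hb12, hc12, ha13, hb13, hc13, ha14, hb14, hc14, ha15, hb15, hc15, ha16, hb16, hc16, ha17, hb17, hc17, ha18, hb18, hc18, ha19, hb19, hc19]
  simp

open scoped Pointwise in
theorem index_le_of_list {G : Type*} [Group G] (H : Subgroup G) (S : Set G)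
    (hS : Subgroup.closure S = ⊤) (T : List (G ⧸ H)) (h1 : ((1 : G) : G ⧸ H) ∈ T)
    (hcl : ∀ s ∈ S, ∀ q ∈ T, s • q ∈ T) : Finite (G ⧸ H) ∧ H.index ≤ T.length := by
  classical
  have h2 : ∀ g : G, ∀ q ∈ T.toFinset, g • q ∈ T.toFinset := by
    intro g
    have : g ∈ MulAction.stabilizer G T.toFinset := by
      have hle : Subgroup.closure S ≤ MulAction.stabilizer G T.toFinset := by
        rw [Subgroup.closure_le]
        intro s hs
        rw [SetLike.mem_coe, MulAction.mem_stabilizer_finset']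
        intro q hq
        simpa using hcl s hs q (by simpa using hq)
      exact hle (hS ▸ Subgroup.mem_top g)
    rw [MulAction.mem_stabilizer_finset'] at this
    exact fun q hq => this hq
  have h3 : ∀ q : G ⧸ H, q ∈ T.toFinset := by
    intro q
    obtain ⟨g, rfl⟩ := QuotientGroup.mk_surjective q
    simpa using h2 g _ (List.mem_toFinset.mpr h1)
  let _ : Fintype (G ⧸ H) := ⟨T.toFinset, h3⟩
  refine ⟨inferInstance, ?_⟩
  rw [Subgroup.index, Nat.card_eq_fintype_card]
  exact T.toFinset_card_le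

theorem central_smul {G : Type*} [Group G] (H : Subgroup G) {z : G} (hz : z ∈ H)
    (hc : ∀ g, g * z = z * g) (q : G ⧸ H) : z • q = q := by
  obtain ⟨g, rfl⟩ := QuotientGroup.mk_surjective q
  rw [MulAction.Quotient.smul_mk, QuotientGroup.eq, smul_eq_mul, ← hc]
  simpa using hz

theorem card_le_of_index_le {G : Type*} [Group G] {w : G} {k n : ℕ} (hk : 0 < k) (hw : w ^ k = 1)
    (h : Finite (G ⧸ Subgroup.zpowers w) ∧ (Subgroup.zpowers w).index ≤ n) :
    Finite G ∧ Nat.card G ≤ k * n := by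
  have hfin : IsOfFinOrder w := isOfFinOrder_iff_pow_eq_one.mpr ⟨k, hk, hw⟩
  have : Finite (Subgroup.zpowers w) := hfin.finite_zpowers
  have := h.1
  refine ⟨Finite.of_equiv _ (Subgroup.groupEquivQuotientProdSubgroup (s := Subgroup.zpowers w)).symm, ?_⟩
  rw [← (Subgroup.zpowers w).card_mul_index, Nat.card_zpowers]
  exact Nat.mul_le_mul (orderOf_le_of_pow_eq_one hk hw) h.2

theorem commute_of_closure {G : Type*} [Group G] {S : Set G} (hS : Subgroup.closure S = ⊤) {z : G}
    (h : ∀ s ∈ S, s * z = z * s) (g : G) : g * z = z * g := by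
  have : Subgroup.closure S ≤ Subgroup.centralizer {z} := by
    rw [Subgroup.closure_le]
    intro s hs t ht
    rw [Set.mem_singleton_iff.mp ht, h s hs]
  exact (this (hS ▸ Subgroup.mem_top g) z rfl).symm

theorem index_le_235 {G : Type*} [Group G] {x y z : G} (hx : x ^ 3 = 1) (hy : y ^ 5 = 1)
    (hxz : x * z = z * x) (hyz : y * z = z * y) (hxy : (x * y) ^ 2 = z)
    (hS : Subgroup.closure {x, y, z} = ⊤) (H : Subgroup G) (hyH : y ∈ H) (hzH : z ∈ H) :
    Finite (G ⧸ H) ∧ H.index ≤ 12 := by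
  have hc : ∀ g, g * z = z * g := commute_of_closure hS (by
    rintro s (rfl | rfl | rfl)
    exacts [hxz, hyz, rfl])
  have hz := central_smul H hzH hc
  obtain ⟨T, hT, h1, h2⟩ := tc235 x y ((1 : G) : G ⧸ H)
    (fun q => by simp only [← mul_smul, ← mul_assoc]; rw [show x * x * x = 1 by rw [← hx, pow_three'], one_smul])
    (fun q => by
      simp only [← mul_smul, ← mul_assoc]; rw [show y * y * y * y * y = 1 by rw [← hy]; simp only [pow_succ, pow_zero, one_mul], one_smul])
    (fun q => by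
      simp only [← mul_smul, ← mul_assoc]; rw [show x * y * x * y = z by rw [← hxy, sq]; group, hz])
    (fun q => by
      simp only [← mul_smul, ← mul_assoc]
      rw [show y * x * y * x = z by
        calc y * x * y * x = x⁻¹ * (x * y) ^ 2 * x := by rw [sq]; group
          _ = z := by rw [hxy, hc]; group, hz])
    (by rw [MulAction.Quotient.smul_mk, QuotientGroup.eq]; simpa using hyH)
  rw [← hT]
  refine index_le_of_list H _ hS T h1 ?_
  rintro s (rfl | rfl | rfl) q hq
  · exact (h2 q hq).1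
  · exact (h2 q hq).2
  · rwa [hz]

theorem card_le_235 {G : Type*} [Group G] {x y z : G} (hx : x ^ 3 = 1) (hy : y ^ 5 = 1)
    (hz : z ^ 2 = 1) (hxz : x * z = z * x) (hyz : y * z = z * y) (hxy : (x * y) ^ 2 = z)
    (hS : Subgroup.closure {x, y, z} = ⊤) : Finite G ∧ Nat.card G ≤ 120 := by
  have hc : Commute y z := hyz
  refine card_le_of_index_le (w := y * z) (k := 10) (n := 12) (by norm_num) ?_
    (index_le_235 hx hy hxz hyz hxy hS _ ⟨6, ?_⟩ ⟨5, ?_⟩)
  · rw [hc.mul_pow, show 10 = 5 * 2 from rfl, pow_mul, hy, mul_comm 5 2, pow_mul, hz]; simp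
  · change (y * z) ^ ((6 : ℕ) : ℤ) = y
    rw [zpow_natCast, hc.mul_pow, pow_succ y 5, hy, show 6 = 2 * 3 from rfl, pow_mul, hz]; simp
  · change (y * z) ^ ((5 : ℕ) : ℤ) = z
    rw [zpow_natCast, hc.mul_pow, hy, pow_succ z 4, show 4 = 2 * 2 from rfl, pow_mul, hz]; simp

theorem card_le_235' {G : Type*} [Group G] {x y : G} (hx : x ^ 3 = 1) (hy : y ^ 5 = 1)
    (hxy : (x * y) ^ 2 = 1) (hS : Subgroup.closure {x, y} = ⊤) : Finite G ∧ Nat.card G ≤ 60 := by
  refine card_le_of_index_le (w := y) (k := 5) (n := 12) (by norm_num) hy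
    (index_le_235 (z := 1) hx hy (by simp) (by simp) hxy ?_ _ (Subgroup.mem_zpowers y) (one_mem _))
  rw [eq_top_iff, ← hS]
  apply Subgroup.closure_mono
  rintro s (rfl | rfl) <;> simp

theorem card_le_333 {G : Type*} [Group G] {a b c z : G} (ha : a ^ 3 = 1) (hb : b ^ 3 = 1)
    (hc : c ^ 3 = 1) (hz : z ^ 2 = 1) (haz : a * z = z * a) (hbz : b * z = z * b)
    (hcz : c * z = z * c) (hab : (a * b) ^ 2 = z) (hac : (a * c) ^ 2 = z) (hbc : (b * c) ^ 2 = z)
    (hS : Subgroup.closure {a, b, c, z} = ⊤) : Finite G ∧ Nat.card G ≤ 120 := by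
  have hcomm : Commute a z := haz
  have hcen : ∀ g, g * z = z * g := commute_of_closure hS (by
    rintro s (rfl | rfl | rfl | rfl)
    exacts [haz, hbz, hcz, rfl])
  refine card_le_of_index_le (w := a * z) (k := 6) (n := 20) (by norm_num) ?_ ?_
  · rw [hcomm.mul_pow, show 6 = 3 * 2 from rfl, pow_mul, ha, mul_comm 3 2, pow_mul, hz]; simp
  have haH : a ∈ Subgroup.zpowers (a * z) := ⟨4, by
    change (a * z) ^ ((4 : ℕ) : ℤ) = a
    rw [zpow_natCast, hcomm.mul_pow, pow_succ a 3, ha, show 4 = 2 * 2 from rfl, pow_mul, hz]; simp⟩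
  have hzH : z ∈ Subgroup.zpowers (a * z) := ⟨3, by
    change (a * z) ^ ((3 : ℕ) : ℤ) = z
    rw [zpow_natCast, hcomm.mul_pow, ha, pow_succ z 2, hz]; simp⟩
  have hz' := central_smul _ hzH hcen
  have r3 : ∀ u : G, u ^ 3 = 1 → ∀ q : G ⧸ Subgroup.zpowers (a * z), u • u • u • q = q :=
    fun u hu q => by simp only [← mul_smul, ← mul_assoc]; rw [show u * u * u = 1 by rw [← hu, pow_three'], one_smul]
  have r2 : ∀ u v : G, (u * v) ^ 2 = z →
      ∀ q : G ⧸ Subgroup.zpowers (a * z), u • v • u • v • q = q :=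
    fun u v hu q => by
      simp only [← mul_smul, ← mul_assoc]; rw [show u * v * u * v = z by rw [← hu, sq]; group, hz']
  have sw : ∀ u v : G, (u * v) ^ 2 = z → (v * u) ^ 2 = z := fun u v h => by
    calc (v * u) ^ 2 = u⁻¹ * (u * v) ^ 2 * u := by rw [sq, sq]; group
      _ = z := by rw [h, hcen]; group
  obtain ⟨T, hT, h1, h2⟩ := tc333 a b c ((1 : G) : G ⧸ Subgroup.zpowers (a * z))
    (r3 a ha) (r3 b hb) (r3 c hc) (r2 _ _ hab) (r2 _ _ (sw _ _ hab)) (r2 _ _ hac)
    (r2 _ _ (sw _ _ hac)) (r2 _ _ hbc) (r2 _ _ (sw _ _ hbc))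
    (by rw [MulAction.Quotient.smul_mk, QuotientGroup.eq]; simpa using haH)
  rw [← hT]
  refine index_le_of_list _ _ hS T h1 ?_
  rintro s (rfl | rfl | rfl | rfl) q hq
  · exact (h2 q hq).1
  · exact (h2 q hq).2.1
  · exact (h2 q hq).2.2
  · rwa [hz']

/-- A homomorphism from its graph. -/
theorem exists_hom_of_graph {A G : Type*} [Group A] [Finite A] [Group G] (D : Subgroup (A × G))
    (hsurj : ∀ a : A, ∃ g, (a, g) ∈ D) (hD : Finite D ∧ Nat.card D ≤ Nat.card A) :
    ∃ φ : A →* G, ∀ a g, (a, g) ∈ D → φ a = g := by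
  have := hD.1
  let π : D →* A := (MonoidHom.fst A G).comp D.subtype
  have h1 : Function.Surjective π := fun a => by
    obtain ⟨g, hg⟩ := hsurj a
    exact ⟨⟨_, hg⟩, rfl⟩
  have h2 : Function.Bijective π := h1.bijective_of_nat_card_le hD.2
  let e := MulEquiv.ofBijective π h2
  refine ⟨((MonoidHom.snd A G).comp D.subtype).comp e.symm.toMonoidHom, fun a g hg => ?_⟩
  have : e.symm a = ⟨_, hg⟩ := by
    rw [MulEquiv.symm_apply_eq]; rfl
  change ((e.symm a : D) : A × G).2 = g
  rw [this]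

theorem closure_subtype_eq_top {G : Type*} [Group G] (S : Set G) (T : Set (Subgroup.closure S))
    (h : ∀ s (hs : s ∈ S), (⟨s, Subgroup.subset_closure hs⟩ : Subgroup.closure S) ∈ T) :
    Subgroup.closure T = ⊤ := by
  rw [eq_top_iff, ← Subgroup.closure_closure_coe_preimage]
  apply Subgroup.closure_mono
  intro x hx
  exact h x hx

theorem exists_snd_of_closure {A G : Type*} [Group A] [Group G] (S : Set (A × G))
    (h : Subgroup.closure (Prod.fst '' S) = ⊤) (a : A) : ∃ g, (a, g) ∈ Subgroup.closure S := by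
  have : a ∈ (Subgroup.closure S).map (MonoidHom.fst A G) := by
    rw [MonoidHom.map_closure]
    exact h ▸ Subgroup.mem_top a
  obtain ⟨⟨a', g⟩, h1, rfl⟩ := this
  exact ⟨g, h1⟩

/-- Universal property of a group of order at least 120 generated by a Carmichael triple. -/
theorem exists_hom_333 {A G : Type*} [Group A] [Finite A] [Group G] (hA : 120 ≤ Nat.card A)
    {a' b' c' z' : A} (ha' : a' ^ 3 = 1) (hb' : b' ^ 3 = 1)
    (hc' : c' ^ 3 = 1) (hz' : z' ^ 2 = 1) (haz' : a' * z' = z' * a') (hbz' : b' * z' = z' * b')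
    (hcz' : c' * z' = z' * c') (hab' : (a' * b') ^ 2 = z') (hac' : (a' * c') ^ 2 = z')
    (hbc' : (b' * c') ^ 2 = z') (hS : Subgroup.closure {a', b', c', z'} = ⊤)
    {a b c z : G} (ha : a ^ 3 = 1) (hb : b ^ 3 = 1)
    (hc : c ^ 3 = 1) (hz : z ^ 2 = 1) (haz : a * z = z * a) (hbz : b * z = z * b)
    (hcz : c * z = z * c) (hab : (a * b) ^ 2 = z) (hac : (a * c) ^ 2 = z) (hbc : (b * c) ^ 2 = z) :
    ∃ φ : A →* G, φ a' = a ∧ φ b' = b ∧ φ c' = c ∧ φ z' = z := by
  let S : Set (A × G) := {(a', a), (b', b), (c', c), (z', z)}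
  have m1 : (a', a) ∈ Subgroup.closure S := Subgroup.subset_closure (by simp [S])
  have m2 : (b', b) ∈ Subgroup.closure S := Subgroup.subset_closure (by simp [S])
  have m3 : (c', c) ∈ Subgroup.closure S := Subgroup.subset_closure (by simp [S])
  have m4 : (z', z) ∈ Subgroup.closure S := Subgroup.subset_closure (by simp [S])
  have hD := card_le_333 (G := Subgroup.closure S) (a := ⟨_, m1⟩) (b := ⟨_, m2⟩) (c := ⟨_, m3⟩)
    (z := ⟨_, m4⟩) (Subtype.ext (Prod.ext ha' ha)) (Subtype.ext (Prod.ext hb' hb))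
    (Subtype.ext (Prod.ext hc' hc)) (Subtype.ext (Prod.ext hz' hz))
    (Subtype.ext (Prod.ext haz' haz)) (Subtype.ext (Prod.ext hbz' hbz))
    (Subtype.ext (Prod.ext hcz' hcz)) (Subtype.ext (Prod.ext hab' hab))
    (Subtype.ext (Prod.ext hac' hac)) (Subtype.ext (Prod.ext hbc' hbc))
    (closure_subtype_eq_top _ _ (by rintro s (rfl | rfl | rfl | rfl) <;> simp))
  obtain ⟨φ, hφ⟩ := exists_hom_of_graph (Subgroup.closure S)
    (exists_snd_of_closure S (by simpa [S, Set.image_insert_eq] using hS)) ⟨hD.1, hD.2.trans hA⟩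
  exact ⟨φ, hφ _ _ m1, hφ _ _ m2, hφ _ _ m3, hφ _ _ m4⟩

/-- Universal property of a group of order at least 120 with the binary `(2,3,5)` relations. -/
theorem exists_hom_235 {A G : Type*} [Group A] [Finite A] [Group G] (hA : 120 ≤ Nat.card A)
    {x' y' z' : A} (hx' : x' ^ 3 = 1) (hy' : y' ^ 5 = 1)
    (hz' : z' ^ 2 = 1) (hxz' : x' * z' = z' * x') (hyz' : y' * z' = z' * y')
    (hxy' : (x' * y') ^ 2 = z') (hS : Subgroup.closure {x', y', z'} = ⊤)
    {x y z : G} (hx : x ^ 3 = 1) (hy : y ^ 5 = 1)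
    (hz : z ^ 2 = 1) (hxz : x * z = z * x) (hyz : y * z = z * y) (hxy : (x * y) ^ 2 = z) :
    ∃ φ : A →* G, φ x' = x ∧ φ y' = y ∧ φ z' = z := by
  let S : Set (A × G) := {(x', x), (y', y), (z', z)}
  have m1 : (x', x) ∈ Subgroup.closure S := Subgroup.subset_closure (by simp [S])
  have m2 : (y', y) ∈ Subgroup.closure S := Subgroup.subset_closure (by simp [S])
  have m4 : (z', z) ∈ Subgroup.closure S := Subgroup.subset_closure (by simp [S])
  have hD := card_le_235 (G := Subgroup.closure S) (x := ⟨_, m1⟩) (y := ⟨_, m2⟩)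
    (z := ⟨_, m4⟩) (Subtype.ext (Prod.ext hx' hx)) (Subtype.ext (Prod.ext hy' hy))
    (Subtype.ext (Prod.ext hz' hz))
    (Subtype.ext (Prod.ext hxz' hxz)) (Subtype.ext (Prod.ext hyz' hyz))
    (Subtype.ext (Prod.ext hxy' hxy))
    (closure_subtype_eq_top _ _ (by rintro s (rfl | rfl | rfl) <;> simp))
  obtain ⟨φ, hφ⟩ := exists_hom_of_graph (Subgroup.closure S)
    (exists_snd_of_closure S (by simpa [S, Set.image_insert_eq] using hS)) ⟨hD.1, hD.2.trans hA⟩
  exact ⟨φ, hφ _ _ m1, hφ _ _ m2, hφ _ _ m4⟩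

end Cfsg.Agent.H24
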