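import Cfsg.Agent.H24.Mat2
import Cfsg.Agent.H24.Pres

/-! The group `SL(2,5)`: a computational model, Carmichael triples, universal properties. -/

set_option autoImplicit false

namespace Cfsg.Agent.H24

/-- `SL(2,5)`. -/
abbrev SL5 := Matrix.SpecialLinearGroup (Fin 2) (ZMod 5)

namespace SL5

/-- Entries of an element. -/
def enc (g : SL5) : N4 := ((g 0 0).val, (g 0 1).val, (g 1 0).val, (g 1 1).val)

/-- Product of codes. -/
def mu (x y : N4) : N4 := mul4 5 x y

/-- Code of the inverse. -/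
def iv (x : N4) : N4 := (x.2.2.2, (5 - x.2.1) % 5, (5 - x.2.2.1) % 5, x.1)

/-- Code of `-1`. -/
def ng : N4 := (4, 0, 0, 4)

/-- All codes. -/
def allc : List N4 :=
  (List.range 5).flatMap fun a => (List.range 5).flatMap fun b => (List.range 5).flatMap fun c =>
    ((List.range 5).filter fun d => Nat.beq ((a * d) % 5) ((1 + b * c) % 5)).map fun d => (a, b, c, d)

theorem toMat_enc (g : SL5) : toMat 5 (enc g) = g.1 := by
  ext i j
  fin_cases i <;> fin_cases j <;> simp [toMat, enc]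

theorem red_enc (g : SL5) : red4 5 (enc g) = true := by
  simp [red4, enc, ZMod.val_lt]

theorem enc_injective : Function.Injective enc := fun g h e =>
  Subtype.ext (by rw [← toMat_enc, e, toMat_enc])

theorem enc_inj {g h : SL5} : enc g = enc h ↔ g = h := enc_injective.eq_iff

theorem enc_mul (g h : SL5) : enc (g * h) = mu (enc g) (enc h) := by
  apply toMat_inj (p := 5) (red_enc _)
  · simp [red4, mu, mul4, Nat.mod_lt]
  · rw [mu, toMat_mul4, toMat_enc, toMat_enc, toMat_enc]; rfl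

theorem enc_one : enc 1 = one4 := by decide +kernel

theorem enc_neg_one : enc (-1) = ng := by decide +kernel

theorem enc_mem (g : SL5) : enc g ∈ allc := by
  have h := g.det_coe
  rw [Matrix.det_fin_two] at h
  have key : ∀ a b c d : ZMod 5, a * d - b * c = 1 → (a.val, b.val, c.val, d.val) ∈ allc := by
    decide +kernel
  exact key _ _ _ _ h

theorem enc_inv (g : SL5) : enc g⁻¹ = iv (enc g) := by
  have key : allc.all (fun x => allc.all fun y => !beq4 (mu x y) one4 || beq4 y (iv x)) = true := by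
    decide +kernel
  simp only [List.all_eq_true, Bool.or_eq_true, Bool.not_eq_true', beq4_iff] at key
  rcases key _ (enc_mem g) _ (enc_mem g⁻¹) with h | h
  · rw [← enc_mul, mul_inv_cancel, enc_one, ← Bool.not_eq_true, beq4_iff] at h
    exact absurd rfl h
  · exact h

/-- First generator. -/
def A : SL5 := ⟨!![0, 1; 4, 4], by decide +kernel⟩
/-- Second generator. -/
def B : SL5 := ⟨!![2, 1; 3, 2], by decide +kernel⟩
/-- Third generator. -/
def C : SL5 := ⟨!![4, 3; 3, 0], by decide +kernel⟩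
/-- An element permuting the generators cyclically. -/
def M : SL5 := ⟨!![1, 1; 2, 3], by decide +kernel⟩
/-- An element of order five. -/
def Y : SL5 := ⟨!![1, 0; 1, 1], by decide +kernel⟩

theorem enc_A : enc A = (0, 1, 4, 4) := by decide +kernel
theorem enc_B : enc B = (2, 1, 3, 2) := by decide +kernel
theorem enc_C : enc C = (4, 3, 3, 0) := by decide +kernel

/-- Words for all elements. -/
def words : List (List ℕ) := [[], [0], [1], [2], [0, 0], [1, 0], [2, 0], [0, 1], [1, 1], [2, 1], [0, 2], [1, 2], [2, 2], [1, 0, 0], [2, 0, 0], [0, 1, 0], [1, 1, 0], [2, 1, 0], [0, 2, 0], [1, 2, 0], [2, 2, 0], [0, 0, 1], [1, 0, 1], [2, 0, 1], [0, 1, 1], [2, 1, 1], [0, 2, 1], [2, 2, 1], [0, 0, 2], [1, 0, 2], [0, 1, 2], [1, 1, 2], [0, 2, 2], [1, 2, 2], [0, 1, 0, 0], [1, 1, 0, 0], [2, 1, 0, 0], [0, 2, 0, 0], [1, 2, 0, 0], [2, 2, 0, 0], [0, 0, 1, 0], [1, 0, 1, 0], [2, 0, 1, 0], [0, 1, 1, 0], [2, 1, 1, 0], [0, 2, 1, 0], [2, 2, 1, 0], [0, 0, 2,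 0], [1, 0, 2, 0], [0, 1, 2, 0], [1, 1, 2, 0], [0, 2, 2, 0], [1, 2, 2, 0], [1, 0, 0, 1], [2, 0, 0, 1], [1, 1, 0, 1], [2, 1, 0, 1], [0, 2, 0, 1], [1, 2, 0, 1], [0, 0, 1, 1], [1, 0, 1, 1], [2, 0, 1, 1], [2, 2, 1, 1], [0, 0, 2, 1], [1, 0, 2, 1], [0, 2, 2, 1], [1, 2, 2, 1], [1, 0, 0, 2], [2, 0, 0, 2], [0, 1, 0, 2], [2, 1, 0, 2], [1, 0, 1, 2], [2, 0, 1, 2], [0, 1, 1, 2], [2, 1, 1, 2], [0, 0, 2, 2], [1, 1, 2, 2], [1, 0, 1, 0, 0], [2, 0, 1, 0, 0], [2, 1, 1, 0, 0], [0, 2, 1, 0, 0], [1, 0, 2, 0, 0], [0, 1, 2, 0, 0], [1, 2, 2, 0, 0], [2, 0, 0, 1, 0], [1, 1, 0, 1, 0], [2, 1, 0, 1, 0], [0, 2, 0, 1, 0], [2, 0, 1, 1, 0], [2, 2, 1, 1, 0], [0, 0, 2, 1, 0], [1, 0, 2, 1, 0], [1, 2, 2, 1, 0], [1, 0, 0, 2, 0], [0, 1, 0, 2, 0], [2, 0, 1, 2, 0], [2, 1, 1, 2, 0], [1, 1, 2, 2, 0], [2, 1, 0, 0, 1], [0, 2, 0, 0, 1], [2, 2, 0, 0, 1], [2, 1, 1, 0, 1], [0, 0, 2, 0, 1], [1, 1, 2, 0, 1], [2, 1, 0, 1, 1], [1, 2, 0, 1, 1], [0, 2, 2, 1, 1], [2, 0, 0, 2, 1], [1,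 2, 0, 0, 2], [0, 0, 1, 0, 2], [2, 2, 1, 0, 2], [1, 1, 0, 1, 2], [0, 2, 0, 1, 0, 0], [0, 1, 0, 2, 0, 0], [2, 2, 0, 0, 1, 0], [0, 0, 2, 0, 1, 0], [0, 2, 2, 1, 1, 0], [0, 0, 1, 0, 2, 0], [0, 0, 2, 0, 1, 0, 0], [0, 0, 1, 0, 2, 0, 0]]

theorem closure_ABC : Subgroup.closure {A, B, C} = (⊤ : Subgroup SL5) := by
  rw [eq_top_iff]
  intro g _
  have h1 : ∀ w : List ℕ, ∃ k ∈ Subgroup.closure {A, B, C},
      enc k = evalW 5 [(0, 1, 4, 4), (2, 1, 3, 2), (4, 3, 3, 0)] w := by
    intro w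
    induction w with
    | nil => exact ⟨1, one_mem _, enc_one⟩
    | cons i w ih =>
      obtain ⟨k, hk, hk'⟩ := ih
      have : ∃ s ∈ Subgroup.closure {A, B, C},
          enc s = [(0, 1, 4, 4), (2, 1, 3, 2), (4, 3, 3, 0)].getD i one4 := by
        rcases i with _ | _ | _ | i
        · exact ⟨A, Subgroup.subset_closure (by simp), enc_A⟩
        · exact ⟨B, Subgroup.subset_closure (by simp), enc_B⟩
        · exact ⟨C, Subgroup.subset_closure (by simp), enc_C⟩
        · exact ⟨1, one_mem _, enc_one⟩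
      obtain ⟨s, hs, hs'⟩ := this
      refine ⟨s * k, mul_mem hs hk, ?_⟩
      rw [enc_mul, hs', hk']
      rfl
  have h2 : allc.all (fun x => mem4 x
      (words.map (evalW 5 [(0, 1, 4, 4), (2, 1, 3, 2), (4, 3, 3, 0)]))) = true := by
    decide +kernel
  simp only [List.all_eq_true, mem4_iff, List.mem_map] at h2
  obtain ⟨w, -, hw⟩ := h2 _ (enc_mem g)
  obtain ⟨k, hk, hk'⟩ := h1 w
  rwa [← enc_injective (hk'.trans hw)]

theorem exists_enc {x : N4} (hx : x ∈ allc) : ∃ g, enc g = x := by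
  have key : allc.all (fun x => red4 5 x &&
      Nat.beq ((x.1 * x.2.2.2) % 5) ((1 + x.2.1 * x.2.2.1) % 5)) = true := by decide +kernel
  simp only [List.all_eq_true, Bool.and_eq_true, Nat.beq_eq] at key
  obtain ⟨h1, h2⟩ := key x hx
  refine ⟨⟨toMat 5 x, ?_⟩, toMat_inj (red_enc _) h1 (toMat_enc _)⟩
  rw [Matrix.det_fin_two]
  have h3 := (ZMod.natCast_eq_natCast_iff' _ _ 5).mpr h2
  simp only [toMat, Matrix.of_apply, Matrix.cons_val', Matrix.cons_val_zero, Matrix.cons_val_one,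
    Matrix.cons_val_fin_one]
  push_cast at h3
  linear_combination h3

theorem card_eq : Nat.card SL5 = 120 := by
  have h1 : Set.range enc = (allc.toFinset : Set N4) := by
    ext x
    simp only [Set.mem_range, List.coe_toFinset, Set.mem_ofPred_eq]
    exact ⟨by rintro ⟨g, rfl⟩; exact enc_mem g, exists_enc⟩
  rw [← Nat.card_range_of_injective enc_injective, h1, Nat.card_coe_set_eq, Set.ncard_coe_finset,
    List.toFinset_card_of_nodup (by decide +kernel)]
  decide +kernel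

theorem A3 : A ^ 3 = 1 := by decide +kernel
theorem B3 : B ^ 3 = 1 := by decide +kernel
theorem C3 : C ^ 3 = 1 := by decide +kernel
theorem AB : (A * B) ^ 2 = -1 := by decide +kernel
theorem AC : (A * C) ^ 2 = -1 := by decide +kernel
theorem BC : (B * C) ^ 2 = -1 := by decide +kernel
theorem ABC : (A⁻¹ * B * C) ^ 10 = 1 := by decide +kernel
theorem M3 : M ^ 3 = 1 := by decide +kernel
theorem MA : M * A * M⁻¹ = B := by decide +kernel
theorem MB : M * B * M⁻¹ = C := by decide +kernel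
theorem MC : M * C * M⁻¹ = A := by decide +kernel
theorem Y5 : Y ^ 5 = 1 := by decide +kernel
theorem AY : (A * Y) ^ 2 = -1 := by decide +kernel
theorem neg_one_ne_one : (-1 : SL5) ≠ 1 := by decide +kernel
theorem A_ne_one : A ≠ 1 := by decide +kernel
theorem B_ne_one : B ≠ 1 := by decide +kernel
theorem C_ne_one : C ≠ 1 := by decide +kernel
theorem Y_ne_one : Y ≠ 1 := by decide +kernel

theorem closure_AY : Subgroup.closure {A, Y} = (⊤ : Subgroup SL5) := by
  rw [eq_top_iff, ← closure_ABC, Subgroup.closure_le]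
  have hA : A ∈ Subgroup.closure {A, Y} := Subgroup.subset_closure (by simp)
  have hY : Y ∈ Subgroup.closure {A, Y} := Subgroup.subset_closure (by simp)
  rintro s (rfl | rfl | rfl)
  · exact hA
  · rw [show B = Y ^ 3 * A * Y ^ 2 by decide +kernel]
    exact mul_mem (mul_mem (pow_mem hY _) hA) (pow_mem hY _)
  · rw [show C = Y ^ 4 * A * Y ^ 2 * A ^ 2 by decide +kernel]
    exact mul_mem (mul_mem (mul_mem (pow_mem hY _) hA) (pow_mem hY _)) (pow_mem hA _)

/-- Universal property with respect to Carmichael triples. -/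
theorem exists_hom {G : Type*} [Group G] {a b c z : G} (ha : a ^ 3 = 1) (hb : b ^ 3 = 1)
    (hc : c ^ 3 = 1) (hz : z ^ 2 = 1) (haz : a * z = z * a) (hbz : b * z = z * b)
    (hcz : c * z = z * c) (hab : (a * b) ^ 2 = z) (hac : (a * c) ^ 2 = z) (hbc : (b * c) ^ 2 = z) :
    ∃ φ : SL5 →* G, φ A = a ∧ φ B = b ∧ φ C = c ∧ φ (-1) = z :=
  exists_hom_333 card_eq.ge A3 B3 C3 (by simp) (by simp) (by simp) (by simp) AB AC BC
    (by
      rw [eq_top_iff, ← closure_ABC]
      apply Subgroup.closure_mono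
      rintro s (rfl | rfl | rfl) <;> simp)
    ha hb hc hz haz hbz hcz hab hac hbc

/-- Universal property with respect to the binary `(2,3,5)` relations. -/
theorem exists_hom' {G : Type*} [Group G] {x y z : G} (hx : x ^ 3 = 1) (hy : y ^ 5 = 1)
    (hz : z ^ 2 = 1) (hxz : x * z = z * x) (hyz : y * z = z * y) (hxy : (x * y) ^ 2 = z) :
    ∃ φ : SL5 →* G, φ A = x ∧ φ Y = y ∧ φ (-1) = z :=
  exists_hom_235 card_eq.ge A3 Y5 (by simp) (by simp) (by simp) AY
    (by
      rw [eq_top_iff, ← closure_AY]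
      apply Subgroup.closure_mono
      rintro s (rfl | rfl) <;> simp)
    hx hy hz hxz hyz hxy

theorem eq_of_commute {g : SL5} (hA : g * A = A * g) (hB : g * B = B * g) : g = 1 ∨ g = -1 := by
  have key : allc.all (fun x => !(beq4 (mu x (0, 1, 4, 4)) (mu (0, 1, 4, 4) x) &&
      beq4 (mu x (2, 1, 3, 2)) (mu (2, 1, 3, 2) x)) || beq4 x one4 || beq4 x ng) = true := by
    decide +kernel
  simp only [List.all_eq_true, Bool.or_eq_true, Bool.not_eq_true', beq4_iff] at key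
  rcases key _ (enc_mem g) with (h | h) | h
  · rw [← enc_A, ← enc_B, ← enc_mul, ← enc_mul, ← enc_mul, ← enc_mul, hA, hB] at h
    rw [beq4_iff.mpr rfl, beq4_iff.mpr rfl] at h
    exact absurd h (by decide)
  · exact Or.inl (enc_injective (h.trans enc_one.symm))
  · exact Or.inr (enc_injective (h.trans enc_neg_one.symm))

theorem neg_one_mem_of_normal (N : Subgroup SL5) [hN : N.Normal] (h : N ≠ ⊥) : -1 ∈ N := by
  obtain ⟨⟨g, hg⟩, hg1⟩ := Subgroup.ne_bot_iff_exists_ne_one.mp h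
  have key : allc.all (fun x => beq4 x one4 || beq4 x ng || allc.any fun y =>
      beq4 (mu (mu x (mu (mu y x) (iv y))) (mu x (mu (mu y x) (iv y)))) ng ||
      beq4 (mu (mu x (mu (mu y x) (iv y))) (mu (mu x (mu (mu y x) (iv y)))
        (mu x (mu (mu y x) (iv y))))) ng) = true := by
    decide +kernel
  simp only [List.all_eq_true, Bool.or_eq_true, beq4_iff, List.any_eq_true] at key
  rcases key _ (enc_mem g) with (h | h) | ⟨y, hy, h⟩
  · exact absurd (Subtype.ext (enc_injective (h.trans enc_one.symm))) hg1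
  · rwa [← enc_injective (h.trans enc_neg_one.symm)]
  · obtain ⟨k, rfl⟩ := exists_enc hy
    have hm : g * (k * g * k⁻¹) ∈ N := mul_mem hg (hN.conj_mem g hg k)
    simp only [← enc_inv, ← enc_mul, ← enc_neg_one, enc_inj] at h
    rcases h with h | h
    · rw [← h]; exact mul_mem hm hm
    · rw [← h]; exact mul_mem hm (mul_mem hm hm)

theorem injective_of_ne {G : Type*} [Group G] (φ : SL5 →* G) (h : φ (-1) ≠ 1) :
    Function.Injective φ := by
  rw [← MonoidHom.ker_eq_bot_iff]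
  by_contra h1
  exact h (neg_one_mem_of_normal φ.ker h1)

/-- The Carmichael triples form two orbits under conjugation. -/
theorem triple_cases {a b c : SL5} (ha : a ^ 3 = 1) (hb : b ^ 3 = 1) (hc : c ^ 3 = 1)
    (hab : (a * b) ^ 2 = -1) (hac : (a * c) ^ 2 = -1) (hbc : (b * c) ^ 2 = -1) :
    ∃ s : SL5, (s * A * s⁻¹ = a ∧ s * B * s⁻¹ = b ∧ s * C * s⁻¹ = c) ∨
      (s * B * s⁻¹ = a ∧ s * A * s⁻¹ = b ∧ s * C * s⁻¹ = c) := by
  have key : (allc.filter fun x => beq4 (mu (mu x x) x) one4).all (fun a =>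
      (allc.filter fun x => beq4 (mu (mu x x) x) one4 && beq4 (mu (mu a x) (mu a x)) ng).all fun b =>
      (allc.filter fun x => beq4 (mu (mu x x) x) one4 && beq4 (mu (mu a x) (mu a x)) ng &&
        beq4 (mu (mu b x) (mu b x)) ng).all fun c =>
      allc.any fun s => beq4 (mu (mu s (4, 3, 3, 0)) (iv s)) c &&
        ((beq4 (mu (mu s (0, 1, 4, 4)) (iv s)) a && beq4 (mu (mu s (2, 1, 3, 2)) (iv s)) b) ||
         (beq4 (mu (mu s (2, 1, 3, 2)) (iv s)) a && beq4 (mu (mu s (0, 1, 4, 4)) (iv s)) b)))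
      = true := by
    decide +kernel
  simp only [List.all_eq_true, List.mem_filter, Bool.and_eq_true, Bool.or_eq_true, beq4_iff,
    List.any_eq_true, and_imp] at key
  have e3 : ∀ x : SL5, x ^ 3 = 1 → mu (mu (enc x) (enc x)) (enc x) = one4 := fun x hx => by
    rw [← enc_mul, ← enc_mul, ← pow_three', hx, enc_one]
  have e2 : ∀ x y : SL5, (x * y) ^ 2 = -1 → mu (mu (enc x) (enc y)) (mu (enc x) (enc y)) = ng :=
    fun x y h => by rw [← enc_mul, ← enc_mul, ← sq, h, enc_neg_one]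
  obtain ⟨y, hy, h1, h2⟩ := key _ (enc_mem a) (e3 a ha) _ (enc_mem b) (e3 b hb) (e2 _ _ hab)
    _ (enc_mem c) (e3 c hc) (e2 _ _ hac) (e2 _ _ hbc)
  obtain ⟨s, rfl⟩ := exists_enc hy
  simp only [← enc_A, ← enc_B, ← enc_C, ← enc_inv, ← enc_mul, enc_inj] at h1 h2
  exact ⟨s, h2.imp (fun h => ⟨h.1, h.2, h1⟩) (fun h => ⟨h.1, h.2, h1⟩)⟩

theorem commutator_eq_top : commutator SL5 = ⊤ := by
  rw [eq_top_iff, ← closure_ABC, Subgroup.closure_le]
  have hA : A ∈ commutator SL5 := by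
    have key : allc.any (fun x => allc.any fun y =>
        beq4 (mu (mu (mu x y) (iv x)) (iv y)) (0, 1, 4, 4)) = true := by decide +kernel
    simp only [List.any_eq_true, beq4_iff] at key
    obtain ⟨x, hx, y, hy, h⟩ := key
    obtain ⟨g, rfl⟩ := exists_enc hx
    obtain ⟨k, rfl⟩ := exists_enc hy
    simp only [← enc_A, ← enc_inv, ← enc_mul, enc_inj] at h
    rw [← h]
    exact Subgroup.commutator_mem_commutator (Subgroup.mem_top g) (Subgroup.mem_top k)
  have hB : B ∈ commutator SL5 := MA ▸ Subgroup.Normal.conj_mem inferInstance _ hA M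
  have hC : C ∈ commutator SL5 := MB ▸ Subgroup.Normal.conj_mem inferInstance _ hB M
  rintro s (rfl | rfl | rfl)
  exacts [hA, hB, hC]

end SL5

end Cfsg.Agent.H24
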