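import Cfsg.Agent.H24.SL5

/-! The projection `SL(2,5) → A₅` and words in the generators. -/

set_option autoImplicit false

namespace Cfsg.Agent.H24

namespace SL5

/-- Evaluate a word in three generators. -/
def ev {G : Type*} [Group G] (a b c : G) (w : List ℕ) : G :=
  w.foldr (fun i acc => [a, b, c].getD i 1 * acc) 1

theorem map_ev {G H : Type*} [Group G] [Group H] (φ : G →* H) (a b c : G) (w : List ℕ) :
    φ (ev a b c w) = ev (φ a) (φ b) (φ c) w := by
  induction w with
  | nil => exact map_one φ
  | cons i w ih =>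
    change φ ([a, b, c].getD i 1 * ev a b c w) = [φ a, φ b, φ c].getD i 1 * ev _ _ _ w
    rw [map_mul, ih]
    rcases i with _ | _ | _ | i <;> simp

theorem enc_ev (a b c : SL5) (w : List ℕ) :
    enc (ev a b c w) = evalW 5 [enc a, enc b, enc c] w := by
  induction w with
  | nil => exact enc_one
  | cons i w ih =>
    change enc ([a, b, c].getD i 1 * ev a b c w) =
      mul4 5 ([enc a, enc b, enc c].getD i one4) (evalW 5 _ w)
    rw [enc_mul, ih]
    rcases i with _ | _ | _ | i <;> simp [mu, enc_one]

theorem exists_word (g : SL5) : ∃ w ∈ words, g = ev A B C w := by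
  have h2 : allc.all (fun x => mem4 x
      (words.map (evalW 5 [(0, 1, 4, 4), (2, 1, 3, 2), (4, 3, 3, 0)]))) = true := by
    decide +kernel
  simp only [List.all_eq_true, mem4_iff, List.mem_map] at h2
  obtain ⟨w, hw, hw'⟩ := h2 _ (enc_mem g)
  refine ⟨w, hw, enc_injective ?_⟩
  rw [enc_ev, enc_A, enc_B, enc_C, hw']

/-- Image of the first generator. -/
def pa : Equiv.Perm (Fin 5) := Equiv.swap 0 4 * Equiv.swap 0 3
/-- Image of the second generator. -/
def pb : Equiv.Perm (Fin 5) := Equiv.swap 1 4 * Equiv.swap 1 3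
/-- Image of the third generator. -/
def pc : Equiv.Perm (Fin 5) := Equiv.swap 2 4 * Equiv.swap 2 3

theorem exists_proj : ∃ π : SL5 →* Equiv.Perm (Fin 5),
    π A = pa ∧ π B = pb ∧ π C = pc ∧ π (-1) = 1 :=
  exists_hom (by decide) (by decide) (by decide) (by simp) (by simp) (by simp) (by simp)
    (by decide) (by decide) (by decide)

/-- The projection onto the alternating group. -/
noncomputable def proj : SL5 →* Equiv.Perm (Fin 5) := exists_proj.choose

theorem proj_A : proj A = pa := exists_proj.choose_spec.1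
theorem proj_B : proj B = pb := exists_proj.choose_spec.2.1
theorem proj_C : proj C = pc := exists_proj.choose_spec.2.2.1
theorem proj_neg_one : proj (-1) = 1 := exists_proj.choose_spec.2.2.2

theorem proj_eq_one_iff {g : SL5} : proj g = 1 ↔ g = 1 ∨ g = -1 := by
  constructor
  · intro h
    obtain ⟨w, hw, rfl⟩ := exists_word g
    rw [map_ev, proj_A, proj_B, proj_C] at h
    have key : words.all (fun w => !(decide (ev pa pb pc w = 1)) ||
        beq4 (evalW 5 [(0, 1, 4, 4), (2, 1, 3, 2), (4, 3, 3, 0)] w) one4 ||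
        beq4 (evalW 5 [(0, 1, 4, 4), (2, 1, 3, 2), (4, 3, 3, 0)] w) ng) = true := by
      decide +kernel
    simp only [List.all_eq_true, Bool.or_eq_true, Bool.not_eq_true', decide_eq_false_iff_not,
      beq4_iff] at key
    rw [← enc_A, ← enc_B, ← enc_C] at key
    simp only [← enc_ev, ← enc_one, ← enc_neg_one, enc_inj] at key
    rcases key w hw with (h1 | h1) | h1
    · exact absurd h h1
    · exact Or.inl h1
    · exact Or.inr h1
  · rintro (rfl | rfl)
    exacts [map_one _, proj_neg_one]

theorem proj_ker : proj.ker = Subgroup.zpowers (-1) := by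
  ext g
  rw [MonoidHom.mem_ker, proj_eq_one_iff]
  constructor
  · rintro (rfl | rfl)
    exacts [one_mem _, Subgroup.mem_zpowers _]
  · rintro ⟨n, rfl⟩
    rcases Int.even_or_odd n with h | h
    · exact Or.inl h.neg_one_zpow
    · exact Or.inr h.neg_one_zpow

theorem orderOf_neg_one : orderOf (-1 : SL5) = 2 :=
  orderOf_eq_prime (by simp) neg_one_ne_one

theorem proj_range : proj.range = alternatingGroup (Fin 5) := by
  apply Subgroup.eq_of_le_of_card_ge
  · rw [MonoidHom.range_eq_map, ← closure_ABC, MonoidHom.map_closure, Subgroup.closure_le]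
    rintro _ ⟨s, rfl | rfl | rfl, rfl⟩
    · rw [proj_A]; exact Equiv.Perm.mem_alternatingGroup.mpr (by decide)
    · rw [proj_B]; exact Equiv.Perm.mem_alternatingGroup.mpr (by decide)
    · rw [proj_C]; exact Equiv.Perm.mem_alternatingGroup.mpr (by decide)
  · have h1 := proj.ker.card_mul_index
    rw [Subgroup.index_ker, proj_ker, Nat.card_zpowers, orderOf_neg_one, card_eq] at h1
    have h2 := two_mul_nat_card_alternatingGroup (α := Fin 5)
    rw [Nat.card_perm, Nat.card_eq_fintype_card (α := Fin 5), Fintype.card_fin] at h2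
    simp only [Nat.factorial] at h2
    omega

theorem card_A5 : Nat.card (alternatingGroup (Fin 5)) = 60 := by
  have h2 := two_mul_nat_card_alternatingGroup (α := Fin 5)
  rw [Nat.card_perm, Nat.card_eq_fintype_card (α := Fin 5), Fintype.card_fin] at h2
  simp only [Nat.factorial] at h2
  omega

/-- The projection as a map onto `A₅`. -/
noncomputable def projA : SL5 →* alternatingGroup (Fin 5) :=
  proj.codRestrict _ (fun g => proj_range ▸ ⟨g, rfl⟩)

theorem projA_surjective : Function.Surjective projA := by
  rintro ⟨σ, hσ⟩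
  rw [← proj_range] at hσ
  obtain ⟨g, rfl⟩ := hσ
  exact ⟨g, rfl⟩

theorem projA_eq_one_iff {g : SL5} : projA g = 1 ↔ g = 1 ∨ g = -1 := by
  rw [← proj_eq_one_iff, Subtype.ext_iff]; rfl

theorem not_isSolvable : ¬ Group.IsSolvable SL5 := by
  intro h
  have : Nontrivial SL5 := ⟨⟨_, _, neg_one_ne_one⟩⟩
  exact (Group.IsSolvable.commutator_lt_top_of_nontrivial SL5).ne commutator_eq_top

theorem eq_one_of_commute_perm {σ : Equiv.Perm (Fin 5)} (ha : σ * pa = pa * σ)
    (hb : σ * pb = pb * σ) : σ = 1 := by
  revert σ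
  decide +kernel

end SL5

end Cfsg.Agent.H24
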