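import Mathlib
import Cfsg.Agent.H81.Frob

set_option autoImplicit false

namespace Cfsg.Agent.H24

section
variable {G : Type*} [Group G] {α : Type*} [MulAction G α]

theorem sharp_iff : (∀ x : Fin 2 ↪ α, MulAction.stabilizer G x = ⊥) ↔
    ∀ (g : G) (a b : α), a ≠ b → g • a = a → g • b = b → g = 1 := by
  constructor
  · intro h g a b hab ha hb
    have := h (Function.Embedding.embFinTwo hab)
    rw [← Subgroup.mem_bot, ← this, MulAction.mem_stabilizer_iff]
    ext i
    fin_cases i
    · exact ha
    · exact hb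
  · intro h x
    rw [eq_bot_iff]
    intro g hg
    exact h g (x 0) (x 1) (x.injective.ne (by decide))
      (congrArg (fun f : Fin 2 ↪ α => f 0) hg) (congrArg (fun f : Fin 2 ↪ α => f 1) hg)

theorem card_of_sharp_two [Fintype α] [MulAction.IsMultiplyPretransitive G α 2]
    (hsharp : ∀ x : Fin 2 ↪ α, MulAction.stabilizer G x = ⊥) (h2 : 2 ≤ Fintype.card α) :
    Nat.card G = Fintype.card α * (Fintype.card α - 1) := by
  classical
  obtain ⟨x⟩ : Nonempty (Fin 2 ↪ α) := Function.Embedding.nonempty_of_card_le (by simpa using h2)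
  have := MulAction.index_stabilizer_of_transitive G x
  rw [hsharp x, Subgroup.index_bot, Nat.card_eq_fintype_card (α := Fin 2 ↪ α),
    Fintype.card_embedding_eq] at this
  rw [this]
  simp [Nat.descFactorial, mul_comm]

theorem card_fpf_of_sharp_two [Finite G] [Fintype α] [MulAction.IsMultiplyPretransitive G α 2]
    (hsharp : ∀ x : Fin 2 ↪ α, MulAction.stabilizer G x = ⊥) (h2 : 2 ≤ Fintype.card α) :
    Nat.card {g : G // ∀ a : α, g • a ≠ a} = Fintype.card α - 1 := by
  classical
  have := Fintype.ofFinite G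
  have : MulAction.IsPretransitive G α := MulAction.isPretransitive_of_is_two_pretransitive
  have hG := card_of_sharp_two hsharp h2
  set n := Fintype.card α with hn
  have hst : ∀ a : α, (Finset.univ.filter fun g : G => g • a = a ∧ g ≠ 1).card = n - 2 := by
    intro a
    have h1 := (MulAction.stabilizer G a).card_mul_index
    rw [MulAction.index_stabilizer_of_transitive, Nat.card_eq_fintype_card (α := α), hG, ← hn,
      mul_comm] at h1
    have h3 := Nat.eq_of_mul_eq_mul_left (by omega) h1
    have h4 : (Finset.univ.filter fun g : G => g • a = a).card = n - 1 := by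
      rw [← h3, Nat.card_eq_fintype_card, Fintype.card_subtype]
      rfl
    have h5 : (Finset.univ.filter fun g : G => g • a = a ∧ g ≠ 1) =
        (Finset.univ.filter fun g : G => g • a = a).erase 1 := by
      ext g
      simp [and_comm]
    rw [h5, Finset.card_erase_of_mem (by simp), h4]
    rfl
  have hU : (Finset.univ.biUnion fun a : α =>
      Finset.univ.filter fun g : G => g • a = a ∧ g ≠ 1).card = n * (n - 2) := by
    rw [Finset.card_biUnion]
    · simp [hst, hn]
    · intro a _ b _ hab
      rw [Function.onFun, Finset.disjoint_left]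
      intro g hg hg'
      simp only [Finset.mem_filter, Finset.mem_univ, true_and] at hg hg'
      exact hg.2 (sharp_iff.mp hsharp g a b hab hg.1 hg'.1)
  obtain ⟨a0⟩ : Nonempty α := Fintype.card_pos_iff.mp (by omega)
  have hC : (Finset.univ.filter fun g : G => ∀ a : α, g • a ≠ a) =
      (insert 1 (Finset.univ.biUnion fun a : α =>
      Finset.univ.filter fun g : G => g • a = a ∧ g ≠ 1))ᶜ := by
    ext g
    simp only [Finset.mem_filter, Finset.mem_univ, true_and, Finset.mem_compl, Finset.mem_insert,
      Finset.mem_biUnion, not_or, not_exists, not_and, not_not]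
    constructor
    · intro h
      refine ⟨?_, fun a ha => absurd ha (h a)⟩
      rintro rfl
      exact h a0 (one_smul _ _)
    · intro h a ha
      exact h.1 (h.2 a ha)
  rw [Nat.card_eq_fintype_card, Fintype.card_subtype, hC, Finset.card_compl,
    Finset.card_insert_of_notMem (by simp), hU, ← Nat.card_eq_fintype_card, hG]
  obtain ⟨m, hm⟩ : ∃ m, n = m + 2 := ⟨n - 2, by omega⟩
  rw [hm]
  simp only [Nat.add_sub_cancel, show m + 2 - 1 = m + 1 from rfl]
  have : (m + 2) * (m + 1) = (m + 2) * m + 1 + (m + 1) := by ring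
  omega

/-- The kernel of a finite sharply doubly transitive group. -/
theorem exists_kernel_of_sharp_two [Finite G] [Fintype α] [MulAction.IsMultiplyPretransitive G α 2]
    (hsharp : ∀ x : Fin 2 ↪ α, MulAction.stabilizer G x = ⊥) (h2 : 2 ≤ Fintype.card α) :
    ∃ K : Subgroup G, (∀ g, g ∈ K ↔ g = 1 ∨ ∀ a : α, g • a ≠ a) ∧ Nat.card K = Fintype.card α ∧
      K.Normal ∧ (∀ x ∈ K, ∀ y ∈ K, x * y = y * x) ∧
      (∀ x ∈ K, ∀ y ∈ K, x ≠ 1 → y ≠ 1 → IsConj x y) := by
  classical
  have hG := card_of_sharp_two hsharp h2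
  have hF := card_fpf_of_sharp_two hsharp h2
  set n := Fintype.card α with hn
  obtain ⟨a0⟩ : Nonempty α := Fintype.card_pos_iff.mp (by omega)
  let F : Set G := {g | ∀ a : α, g • a ≠ a}
  have hF' : F.ncard = n - 1 := hF
  have h1F : (1 : G) ∉ F := fun h => h a0 (one_smul _ _)
  have hK : (insert 1 F).ncard = n := by
    rw [Set.ncard_insert_of_notMem h1F, hF']
    omega
  have hconj : ∀ x ∈ F, ∀ y, IsConj x y → y ∈ F := by
    intro x hx y hxy a ha
    obtain ⟨g, rfl⟩ := isConj_iff.mp hxy
    apply hx (g⁻¹ • a)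
    rw [mul_smul, mul_smul, ← eq_inv_smul_iff] at ha
    exact ha
  have key : ∀ k ∈ F, ((Subgroup.centralizer {k} : Subgroup G) : Set G) = insert 1 F ∧
      {y | IsConj k y} = F := by
    intro k hk
    have h1 : ((Subgroup.centralizer {k} : Subgroup G) : Set G) ⊆ insert 1 F := by
      intro g hg
      by_contra hn
      simp only [Set.mem_insert_iff, not_or, F, Set.mem_setOf_eq, not_forall, not_not] at hn
      obtain ⟨hg1, a, ha⟩ := hn
      apply hg1
      apply sharp_iff.mp hsharp g a (k • a) (hk a).symm ha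
      rw [← mul_smul, Subgroup.mem_centralizer_singleton_iff.mp hg, mul_smul, ha]
    have h3 : {y | IsConj k y} ⊆ F := hconj k hk
    have h4 := H81.card_isConj_mul_card_centralizer k
    have h5 := Set.ncard_le_ncard h1
    have h6 := Set.ncard_le_ncard h3
    change {y | IsConj k y}.ncard * ((Subgroup.centralizer {k} : Subgroup G) : Set G).ncard = _
      at h4
    rw [hG] at h4
    rw [hK] at h5
    rw [hF'] at h6
    set u := {y | IsConj k y}.ncard
    set v := ((Subgroup.centralizer {k} : Subgroup G) : Set G).ncard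
    have hn1 : 0 < n - 1 := by omega
    refine ⟨Set.eq_of_subset_of_ncard_le h1 ?_, Set.eq_of_subset_of_ncard_le h3 ?_⟩
    · rw [hK]
      by_contra h
      have : u * v < n * (n - 1) := by
        rw [mul_comm n]
        exact lt_of_le_of_lt (Nat.mul_le_mul_right v h6) ((Nat.mul_lt_mul_left hn1).mpr (by omega))
      omega
    · rw [hF']
      by_contra h
      have : u * v < n * (n - 1) := by
        rw [mul_comm n]
        exact lt_of_le_of_lt (Nat.mul_le_mul_left u h5)
          ((Nat.mul_lt_mul_right (by omega)).mpr (by omega))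
      omega
  obtain ⟨k, hk⟩ : F.Nonempty := Set.nonempty_of_ncard_ne_zero (by omega)
  have hmem : ∀ g, g ∈ Subgroup.centralizer {k} ↔ g = 1 ∨ g ∈ F := by
    intro g
    rw [← SetLike.mem_coe, (key k hk).1]
    rfl
  refine ⟨Subgroup.centralizer {k}, hmem, ?_, ⟨?_⟩, ?_, ?_⟩
  · change ((Subgroup.centralizer {k} : Subgroup G) : Set G).ncard = _
    rw [(key k hk).1, hK]
  · intro x hx g
    rw [hmem] at hx ⊢
    rcases hx with rfl | hx
    · simp
    · exact Or.inr (hconj x hx _ (isConj_iff.mpr ⟨g, rfl⟩))
  · intro x hx y hy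
    rcases (hmem y).mp hy with rfl | hy
    · simp
    rw [← SetLike.mem_coe, (key k hk).1, ← (key y hy).1] at hx
    exact Subgroup.mem_centralizer_singleton_iff.mp hx
  · intro x hx y hy hx1 hy1
    have hx' := ((hmem x).mp hx).resolve_left hx1
    have hy' := ((hmem y).mp hy).resolve_left hy1
    rw [← (key x hx').2] at hy'
    exact hy'

theorem isPretransitive_of_card_eq [Finite G] [Fintype α] (K : Subgroup G)
    (hK : ∀ g ∈ K, g = 1 ∨ ∀ a : α, g • a ≠ a) (hc : Nat.card K = Fintype.card α) :
    (∀ a : α, MulAction.stabilizer K a = ⊥) ∧ MulAction.IsPretransitive K α := by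
  have h1 : ∀ a : α, MulAction.stabilizer K a = ⊥ := by
    intro a
    rw [eq_bot_iff]
    intro g hg
    rcases hK g g.2 with h | h
    · exact Subtype.ext h
    · exact absurd hg (h a)
  refine ⟨h1, ?_⟩
  rcases isEmpty_or_nonempty α with h | ⟨⟨a⟩⟩
  · exact ⟨fun x => isEmptyElim x⟩
  rw [MulAction.isPretransitive_iff_orbit_eq_univ a]
  apply Set.eq_of_subset_of_ncard_le (Set.subset_univ _)
  rw [← MulAction.index_stabilizer, h1, Subgroup.index_bot, hc, Set.ncard_univ,
    Nat.card_eq_fintype_card]

end

end Cfsg.Agent.H24
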