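import Cfsg.Agent.H24.Trans5
import Cfsg.Agent.H24.FpfSolv

/-! Groups that are regular on the non-zero vectors. -/

set_option autoImplicit false

namespace Cfsg.Agent.H24

open Subgroup Module
open scoped commutatorElement

variable {G : Type*} [Group G]

theorem quat_exp {n : ℕ} (e : G ≃* QuaternionGroup (2 ^ n)) (h1 : ¬ ∀ a b : G, a * b = b * a)
    (h2 : ∀ a b c : G, ⁅a, b⁆ * c = c * ⁅a, b⁆) : n = 1 := by
  have h3 := congrArg e (h2 (e.symm (.a 1)) (e.symm (.xa 0)) (e.symm (.xa 0)))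
  simp only [commutatorElement_def, map_mul, map_inv, MulEquiv.apply_symm_apply] at h3
  change QuaternionGroup.xa _ = QuaternionGroup.xa _ at h3
  have h4 : ((4 : ℕ) : ZMod (2 * 2 ^ n)) = 0 := by
    have := QuaternionGroup.xa.inj h3
    have h0 := ZMod.natCast_self (2 * 2 ^ n)
    push_cast at this h0 ⊢
    linear_combination -2 * h0 - this
  rw [ZMod.natCast_eq_zero_iff, ← pow_succ', show 4 = 2 ^ 2 from rfl,
    Nat.pow_dvd_pow_iff_le_right one_lt_two] at h4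
  obtain rfl | rfl : n = 0 ∨ n = 1 := by omega
  · refine absurd (fun a b => e.injective ?_) h1
    rw [map_mul, map_mul]
    exact (by decide : ∀ a b : QuaternionGroup 1, a * b = b * a) _ _
  · rfl

theorem MinNA.q8_or [Finite G] {A N : Subgroup G} (hN : MinNA A N) (hA : MaxAb A) (h : Fpf G) :
    (Nonempty (N ≃* QuaternionGroup 2) ∧ IsPGroup 2 N ∧ (∀ x ∈ N, ∀ y ∈ N, ⁅x, y⁆ ∈ A) ∧
      ∀ x ∈ N, x ^ 2 ∈ A) ∨ Nonempty (N ≃* SL5) := by
  rcases hN.cases hA with h1 | ⟨r, hr, h1, h2, h3⟩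
  · right
    have : Nontrivial N := (nontrivial_iff_ne_bot N).2 (by rintro rfl; exact hN.nc inferInstance)
    refine (h.subgroup N).equiv_SL5_of_perfect (map_injective N.subtype_injective ?_)
    rw [commutator_def, map_commutator, ← MonoidHom.range_eq_map, range_subtype, h1]
  · have := Fact.mk hr
    rcases (h.subgroup N).cyclic_or_quaternion h1 with h4 | ⟨rfl, n, ⟨e⟩⟩
    · exact absurd (IsCyclic.isMulCommutative) hN.nc
    · obtain rfl := quat_exp e (fun h4 => hN.nc ⟨⟨h4⟩⟩) fun a b c =>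
        Subtype.ext (hN.le c.2 _ (h2 a a.2 b b.2))
      exact Or.inl ⟨⟨e⟩, h1, h2, h3⟩

theorem MinNA.exists_four [Finite G] {A N : Subgroup G} (hN : MinNA A N) (hA : MaxAb A)
    (h : Fpf G) : ∃ x ∈ N, orderOf x = 4 := by
  rcases hN.q8_or hA h with ⟨⟨e⟩, -⟩ | ⟨⟨e⟩⟩
  · exact ⟨_, (e.symm (.xa 0)).2, by
      rw [Subgroup.orderOf_coe, e.symm.orderOf_eq, QuaternionGroup.orderOf_xa]⟩
  · refine ⟨_, (e.symm (SL5.A * SL5.B)).2, ?_⟩
    rw [Subgroup.orderOf_coe, e.symm.orderOf_eq]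
    refine orderOf_eq_prime_pow (p := 2) (n := 1) ?_ ?_
    · rw [pow_one, SL5.AB]; exact SL5.neg_one_ne_one
    · rw [show 2 ^ (1 + 1) = 2 * 2 from rfl, pow_mul, SL5.AB]; simp

theorem prod_equiv [Finite G] {S : Type*} [Group S] [Finite S] (φ : S →* G)
    (hφ : Function.Injective φ) {A : Subgroup G} (hA : A ≤ centralizer (φ.range : Set G)) {n : ℕ}
    [hn : Fact n.Prime] (h1 : n ∣ Nat.card A) (h2 : ¬ n ∣ Nat.card S)
    (h3 : Nat.card G = Nat.card S * n) : Nonempty (G ≃* S × Multiplicative (ZMod n)) := by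
  obtain ⟨y, hy⟩ := exists_prime_orderOf_dvd_card' n h1
  have h4 : Nat.card (Multiplicative (ZMod n)) = n := by simp
  let e : Multiplicative (ZMod n) ≃* zpowers y := mulEquivOfPrimeCardEq h4 (by rw [Nat.card_zpowers, hy])
  let ψ : Multiplicative (ZMod n) →* G := (A.subtype.comp (zpowers y).subtype).comp e.toMonoidHom
  have hψ : Function.Injective ψ :=
    (A.subtype_injective.comp (zpowers y).subtype_injective).comp e.injective
  have hc : ∀ s i, Commute (φ s) (ψ i) := fun s i => hA (e i).1.2 _ ⟨s, rfl⟩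
  refine ⟨(MulEquiv.ofBijective (φ.noncommCoprod ψ hc) ?_).symm⟩
  rw [Nat.bijective_iff_injective_and_card, Nat.card_prod, h4, h3]
  refine ⟨(MonoidHom.noncommCoprod_injective _ _ _).2 ⟨hφ, hψ, disjoint_of_coprime_natCard ?_⟩, rfl⟩
  rw [← Nat.card_congr (MonoidHom.ofInjective hφ).toEquiv,
    ← Nat.card_congr (MonoidHom.ofInjective hψ).toEquiv, h4]
  exact ((Nat.Prime.coprime_iff_not_dvd hn.out).2 h2).symm

set_option synthInstance.maxSize 2000 in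
theorem sl5_num : ∀ k < 4, ∀ m < 5, ∀ e < 4, ¬ (0 < k ∧ 2 ≤ m ∧ e ∣ k) ∨ ∀ c ∈ [60, 120], ∀ p < 360,
    7 ≤ p ∧ e * c ∣ (p ^ k) ^ m - 1 ∧
    ((p ^ k) ^ m - 1) / (e * c) ∣ p ^ k - 1 ∧ 2 ∣ ((p ^ k) ^ m - 1) / (e * c) ∧
    ¬ 4 ∣ ((p ^ k) ^ m - 1) / (e * c) ∧ ¬ 3 ∣ ((p ^ k) ^ m - 1) / (e * c) ∧ p.Prime →
    k = 1 ∧ m = 2 ∧ c = 60 ∧ (p = 11 ∨ p = 29 ∨ p = 59) := by
  decide +kernel

theorem sl5_num' {p k m e c a : ℕ} (hp : p.Prime) (hk : 0 < k) (hm : 2 ≤ m) (he : e ∣ k)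
    (h1 : 60 ∣ c) (h2 : c ∣ 120) (h3 : (p ^ k) ^ m - 1 = e * c * a) (h4 : a ∣ p ^ k - 1)
    (h5 : 2 ∣ a) (h6 : ¬ 4 ∣ a) (h7 : ¬ 3 ∣ a) :
    k = 1 ∧ m = 2 ∧ c = 60 ∧ (p = 11 ∨ p = 29 ∨ p = 59) := by
  have hc : c ∈ [60, 120] := by
    obtain ⟨t, rfl⟩ := h1
    have := Nat.le_of_dvd (by norm_num) h2
    have : t ≠ 0 := by rintro rfl; simp at h2
    obtain rfl | rfl : t = 1 ∨ t = 2 := by omega
    all_goals simp
  have hc' : c ≤ 120 := Nat.le_of_dvd (by norm_num) h2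
  have hc0 : 0 < c := Nat.pos_of_dvd_of_pos h2 (by norm_num)
  have he' := Nat.le_of_dvd hk he
  have he0 := Nat.pos_of_dvd_of_pos he hk
  have h8 : ¬ p ∣ 60 := fun h => by
    have h9 : p ∣ (p ^ k) ^ m - 1 := h3 ▸ ((h.trans h1).mul_left e).mul_right a
    have h10 : p ∣ (p ^ k) ^ m := dvd_pow (dvd_pow_self p hk.ne') (by omega)
    exact hp.one_lt.ne' (Nat.dvd_one.1 ((Nat.dvd_sub_iff_right (Nat.one_le_pow _ _ (Nat.pow_pos hp.pos)) h10).1 h9))
  have hp7 : 7 ≤ p := by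
    by_contra h
    have : p < 7 := by omega
    interval_cases p <;> simp_all (config := { decide := true })
  have hq : 7 ^ k ≤ p ^ k := Nat.pow_le_pow_left hp7 k
  have hq1 : 1 < p ^ k := Nat.one_lt_pow hk.ne' hp.one_lt
  have hb : ∀ j, j + 1 ≤ m → (p ^ k) ^ j < 120 * k := by
    intro j hj
    have a1 : e * c * a ≤ k * 120 * (p ^ k - 1) :=
      Nat.mul_le_mul (Nat.mul_le_mul he' hc') (Nat.le_of_dvd (by omega) h4)
    obtain ⟨m, rfl⟩ : ∃ m', m = m' + 1 := ⟨m - 1, by omega⟩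
    have a2 : (p ^ k) ^ j ≤ (p ^ k) ^ m := Nat.pow_le_pow_right (by omega) (by omega)
    have a3 : p ^ k ≤ (p ^ k) ^ m := Nat.le_self_pow (by omega) _
    generalize p ^ k = q at *
    obtain ⟨q, rfl⟩ : ∃ q', q = q' + 1 := ⟨q - 1, by omega⟩
    rw [← h3, pow_succ, Nat.add_sub_cancel] at a1
    generalize (q + 1) ^ m = t at *
    by_contra a4
    have a5 : k * 120 * q ≤ t * q := Nat.mul_le_mul_right q (by omega)
    have a6 : t * (q + 1) = t * q + t := by ring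
    omega
  have hk4 : k < 4 := by
    have h9 := hq.trans_lt ((pow_one _).symm.le.trans_lt (hb 1 hm))
    by_contra h
    obtain ⟨j, rfl⟩ : ∃ j, k = j + 4 := ⟨k - 4, by omega⟩
    have : j < 7 ^ j := Nat.lt_pow_self (by norm_num)
    rw [pow_add] at h9
    omega
  have hp360 : p < 360 := by
    have h9 := (Nat.le_self_pow hk.ne' p).trans_lt ((pow_one _).symm.le.trans_lt (hb 1 hm))
    omega
  have hm5 : m < 5 := by
    by_contra h
    have h9 := (Nat.pow_le_pow_left (hp7.trans (Nat.le_self_pow hk.ne' p)) 4).trans_lt (hb 4 (by omega))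
    omega
  have ha : ((p ^ k) ^ m - 1) / (e * c) = a := by
    rw [h3, Nat.mul_div_cancel_left _ (Nat.mul_pos he0 hc0)]
  exact (sl5_num k hk4 m hm5 e (by omega)).resolve_left (not_not.2 ⟨hk, hm, he⟩) c hc p hp360
    ⟨hp7, ⟨a, h3⟩, ha ▸ h4, ha ▸ h5, ha ▸ h6, ha ▸ h7, hp⟩

end Cfsg.Agent.H24
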