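import Cfsg.Agent.H24.Order3
import Cfsg.Agent.H24.SL5A5

/-! The elements of order three in a group with a fixed point free representation. -/

set_option autoImplicit false

namespace Cfsg.Agent.H24

variable {G : Type*} [Group G] [Finite G]

theorem fpfRepC (g : G) (hg : g ≠ 1) (v : fpfSpace ℂ G) (hv : fpfRep ℂ G g v = v) : v = 0 :=
  fpfRep_fpf ℂ (by exact_mod_cast Nat.card_pos.ne') g hg v hv

theorem Fpf.central_invol (h : Fpf G) {z : G} (hz1 : z ≠ 1) (hz : z ^ 2 = 1) (g : G) :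
    g * z = z * g :=
  have := h.nontrivial_fpfSpace ℂ
  central_of_invol fpfRepC hz1 hz g

theorem Fpf.invol_unique (h : Fpf G) {z : G} (hz1 : z ≠ 1) (hz : z ^ 2 = 1) {w : G} (hw1 : w ≠ 1)
    (hw : w ^ 2 = 1) : w = z := by
  have := h.nontrivial_fpfSpace ℂ
  apply rep_injective fpfRepC
  rw [rep_invol fpfRepC hz1 hz, rep_invol fpfRepC hw1 hw]

theorem Fpf.sq_eq (h : Fpf G) {z : G} (hz1 : z ≠ 1) (hz : z ^ 2 = 1) {w : G}
    (hw : orderOf w = 4) : w ^ 2 = z :=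
  have := h.nontrivial_fpfSpace ℂ
  sq_eq_of_orderOf_four fpfRepC hz1 hz hw

theorem Fpf.pair_cases (h : Fpf G) {x y : G} (hx1 : x ≠ 1)
    (hx : x ^ 3 = 1) (hy1 : y ≠ 1) (hy : y ^ 3 = 1) :
    x * y = 1 ∨ x = y ∨ orderOf (x * y) = 4 ∨ orderOf (x * y⁻¹) = 4 ∨
      (orderOf (x * y) = 10 ∧ orderOf (x * y⁻¹) = 10) :=
  have := h.nontrivial_fpfSpace ℂ
  pair_cases_rep fpfRepC hx1 hx hy1 hy

theorem Fpf.rel_conj_of_ten (h : Fpf G) {z : G} (hz1 : z ≠ 1) (hz : z ^ 2 = 1)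
    {x y : G} (hx1 : x ≠ 1) (hx : x ^ 3 = 1) (hy1 : y ≠ 1) (hy : y ^ 3 = 1)
    (h10 : orderOf (x * y) = 10) : (x * (y * x * y⁻¹)) ^ 2 = z :=
  have := h.nontrivial_fpfSpace ℂ
  rel_conj_of_golden fpfRepC hz1 hz hx1 hx hy1 hy h10

theorem Fpf.not_rel_inv (h : Fpf G) {z : G}
    (hz1 : z ≠ 1) (hz : z ^ 2 = 1) {x y : G} (hx1 : x ≠ 1) (hx : x ^ 3 = 1) (hy1 : y ≠ 1)
    (hy : y ^ 3 = 1) (h1 : (x * y) ^ 2 = z) (h2 : (x * y⁻¹) ^ 2 = z) : False :=
  have := h.nontrivial_fpfSpace ℂ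
  not_rel_inv_rep fpfRepC hz1 hz hx1 hx hy1 hy h1 h2

theorem Fpf.rel_trans (h : Fpf G) {z : G} (hz1 : z ≠ 1) (hz : z ^ 2 = 1)
    {x y y' : G} (hx1 : x ≠ 1) (hx : x ^ 3 = 1) (hy1 : y ≠ 1) (hy : y ^ 3 = 1) (hy1' : y' ≠ 1)
    (hy' : y' ^ 3 = 1) (h1 : (x * y) ^ 2 = z) (h2 : (x * y') ^ 2 = z) :
    ∃ g : G, (g = 1 ∨ g = x ∨ g = x⁻¹) ∧ (y' = g * y * g⁻¹ ∨ (y' * (g * y * g⁻¹)) ^ 2 = z) :=
  have := h.nontrivial_fpfSpace ℂ
  transitive_rep fpfRepC hz1 hz hx1 hx hy1 hy hy1' hy' h1 h2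

theorem Fpf.eq_or_inv_of_commute (h : Fpf G) {x y : G} (hx1 : x ≠ 1)
    (hx : x ^ 3 = 1) (hy1 : y ≠ 1) (hy : y ^ 3 = 1) (hc : x * y = y * x) : x = y ∨ x = y⁻¹ := by
  have hc' : Commute x y := hc
  have h1 : orderOf (x * y) ∣ 3 := orderOf_dvd_of_pow_eq_one (by rw [hc'.mul_pow, hx, hy, one_mul])
  have h2 : orderOf (x * y⁻¹) ∣ 3 :=
    orderOf_dvd_of_pow_eq_one (by rw [hc'.inv_right.mul_pow, hx, cube_inv hy, one_mul])
  rcases h.pair_cases hx1 hx hy1 hy with e | e | e | e | e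
  · exact Or.inr (eq_inv_of_mul_eq_one_left e)
  · exact Or.inl e
  · rw [e] at h1; exact absurd h1 (by decide)
  · rw [e] at h2; exact absurd h2 (by decide)
  · rw [e.1] at h1; exact absurd h1 (by decide)

omit [Finite G] in
theorem triple_ten {z : G} (hc : ∀ g, g * z = z * g) (hz : z ^ 2 = 1) {a b c : G} (ha : a ^ 3 = 1)
    (hb : b ^ 3 = 1) (hc' : c ^ 3 = 1) (hab : (a * b) ^ 2 = z) (hac : (a * c) ^ 2 = z)
    (hbc : (b * c) ^ 2 = z) : (a⁻¹ * b * c) ^ 10 = 1 := by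
  obtain ⟨φ, rfl, rfl, rfl, -⟩ := SL5.exists_hom ha hb hc' hz (hc a) (hc b) (hc c) hab hac hbc
  rw [← map_inv, ← map_mul, ← map_mul, ← map_pow, SL5.ABC, map_one]

omit [Finite G] in
theorem triple_sq_ne {z : G} (hc : ∀ g, g * z = z * g) (hz1 : z ≠ 1) (hz : z ^ 2 = 1) {a b c : G}
    (ha : a ^ 3 = 1) (hb : b ^ 3 = 1) (hc' : c ^ 3 = 1) (hab : (a * b) ^ 2 = z)
    (hac : (a * c) ^ 2 = z) (hbc : (b * c) ^ 2 = z) : (a⁻¹ * b * c) ^ 2 ≠ z := by
  intro h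
  have := triple_ten hc hz ha hb hc' hab hac hbc
  rw [show 10 = 2 * 5 from rfl, pow_mul, h, pow_succ z 4, show 4 = 2 * 2 from rfl, pow_mul, hz,
    one_pow, one_mul] at this
  exact hz1 this

omit [Finite G] in
theorem triple_cube_ne {z : G} (hc : ∀ g, g * z = z * g) (hz1 : z ≠ 1) (hz : z ^ 2 = 1)
    {a b c : G} (ha : a ^ 3 = 1) (hb : b ^ 3 = 1) (hc' : c ^ 3 = 1) (hab : (a * b) ^ 2 = z)
    (hac : (a * c) ^ 2 = z) (hbc : (b * c) ^ 2 = z) : (a⁻¹ * b * c) ^ 3 ≠ 1 := by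
  intro h
  have := triple_ten hc hz ha hb hc' hab hac hbc
  rw [pow_succ _ 9, show 9 = 3 * 3 from rfl, pow_mul, h, one_pow, one_mul, mul_assoc,
    inv_mul_eq_one] at this
  rw [← this] at hbc
  have h2 : a ^ 4 = 1 := by rw [show 4 = 2 * 2 from rfl, pow_mul, hbc, hz]
  rw [pow_succ, ha, one_mul] at h2
  rw [h2, one_pow] at hbc
  exact hz1 hbc.symm

omit [Finite G] in
theorem sq_central_mul {z : G} (hc : ∀ g, g * z = z * g) (hz : z ^ 2 = 1) (u w : G) :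
    (u * (z * w)) ^ 2 = (u * w) ^ 2 := by
  have : Commute z (u * w) := (hc _).symm
  rw [← mul_assoc, hc u, mul_assoc, this.mul_pow, hz, one_mul]

theorem Fpf.third_cases (h : Fpf G) {z : G} (hz1 : z ≠ 1) (hz : z ^ 2 = 1) {p q a b : G}
    (hp1 : p ≠ 1) (hp : p ^ 3 = 1) (hq : q ^ 3 = 1) (ha1 : a ≠ 1) (ha : a ^ 3 = 1)
    (hb1 : b ≠ 1) (hb : b ^ 3 = 1) (hpq : (p * q) ^ 2 = z) (hpa : (p * a) ^ 2 = z)
    (hqa : (q * a) ^ 2 = z) (hpb : (p * b) ^ 2 = z) (hqb : (q * b) ^ 2 = z) :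
    a = b ∨ (a * b) ^ 2 = z ∨ p = z * ((a * b⁻¹) * (a⁻¹ * b)) ∨
      p = z * ((a * b⁻¹)⁻¹ * (a⁻¹ * b)⁻¹) := by
  have hc := h.central_invol hz1 hz
  have hzi : z⁻¹ = z := by rw [inv_eq_iff_mul_eq_one, ← sq, hz]
  have hst := conj_mul_inv_of_rel hc hpa hpb
  have hpp : p = (p * p)⁻¹ := by rw [eq_inv_iff_mul_eq_one, ← pow_three, hp]
  obtain ⟨g, rfl | rfl | rfl, h1 | h1⟩ := h.rel_trans hz1 hz hp1 hp hb1 hb ha1 ha hpb hpa
  · exact Or.inl (by simpa using h1)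
  · exact Or.inr (Or.inl (by simpa using h1))
  · exfalso
    have e : b = z * (g * a⁻¹) := by
      rw [← mul_assoc, ← conj_eq_of_rel' hc hp hpa, h1]; group
    rw [e, sq_central_mul hc hz, ← mul_assoc] at hqb
    refine triple_sq_ne hc hz1 hz ha hq hp (rel_symm hc hqa) (rel_symm hc hpa) (rel_symm hc hpq) ?_
    rw [mul_assoc]
    exact rel_symm hc hqb
  · refine Or.inr (Or.inr (Or.inl ?_))
    rw [conj_eq_of_rel hp hpb, mul_assoc, sq_central_mul hc hz] at h1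
    have e : g * g = (a⁻¹ * b)⁻¹ * (a * b⁻¹)⁻¹ * z := by
      rw [← h1, ← hst, sq]; group
    rw [hpp, e, mul_inv_rev, hzi]; group
  · exfalso
    have e : b = z * (a⁻¹ * p) := by
      rw [← mul_assoc, ← conj_eq_of_rel hp hpa, h1]; group
    rw [e, sq_central_mul hc hz] at hqb
    exact triple_sq_ne hc hz1 hz ha hp hq (rel_symm hc hpa) (rel_symm hc hqa) hpq (rel_symm hc hqb)
  · refine Or.inr (Or.inr (Or.inr ?_))
    rw [inv_inv, conj_eq_of_rel' hc hp hpb, mul_assoc, sq_central_mul hc hz] at h1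
    have h2 := rel_symm hc h1
    have e : p * p = z * ((a⁻¹ * b) * (a * b⁻¹)) := by
      rw [← h2]
      conv_rhs => rw [sq, mul_assoc p b⁻¹ a, show b⁻¹ * a = (a⁻¹ * b)⁻¹ by group, ← hst]
      group
    rw [hpp, e, mul_inv_rev, hzi, hc]; group

omit [Finite G] in
theorem sixth_of_mixed {z : G} (hc : ∀ g, g * z = z * g) (hz : z ^ 2 = 1) {p q s t : G}
    (hp : p ^ 3 = 1) (hq : q ^ 3 = 1) (hpq : (p * q) ^ 2 = z) (hst : p * s * p⁻¹ = t)
    (e1 : p = z * (s * t)) (e2 : q = z * (s⁻¹ * t⁻¹)) : s ^ 6 = 1 := by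
  have hzi : z⁻¹ = z := by rw [inv_eq_iff_mul_eq_one, ← sq, hz]
  have braid : s * t * s = t * s * t := by
    have : s * t * s * (s * t)⁻¹ = t := by
      conv_rhs => rw [← hst, e1, ← hc]
      rw [mul_assoc (s * t) z s, ← hc]
      group
    rw [mul_inv_eq_iff_eq_mul] at this
    rw [this, mul_assoc]
  have cube : (s * t) ^ 3 = z := by
    have : Commute z (s * t) := (hc _).symm
    rw [e1, this.mul_pow, pow_succ z 2, hz, one_mul, mul_eq_one_iff_inv_eq, hzi] at hp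
    exact hp.symm
  have e3 : p * q * p⁻¹ = (s ^ 2)⁻¹ := by
    rw [conj_eq_of_rel hp hpq, e1, e2, mul_inv_rev, hzi, eq_inv_iff_mul_eq_one,
      mul_assoc z, mul_assoc _ z, ← mul_assoc z z, ← sq, hz, one_mul]
    calc _ = z * (t * s * (s * t * s) * s) := by rw [sq]; group
      _ = z * (s⁻¹ * (s * t) ^ 3 * s) := by rw [braid, pow_three]; group
      _ = 1 := by rw [cube, hc s⁻¹, mul_assoc z, inv_mul_cancel, mul_one, ← sq, hz]
  have := cube_conj hq p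
  rw [e3, inv_pow, inv_eq_one, ← pow_mul] at this
  exact this

theorem Fpf.unique_third (h : Fpf G) {z : G} (hz1 : z ≠ 1) (hz : z ^ 2 = 1) {p q a b : G}
    (hp1 : p ≠ 1) (hp : p ^ 3 = 1) (hq1 : q ≠ 1) (hq : q ^ 3 = 1) (ha1 : a ≠ 1) (ha : a ^ 3 = 1)
    (hb1 : b ≠ 1) (hb : b ^ 3 = 1) (hpq : (p * q) ^ 2 = z) (hpa : (p * a) ^ 2 = z)
    (hqa : (q * a) ^ 2 = z) (hpb : (p * b) ^ 2 = z) (hqb : (q * b) ^ 2 = z) : a = b := by
  have hc := h.central_invol hz1 hz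
  have hqp := rel_symm hc hpq
  have hst := conj_mul_inv_of_rel hc hpa hpb
  have hst' := conj_mul_inv_of_rel hc hqa hqb
  by_contra hab
  have hrel : (a * b) ^ 2 ≠ z := by
    intro hr
    have e1 := conj_eq_of_rel' hc ha hr
    have e2 := conj_eq_of_rel hp hpq
    have c1 : (q⁻¹ * p) * (a * b⁻¹) = (a * b⁻¹) * (q⁻¹ * p) := by
      calc (q⁻¹ * p) * (a * b⁻¹) = q⁻¹ * (p * (a * b⁻¹) * p⁻¹) * p := by group
        _ = q⁻¹ * (q * (a * b⁻¹) * q⁻¹) * p := by rw [hst, hst']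
        _ = _ := by group
    have cz : ∀ g, Commute z g := fun g => (hc g).symm
    have c2 : Commute (p * q * p⁻¹) (a⁻¹ * b * a) := by
      rw [e1, e2, mul_assoc, mul_assoc]
      exact (cz _).mul_left ((cz _).symm.mul_right c1)
    have t1 : a⁻¹ * b * a ≠ 1 := by
      have : a⁻¹ * b * a⁻¹⁻¹ ≠ 1 := by rwa [Ne, conj_eq_one_iff]
      rwa [inv_inv] at this
    have t2 : (a⁻¹ * b * a) ^ 3 = 1 := by simpa using cube_conj hb a⁻¹
    rcases h.eq_or_inv_of_commute (by rwa [Ne, conj_eq_one_iff]) (cube_conj hq p) t1 t2 c2 with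
      e | e
    · rw [e1, e2, mul_assoc, mul_assoc, mul_right_inj] at e
      refine triple_cube_ne hc hz1 hz hp hq ha hpq hpa hqa ?_
      rwa [show p⁻¹ * q * a = b by
        calc p⁻¹ * q * a = (q⁻¹ * p)⁻¹ * a := by group
          _ = b := by rw [e]; group]
    · rw [eq_inv_iff_mul_eq_one, e1, e2, mul_assoc z a, mul_assoc z q⁻¹, mul_assoc, ← mul_assoc _ z,
        hc, mul_assoc, ← mul_assoc z z, ← sq, hz, one_mul] at e
      refine triple_cube_ne hc hz1 hz hq hp ha hqp hqa hpa ?_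
      rwa [show q⁻¹ * p * a = b by
        calc q⁻¹ * p * a = (q⁻¹ * p * (a * b⁻¹)) * b := by group
          _ = b := by rw [e, one_mul]]
  have hpq' : p ≠ q := by
    rintro rfl
    have h4 : p ^ 4 = z := by rw [← hpq, ← sq, ← pow_mul]
    rw [pow_succ, hp, one_mul] at h4
    rw [h4, pow_succ, hz, one_mul] at hp
    exact hz1 hp
  have h6 : (a * b⁻¹) ^ 6 = 1 := by
    rcases h.third_cases hz1 hz hp1 hp hq ha1 ha hb1 hb hpq hpa hqa hpb hqb with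
      e | e | e | e
    · exact absurd e hab
    · exact absurd e hrel
    · rcases h.third_cases hz1 hz hq1 hq hp ha1 ha hb1 hb hqp hqa hpa hqb hpb with
        e' | e' | e' | e'
      · exact absurd e' hab
      · exact absurd e' hrel
      · exact absurd (e.trans e'.symm) hpq'
      · exact sixth_of_mixed hc hz hp hq hpq hst e e'
    · rcases h.third_cases hz1 hz hq1 hq hp ha1 ha hb1 hb hqp hqa hpa hqb hpb with
        e' | e' | e' | e'
      · exact absurd e' hab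
      · exact absurd e' hrel
      · exact sixth_of_mixed hc hz hq hp hqp hst' e' e
      · exact absurd (e.trans e'.symm) hpq'
  have h7 := orderOf_dvd_of_pow_eq_one h6
  rcases h.pair_cases ha1 ha hb1 hb with e | e | e | e | e
  · exact h.not_rel_inv hz1 hz hp1 hp hb1 hb hpb (by rwa [← eq_inv_of_mul_eq_one_left e])
  · exact hab e
  · exact hrel (h.sq_eq hz1 hz e)
  · rw [e] at h7; exact absurd h7 (by decide)
  · rw [e.2] at h7; exact absurd h7 (by decide)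

omit [Finite G] in
theorem exists_invol_of_even {w : G} {k : ℕ} (hk : k ≠ 0) (hw : orderOf w = 2 * k) :
    ∃ z : G, z ≠ 1 ∧ z ^ 2 = 1 :=
  ⟨w ^ k, pow_ne_one_of_lt_orderOf hk (by omega), by
    rw [← pow_mul, mul_comm, ← hw, pow_orderOf_eq_one]⟩

theorem Fpf.exists_rel (h : Fpf G) {x y : G} (hx1 : x ≠ 1) (hx : x ^ 3 = 1) (hy1 : y ≠ 1)
    (hy : y ^ 3 = 1) (h1 : y ≠ x) (h2 : y ≠ x⁻¹) :
    ∃ z y' : G, z ≠ 1 ∧ z ^ 2 = 1 ∧ y' ≠ 1 ∧ y' ^ 3 = 1 ∧ (x * y') ^ 2 = z := by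
  rcases h.pair_cases hx1 hx hy1 hy with e | e | e | e | e
  · exact absurd (eq_inv_of_mul_eq_one_right e) h2
  · exact absurd e.symm h1
  · obtain ⟨z, hz1, hz⟩ := exists_invol_of_even (k := 2) (by norm_num) e
    exact ⟨z, y, hz1, hz, hy1, hy, h.sq_eq hz1 hz e⟩
  · obtain ⟨z, hz1, hz⟩ := exists_invol_of_even (k := 2) (by norm_num) e
    exact ⟨z, y⁻¹, hz1, hz, inv_ne_one.mpr hy1, cube_inv hy, h.sq_eq hz1 hz e⟩
  · obtain ⟨z, hz1, hz⟩ := exists_invol_of_even (k := 5) (by norm_num) e.1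
    exact ⟨z, y * x * y⁻¹, hz1, hz, by rwa [Ne, conj_eq_one_iff], cube_conj hx y,
      h.rel_conj_of_ten hz1 hz hx1 hx hy1 hy e.1⟩

theorem Fpf.triple_of_ten (h : Fpf G) {z : G} (hz1 : z ≠ 1) (hz : z ^ 2 = 1)
    {x y : G} (hx1 : x ≠ 1) (hx : x ^ 3 = 1) (hy1 : y ≠ 1) (hy : y ^ 3 = 1)
    (h1 : orderOf (x * y) = 10) (h2 : orderOf (x * y⁻¹) = 10) :
    (x * (y * x * y⁻¹)) ^ 2 = z ∧ (x * (y⁻¹ * x * y)) ^ 2 = z ∧
      ((y * x * y⁻¹) * (y⁻¹ * x * y)) ^ 2 = z := by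
  have r1 := h.rel_conj_of_ten hz1 hz hx1 hx hy1 hy h1
  have r2 := h.rel_conj_of_ten hz1 hz hx1 hx (inv_ne_one.mpr hy1) (cube_inv hy) h2
  rw [inv_inv] at r2
  refine ⟨r1, r2, ?_⟩
  have r3 := rel_conj (h.central_invol hz1 hz) r1 y
  have e : y⁻¹ = y * y := by rw [inv_eq_iff_mul_eq_one, ← pow_three, hy]
  rwa [show y * (y * x * y⁻¹) * y⁻¹ = y⁻¹ * x * y by
    calc y * (y * x * y⁻¹) * y⁻¹ = (y * y) * x * (y * y)⁻¹ := by group
      _ = y⁻¹ * x * y := by rw [← e, inv_inv]] at r3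

/-- If there is no Carmichael triple, the elements of order three lie in a copy of `SL(2,3)`. -/
theorem Fpf.cases_of_no_triple (h : Fpf G) {z : G} (hz1 : z ≠ 1) (hz : z ^ 2 = 1) {x y : G}
    (hx1 : x ≠ 1) (hx : x ^ 3 = 1) (hy1 : y ≠ 1) (hy : y ^ 3 = 1) (hxy : (x * y) ^ 2 = z)
    (hno : ∀ b c : G, b ^ 3 = 1 → c ^ 3 = 1 → (x * b) ^ 2 = z → (x * c) ^ 2 = z → (b * c) ^ 2 ≠ z)
    {w : G} (hw1 : w ≠ 1) (hw : w ^ 3 = 1) :
    ∃ t : G, (t = w ∨ t = w⁻¹) ∧ (t = x ∨ t = y ∨ t = x * y * x⁻¹ ∨ t = x⁻¹ * y * x) := by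
  have key : ∀ t : G, t ≠ 1 → t ^ 3 = 1 → (x * t) ^ 2 = z →
      (t = x ∨ t = y ∨ t = x * y * x⁻¹ ∨ t = x⁻¹ * y * x) := by
    intro t ht1 ht hr
    obtain ⟨g, hg, h1 | h1⟩ := h.rel_trans hz1 hz hx1 hx hy1 hy ht1 ht hxy hr
    · rcases hg with rfl | rfl | rfl
      · exact Or.inr (Or.inl (by simpa using h1))
      · exact Or.inr (Or.inr (Or.inl h1))
      · exact Or.inr (Or.inr (Or.inr (by simpa using h1)))
    · refine absurd h1 (hno _ _ ht (cube_conj hy g) hr ?_)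
      have := rel_conj (h.central_invol hz1 hz) hxy g
      rwa [show g * x * g⁻¹ = x by rcases hg with rfl | rfl | rfl <;> group] at this
  rcases h.pair_cases hx1 hx hw1 hw with e | e | e | e | e
  · exact ⟨x, Or.inr (eq_inv_of_mul_eq_one_left e), Or.inl rfl⟩
  · exact ⟨x, Or.inl e, Or.inl rfl⟩
  · exact ⟨w, Or.inl rfl, key w hw1 hw (h.sq_eq hz1 hz e)⟩
  · exact ⟨w⁻¹, Or.inr rfl, key _ (inv_ne_one.mpr hw1) (cube_inv hw) (h.sq_eq hz1 hz e)⟩
  · obtain ⟨r1, r2, r3⟩ := h.triple_of_ten hz1 hz hx1 hx hw1 hw e.1 e.2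
    exact absurd r3 (hno _ _ (cube_conj hx w) (by simpa using cube_conj hx w⁻¹) r1 r2)

omit [Finite G] in
theorem ne_one_of_rel {z x y : G} (hz1 : z ≠ 1) (hz : z ^ 2 = 1) (hx : x ^ 3 = 1)
    (h : (x * y) ^ 2 = z) : y ≠ 1 := by
  rintro rfl
  rw [mul_one] at h
  have h2 : x ^ 4 = 1 := by rw [show 4 = 2 * 2 from rfl, pow_mul, h, hz]
  rw [pow_succ, hx, one_mul] at h2
  rw [h2, one_pow] at h
  exact hz1 h.symm

/-- A subgroup containing a Carmichael triple contains all elements of order three. -/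
theorem Fpf.mem_of_triple (h : Fpf G) {z : G} (hz1 : z ≠ 1) (hz : z ^ 2 = 1) {a b c : G}
    (ha : a ^ 3 = 1) (hb : b ^ 3 = 1) (hc' : c ^ 3 = 1) (hab : (a * b) ^ 2 = z)
    (hac : (a * c) ^ 2 = z) (hbc : (b * c) ^ 2 = z) {S : Subgroup G} (haS : a ∈ S) (hbS : b ∈ S)
    (hcS : c ∈ S) {w : G} (hw : w ^ 3 = 1) : w ∈ S := by
  have hc := h.central_invol hz1 hz
  by_cases hw1 : w = 1
  · rw [hw1]; exact one_mem _
  have ha1 := ne_one_of_rel hz1 hz hb (rel_symm hc hab)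
  have hb1 := ne_one_of_rel hz1 hz ha hab
  have hc1 := ne_one_of_rel hz1 hz ha hac
  have key : ∀ t : G, t ^ 3 = 1 → (a * t) ^ 2 = z → t ∈ S := by
    intro t ht hr
    have ht1 := ne_one_of_rel hz1 hz ha hr
    obtain ⟨g, hg, h1⟩ := h.rel_trans hz1 hz ha1 ha hb1 hb ht1 ht hab hr
    have hgS : g ∈ S := by
      rcases hg with rfl | rfl | rfl
      exacts [one_mem _, haS, inv_mem haS]
    rcases h1 with h1 | h1
    · rw [h1]; exact mul_mem (mul_mem hgS hbS) (inv_mem hgS)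
    · have r1 := rel_conj hc hr g⁻¹
      rw [show g⁻¹ * a * g⁻¹⁻¹ = a by rcases hg with rfl | rfl | rfl <;> group] at r1
      have r2 := rel_conj hc h1 g⁻¹
      rw [show g⁻¹ * (g * b * g⁻¹) * g⁻¹⁻¹ = b by group] at r2
      have e := h.unique_third hz1 hz ha1 ha hb1 hb hc1 hc' (by rwa [Ne, conj_eq_one_iff])
        (cube_conj ht g⁻¹) hab hac hbc r1 (rel_symm hc r2)
      rw [show t = g * c * g⁻¹ by rw [e]; group]
      exact mul_mem (mul_mem hgS hcS) (inv_mem hgS)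
  rcases h.pair_cases ha1 ha hw1 hw with e | e | e | e | e
  · rw [eq_inv_of_mul_eq_one_right e]; exact inv_mem haS
  · rwa [← e]
  · exact key w hw (h.sq_eq hz1 hz e)
  · exact inv_mem_iff.mp (key _ (cube_inv hw) (h.sq_eq hz1 hz e))
  · obtain ⟨r1, r2, r3⟩ := h.triple_of_ten hz1 hz ha1 ha hw1 hw e.1 e.2
    have t1 := cube_conj ha w
    have t2 : (w⁻¹ * a * w) ^ 3 = 1 := by simpa using cube_conj ha w⁻¹
    obtain ⟨φ, hA, hB, hC, -⟩ := SL5.exists_hom ha t1 t2 hz (hc _) (hc _) (hc _) r1 r2 r3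
    have hrange : ∀ T : Subgroup G, a ∈ T → w * a * w⁻¹ ∈ T → w⁻¹ * a * w ∈ T → φ SL5.M ∈ T := by
      intro T h1 h2 h3
      have : Subgroup.closure {SL5.A, SL5.B, SL5.C} ≤ T.comap φ := by
        rw [Subgroup.closure_le]
        rintro s (rfl | rfl | rfl)
        · exact (hA ▸ h1 : φ _ ∈ T)
        · exact (hB ▸ h2 : φ _ ∈ T)
        · exact (hC ▸ h3 : φ _ ∈ T)
      exact this (SL5.closure_ABC ▸ Subgroup.mem_top _)
    set m := φ SL5.M with hm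
    have hmS : m ∈ S := hrange S haS (key _ t1 r1) (key _ t2 r2)
    have m1 : m * a * m⁻¹ = w * a * w⁻¹ := by
      rw [← hB, ← SL5.MA, map_mul, map_mul, map_inv, hA]
    have m2 : m * (w * a * w⁻¹) * m⁻¹ = w⁻¹ * a * w := by
      rw [← hC, ← SL5.MB, map_mul, map_mul, map_inv, hB]
    have m3 : m * (w⁻¹ * a * w) * m⁻¹ = a := by
      conv_rhs => rw [← hA, ← SL5.MC, map_mul, map_mul, map_inv, hC]
    have ew : w⁻¹ = w * w := by rw [inv_eq_iff_mul_eq_one, ← pow_three, hw]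
    have hcm : m ∈ Subgroup.centralizer {m⁻¹ * w} := by
      apply hrange
      · rintro _ rfl
        calc m⁻¹ * w * a = m⁻¹ * (w * a * w⁻¹) * w := by group
          _ = _ := by rw [← m1]; group
      · rintro _ rfl
        calc m⁻¹ * w * (w * a * w⁻¹) = m⁻¹ * ((w * w) * a * (w * w)⁻¹) * w := by group
          _ = _ := by rw [← ew, inv_inv, ← m2]; group
      · rintro _ rfl
        calc m⁻¹ * w * (w⁻¹ * a * w) = m⁻¹ * a * w := by group
          _ = _ := by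
            conv_lhs => rw [← m3]
            group
    have hcomm : w * m = m * w := by
      have := hcm _ rfl
      calc w * m = m * (m⁻¹ * w * m) := by group
        _ = m * w := by rw [this]; group
    have hm3 : m ^ 3 = 1 := by rw [hm, ← map_pow, SL5.M3, map_one]
    have hm1 : m ≠ 1 := by
      intro e1
      rw [e1] at m1
      rw [← m1] at r1
      simp only [one_mul, inv_one, mul_one] at r1
      have h4 : a ^ 4 = z := by rw [← r1, ← sq, ← pow_mul]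
      rw [pow_succ, ha, one_mul] at h4
      rw [h4, pow_succ, hz, one_mul] at ha
      exact hz1 ha
    rcases h.eq_or_inv_of_commute hw1 hw hm1 hm3 hcomm with e1 | e1
    · rwa [e1]
    · rw [e1]; exact inv_mem hmS

end Cfsg.Agent.H24
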